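-- Simple groups of a given order: embedding theorem, Sylow counting, Burnside transfer.
--
-- Main results (namespace `Cfsg.Agent.SmallOrders`, `G` finite simple, `hG : ¬ IsMulCommutative G`):
-- * `not_isMulCommutative_of_card`, `card_not_prime`, `not_isPGroup`, `center_eq_bot`
-- * `exists_injective_alternating`, `two_mul_card_dvd_factorial_index`, `five_le_index`
-- * `SylowCand p e m d`: the conditions on a number of Sylow subgroups; `sylowCand_card`
-- * `normalizer_not_le_centralizer`: Burnside; `exists_prime_dvd_pow_sub_one`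
import Cfsg.Agent.EqLemmas

set_option autoImplicit false

namespace Cfsg.Agent.SmallOrders

open Subgroup

variable {G : Type*} [Group G]

/-- A simple group whose order is not prime is not commutative. -/
theorem not_isMulCommutative_of_card [Finite G] [IsSimpleGroup G] (h : ¬ (Nat.card G).Prime) :
    ¬ IsMulCommutative G := by
  intro hc
  let : CommGroup G := { ‹Group G› with mul_comm := fun a b => mul_comm' a b }
  exact h IsSimpleGroup.prime_card

theorem center_eq_bot [IsSimpleGroup G] (hG : ¬ IsMulCommutative G) : center G = ⊥ :=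
  (inferInstance : (center G).Normal).eq_bot_or_eq_top.resolve_right fun h =>
    hG ⟨⟨fun a b => (mem_center_iff.mp (h ▸ mem_top b) a)⟩⟩

theorem not_isPGroup [Finite G] [IsSimpleGroup G] (hG : ¬ IsMulCommutative G) (p : ℕ)
    [Fact p.Prime] : ¬ IsPGroup p G := fun h =>
  (nontrivial_iff_ne_bot (center G)).mp h.center_nontrivial (center_eq_bot hG)

theorem normalCore_eq_bot [IsSimpleGroup G] {H : Subgroup G} (hH : H ≠ ⊤) :
    H.normalCore = ⊥ :=
  H.normalCore_normal.eq_bot_or_eq_top.resolve_right fun h =>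
    hH (top_le_iff.mp (h ▸ H.normalCore_le))

/-- **Embedding theorem.** -/
theorem exists_injective_alternating [Finite G] [IsSimpleGroup G] (hG : ¬ IsMulCommutative G)
    (H : Subgroup G) (hH : H ≠ ⊤) :
    ∃ f : G →* ↥(alternatingGroup (Fin H.index)), Function.Injective f := by
  classical
  have e : G ⧸ H ≃ Fin H.index := Finite.equivFinOfCardEq rfl
  let φ : G →* Equiv.Perm (Fin H.index) :=
    e.permCongrHom.toMonoidHom.comp (MulAction.toPermHom G (G ⧸ H))
  have hker : φ.ker = ⊥ := by
    apply eq_bot_iff.mpr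
    intro x hx
    have hx' : MulAction.toPermHom G (G ⧸ H) x = 1 :=
      e.permCongrHom.injective (by rw [map_one]; exact hx)
    rw [← normalCore_eq_bot hH, normalCore_eq_ker]
    exact hx'
  have hinj : Function.Injective φ := (MonoidHom.ker_eq_bot_iff φ).mp hker
  have hsign : ∀ x, φ x ∈ alternatingGroup (Fin H.index) := by
    intro x
    rcases ((Equiv.Perm.sign.comp φ).normal_ker).eq_bot_or_eq_top with h | h
    · exact absurd ⟨⟨fun a b => (MonoidHom.ker_eq_bot_iff _).mp h
        (by simp only [map_mul, mul_comm])⟩⟩ hG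
    · have : x ∈ (Equiv.Perm.sign.comp φ).ker := h ▸ mem_top x
      rw [Equiv.Perm.mem_alternatingGroup]
      exact this
  exact ⟨φ.codRestrict _ hsign, fun a b h => hinj (congrArg Subtype.val h)⟩

theorem two_mul_card_dvd_factorial_index [Finite G] [IsSimpleGroup G]
    (hG : ¬ IsMulCommutative G) {H : Subgroup G} (hH : H ≠ ⊤) :
    2 * Nat.card G ∣ Nat.factorial H.index := by
  obtain ⟨f, hf⟩ := exists_injective_alternating hG H hH
  have h2 : 1 < H.index := H.one_lt_index_of_ne_top hH
  have : Nontrivial (Fin H.index) := Fin.nontrivial_iff_two_le.mpr h2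
  calc 2 * Nat.card G ∣ 2 * Nat.card (alternatingGroup (Fin H.index)) :=
        Nat.mul_dvd_mul_left 2 (card_dvd_of_injective f hf)
    _ = Nat.factorial H.index := by
        rw [two_mul_nat_card_alternatingGroup, Nat.card_perm, Nat.card_fin]

/-- In a non-abelian simple group no Sylow subgroup for a prime divisor is normal. -/
theorem normalizer_sylow_ne_top [Finite G] [IsSimpleGroup G] (hG : ¬ IsMulCommutative G)
    {p : ℕ} [Fact p.Prime] (hp : p ∣ Nat.card G) (P : Sylow p G) :
    normalizer ((P : Subgroup G) : Set G) ≠ ⊤ := fun h => by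
  rcases (normalizer_eq_top_iff.mp h).eq_bot_or_eq_top with hb | ht
  · exact P.ne_bot_of_dvd_card hp hb
  · refine not_isPGroup hG p (IsPGroup.of_equiv P.isPGroup' ?_)
    exact (MulEquiv.subgroupCongr ht).trans Subgroup.topEquiv

theorem one_lt_card_sylow [Finite G] [IsSimpleGroup G] (hG : ¬ IsMulCommutative G)
    {p : ℕ} [Fact p.Prime] (hp : p ∣ Nat.card G) : 1 < Nat.card (Sylow p G) := by
  obtain ⟨P⟩ := (inferInstance : Nonempty (Sylow p G))
  rw [P.card_eq_index_normalizer]
  exact one_lt_index_of_ne_top (normalizer_sylow_ne_top hG hp P)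

theorem two_mul_card_dvd_factorial_sylow [Finite G] [IsSimpleGroup G]
    (hG : ¬ IsMulCommutative G) {p : ℕ} [Fact p.Prime] (hp : p ∣ Nat.card G) :
    2 * Nat.card G ∣ Nat.factorial (Nat.card (Sylow p G)) := by
  obtain ⟨P⟩ := (inferInstance : Nonempty (Sylow p G))
  rw [P.card_eq_index_normalizer]
  exact two_mul_card_dvd_factorial_index hG (normalizer_sylow_ne_top hG hp P)

/-- The order of a Sylow subgroup, from a factorization `|G| = p ^ e * m`. -/
theorem card_sylow_subgroup [Finite G] {p e m : ℕ} [Fact p.Prime] (h : Nat.card G = p ^ e * m)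
    (hm : ¬ p ∣ m) (P : Sylow p G) : Nat.card (P : Subgroup G) = p ^ e := by
  have hp : p.Prime := Fact.out
  have hm0 : m ≠ 0 := fun h0 => hm (h0.symm ▸ dvd_zero p)
  rw [Sylow.card_eq_multiplicity, h, Nat.factorization_mul (pow_ne_zero _ hp.ne_zero) hm0,
    Finsupp.add_apply, hp.factorization_pow, Finsupp.single_eq_same,
    Nat.factorization_eq_zero_of_not_dvd hm, add_zero]

theorem index_sylow [Finite G] {p e m : ℕ} [Fact p.Prime] (h : Nat.card G = p ^ e * m)
    (hm : ¬ p ∣ m) (P : Sylow p G) : (P : Subgroup G).index = m := by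
  have hc := (P : Subgroup G).card_mul_index
  rw [card_sylow_subgroup h hm P, h] at hc
  exact Nat.eq_of_mul_eq_mul_left (pow_pos (Fact.out : p.Prime).pos _) hc

theorem card_normalizer_mul_card_sylow [Finite G] {p : ℕ} [Fact p.Prime] (P : Sylow p G) :
    Nat.card (normalizer ((P : Subgroup G) : Set G)) * Nat.card (Sylow p G) = Nat.card G := by
  rw [P.card_eq_index_normalizer]
  exact card_mul_index _

/-- Burnside's transfer theorem for simple groups. -/
theorem normalizer_not_le_centralizer [Finite G] [IsSimpleGroup G] (hG : ¬ IsMulCommutative G)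
    {p : ℕ} [Fact p.Prime] (hp : p ∣ Nat.card G) (P : Sylow p G) :
    ¬ normalizer ((P : Subgroup G) : Set G) ≤ centralizer ((P : Subgroup G) : Set G) := by
  intro h
  have hc := MonoidHom.ker_transferSylow_isComplement' P h
  rcases (MonoidHom.transferSylow P h).normal_ker.eq_bot_or_eq_top with hb | ht
  · rw [hb] at hc
    refine not_isPGroup hG p (IsPGroup.of_equiv P.isPGroup' ?_)
    exact (MulEquiv.subgroupCongr (isComplement'_bot_left.mp hc)).trans Subgroup.topEquiv
  · rw [ht] at hc
    exact P.ne_bot_of_dvd_card hp (isComplement'_top_left.mp hc)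

/-- An element of prime order `q ≠ p` acting non-trivially on a `p`-group of order `p ^ e`
forces `q ∣ p ^ i - 1` for some `1 ≤ i ≤ e`. -/
theorem exists_dvd_pow_sub_one_of_action {p q e : ℕ} [Fact p.Prime] [Fact q.Prime] (hpq : q ≠ p)
    {P : Type*} [Group P] [Finite P] (hP : Nat.card P = p ^ e) (σ : MulAut P) (hσ : σ ≠ 1)
    (hq : σ ^ q = 1) : ∃ i, 1 ≤ i ∧ i ≤ e ∧ q ∣ p ^ i - 1 := by
  let Q : Subgroup (MulAut P) := zpowers σ
  have hQ : IsPGroup q Q := IsPGroup.of_card (n := 1)
    (by rw [pow_one, Nat.card_zpowers, orderOf_eq_prime hq hσ])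
  let F : Subgroup P :=
    { carrier := MulAction.fixedPoints Q P
      one_mem' := fun g => map_one (g : MulAut P)
      mul_mem' := fun {a b} ha hb g => by
        show (g : MulAut P) (a * b) = a * b
        rw [map_mul]
        exact congrArg₂ (· * ·) (ha g) (hb g)
      inv_mem' := fun {a} ha g => by
        show (g : MulAut P) a⁻¹ = a⁻¹
        rw [map_inv]
        exact congrArg _ (ha g) }
  have hmod : Nat.card P ≡ Nat.card F [MOD q] := hQ.card_modEq_card_fixedPoints P
  obtain ⟨f, hf, hFf⟩ := (Nat.dvd_prime_pow Fact.out).mp (hP ▸ F.card_subgroup_dvd_card)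
  rw [hP, hFf] at hmod
  have hfe : f ≠ e := by
    rintro rfl
    apply hσ
    have hF : F = ⊤ := F.eq_top_of_card_eq (hFf.trans hP.symm)
    ext x
    exact (hF ▸ mem_top x : x ∈ F) ⟨σ, mem_zpowers σ⟩
  refine ⟨e - f, by omega, by omega, ?_⟩
  have hsplit : p ^ e = p ^ f * p ^ (e - f) := by rw [← pow_add]; congr 1; omega
  rw [hsplit] at hmod
  have hcop : Nat.Coprime q (p ^ f) :=
    ((Nat.coprime_primes Fact.out Fact.out).mpr hpq).pow_right f
  have hd : q ∣ p ^ f * p ^ (e - f) - p ^ f :=
    (Nat.modEq_iff_dvd' (Nat.le_mul_of_pos_right _ (pow_pos (Fact.out : p.Prime).pos _))).mp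
      hmod.symm
  rw [← Nat.mul_sub_one] at hd
  exact hcop.dvd_of_dvd_mul_left hd

/-- Burnside: for an abelian Sylow subgroup of order `p ^ e`, some prime dividing
`|N(P)| / p ^ e` divides some `p ^ i - 1`, `i ≤ e`. -/
theorem exists_prime_dvd_normalizer [Finite G] [IsSimpleGroup G] (hG : ¬ IsMulCommutative G)
    {p e m : ℕ} [Fact p.Prime] (he : e ≠ 0) (h : Nat.card G = p ^ e * m) (hm : ¬ p ∣ m)
    (P : Sylow p G) (hab : IsMulCommutative (P : Subgroup G)) :
    ∃ q i, q.Prime ∧ q * Nat.card (Sylow p G) ∣ m ∧ 1 ≤ i ∧ i ≤ e ∧ q ∣ p ^ i - 1 := by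
  have hp : p ∣ Nat.card G := h ▸ (dvd_pow_self p he).mul_right m
  set N := normalizer ((P : Subgroup G) : Set G) with hN
  let θ : N →* MulAut (P : Subgroup G) := (P : Subgroup G).normalizerMonoidHom
  have hker : ∀ x : N, θ x = 1 ↔ (x : G) ∈ centralizer ((P : Subgroup G) : Set G) := fun x => by
    rw [← MonoidHom.mem_ker, (P : Subgroup G).normalizerMonoidHom_ker]; rfl
  have hne : Nat.card θ.range ≠ 1 := by
    intro h1
    apply normalizer_not_le_centralizer hG hp P
    intro x hx
    have hb := eq_bot_of_card_eq θ.range h1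
    exact (hker ⟨x, hx⟩).mp (by simpa [hb] using θ.mem_range.mpr ⟨⟨x, hx⟩, rfl⟩)
  obtain ⟨q, hq, hqd⟩ := Nat.exists_prime_and_dvd hne
  have := Fact.mk hq
  have hdvd : Nat.card θ.range ∣ Nat.card N / p ^ e := by
    have hPk : (P : Subgroup G).subgroupOf N ≤ θ.ker := fun x hx => by
      rw [(P : Subgroup G).normalizerMonoidHom_ker]
      exact fun y hy => congrArg Subtype.val (mul_comm' (⟨y, hy⟩ : (P : Subgroup G)) ⟨x, hx⟩)
    have h1 := θ.ker.card_mul_index
    rw [Subgroup.index_ker] at h1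
    have h2 : p ^ e ∣ Nat.card θ.ker := by
      have h3 := card_dvd_of_le hPk
      rwa [Nat.card_congr (subgroupOfEquivOfLe le_normalizer).toEquiv,
        card_sylow_subgroup h hm P] at h3
    obtain ⟨c, hc⟩ := h2
    rw [← h1, hc, mul_assoc, Nat.mul_div_cancel_left _ (pow_pos (Fact.out : p.Prime).pos _)]
    exact dvd_mul_left _ _
  have hNm : (Nat.card N / p ^ e) * Nat.card (Sylow p G) = m := by
    have hle : (P : Subgroup G) ≤ N := le_normalizer
    have hPN : p ^ e ∣ Nat.card N := card_sylow_subgroup h hm P ▸ card_dvd_of_le hle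
    rw [Nat.div_mul_right_comm hPN, card_normalizer_mul_card_sylow, h,
      Nat.mul_div_cancel_left _ (pow_pos (Fact.out : p.Prime).pos _)]
  have hqm : q * Nat.card (Sylow p G) ∣ m := hNm ▸ Nat.mul_dvd_mul_right (hqd.trans hdvd) _
  have hqp : q ≠ p := fun e' => hm (e' ▸ (dvd_mul_right q _).trans hqm)
  obtain ⟨σ, hσ⟩ := exists_prime_orderOf_dvd_card' q hqd
  obtain ⟨i, hi⟩ := exists_dvd_pow_sub_one_of_action hqp (card_sylow_subgroup h hm P)
    (σ : MulAut (P : Subgroup G))
    (by
      intro h1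
      rw [← orderOf_eq_one_iff, orderOf_coe, hσ] at h1
      exact hq.ne_one h1)
    (by rw [← hσ, ← orderOf_coe]; exact pow_orderOf_eq_one _)
  exact ⟨q, i, hq, hqm, hi.1, hi.2.1, hi.2.2⟩

theorem five_le_index [Finite G] [IsSimpleGroup G] (hG : ¬ IsMulCommutative G)
    {H : Subgroup G} (hH : H ≠ ⊤) : 5 ≤ H.index := by
  by_contra hlt
  have h2 : 1 < H.index := H.one_lt_index_of_ne_top hH
  have hd : Nat.card G ∣ 12 :=
    Nat.dvd_of_mul_dvd_mul_left two_pos ((two_mul_card_dvd_factorial_index hG hH).trans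
      (Nat.factorial_dvd_factorial (show H.index ≤ 4 by omega)))
  have h3 : 3 ∣ Nat.card G := by
    by_contra h3
    obtain ⟨k, -, hk⟩ := (Nat.dvd_prime_pow Nat.prime_two).mp
      (((Nat.prime_three.coprime_iff_not_dvd.mpr h3).symm).dvd_of_dvd_mul_right
        (show Nat.card G ∣ 2 ^ 2 * 3 from hd))
    exact not_isPGroup hG 2 (IsPGroup.of_card hk)
  have := Fact.mk Nat.prime_three
  obtain ⟨m, hm⟩ := h3
  have hm4 : m ∣ 4 := Nat.dvd_of_mul_dvd_mul_left (by norm_num : 0 < 3) (hm ▸ hd)
  have hm4' := Nat.le_of_dvd (by norm_num) hm4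
  have hc : Nat.card G = 3 ^ 1 * m := by rw [pow_one]; exact hm
  obtain ⟨P⟩ := (inferInstance : Nonempty (Sylow 3 G))
  have hm3 : ¬ 3 ∣ m := fun h => absurd (h.trans hm4) (by norm_num)
  obtain ⟨q, i, hq, hqd, -, -, -⟩ := exists_prime_dvd_normalizer hG one_ne_zero hc hm3 P
    (haveI := isCyclic_of_prime_card (p := 3) (α := (P : Subgroup G))
      (by rw [card_sylow_subgroup hc hm3 P, pow_one])
     inferInstance)
  have h1 := one_lt_card_sylow hG (p := 3) (hm ▸ dvd_mul_right 3 m)
  have hmod : Nat.card (Sylow 3 G) ≡ 1 [MOD 3] := card_sylow_modEq_one 3 G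
  unfold Nat.ModEq at hmod
  have hmpos : 0 < m := Nat.pos_of_ne_zero fun h0 => hm3 (h0 ▸ dvd_zero 3)
  have := Nat.le_of_dvd hmpos hqd
  have : 2 * Nat.card (Sylow 3 G) ≤ q * Nat.card (Sylow 3 G) :=
    Nat.mul_le_mul_right _ hq.two_le
  omega

end Cfsg.Agent.SmallOrders
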