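-- Centralisers of elements of prime order generating a Sylow subgroup of a simple group.
--
-- * `exists_card_centralizer_mul`: `|C(x)| j = |N(P)|` with `j ∣ p - 1`, `1 < j`
-- * `orderOf_dvd_of_centralizer`, `card_isConj_class`, `exists_inverting`
import Cfsg.Agent.Lib.SmallOrders.Basic

set_option autoImplicit false

namespace Cfsg.Agent.SmallOrders

open Subgroup

variable {G : Type*} [Group G]

theorem mem_centralizer_self (x : G) : x ∈ centralizer ({x} : Set G) :=
  mem_centralizer_singleton_iff.mpr rfl

theorem zpowers_le_centralizer (x : G) : zpowers x ≤ centralizer ({x} : Set G) :=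
  zpowers_le.mpr (mem_centralizer_self x)

theorem centralizer_zpowers (x : G) :
    centralizer ((zpowers x : Subgroup G) : Set G) = centralizer {x} := by
  rw [zpowers_eq_closure, centralizer_closure]

theorem exists_card_centralizer_mul [Finite G] [IsSimpleGroup G] (hG : ¬ IsMulCommutative G)
    {p : ℕ} [Fact p.Prime] {x : G} (hx : orderOf x = p) (P : Sylow p G)
    (hP : (P : Subgroup G) = zpowers x) :
    ∃ j, 1 < j ∧ j ∣ p - 1 ∧
      Nat.card (centralizer ({x} : Set G)) * j = Nat.card (normalizer ((P : Subgroup G) : Set G)) ∧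
      p ∣ Nat.card (centralizer ({x} : Set G)) ∧
      centralizer ({x} : Set G) ≤ normalizer ((P : Subgroup G) : Set G) := by
  have hp : p.Prime := Fact.out
  have hPc : Nat.card (P : Subgroup G) = p := by rw [hP, Nat.card_zpowers, hx]
  have hpG : p ∣ Nat.card G := hx ▸ orderOf_dvd_natCard x
  have hC : centralizer ((P : Subgroup G) : Set G) = centralizer {x} := by
    rw [hP, centralizer_zpowers]
  set N := normalizer ((P : Subgroup G) : Set G) with hN
  have hle : centralizer ({x} : Set G) ≤ N := hC ▸ centralizer_le_normalizer _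
  let θ : N →* MulAut (P : Subgroup G) := (P : Subgroup G).normalizerMonoidHom
  have hk : θ.ker = (centralizer ({x} : Set G)).subgroupOf N := by
    rw [← hC]; exact (P : Subgroup G).normalizerMonoidHom_ker
  have hcard := θ.ker.card_mul_index
  rw [Subgroup.index_ker, hk, Nat.card_congr (subgroupOfEquivOfLe hle).toEquiv] at hcard
  have : IsCyclic (P : Subgroup G) := isCyclic_of_prime_card hPc
  refine ⟨Nat.card θ.range, ?_, ?_, hcard, ?_, hle⟩
  · by_contra hj
    have hb : θ.range = ⊥ := eq_bot_of_card_eq _ (le_antisymm (by omega) Nat.card_pos)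
    apply normalizer_not_le_centralizer hG hpG P
    intro g hg
    have : θ ⟨g, hg⟩ = 1 := by
      have h := θ.mem_range.mpr ⟨⟨g, hg⟩, rfl⟩
      rwa [hb, mem_bot] at h
    rw [← MonoidHom.mem_ker, hk, mem_subgroupOf] at this
    rw [hC]
    exact this
  · refine (card_subgroup_dvd_card _).trans (dvd_of_eq ?_)
    rw [IsCyclic.card_mulAut, hPc, Nat.totient_prime hp]
  · have := card_dvd_of_le (zpowers_le_centralizer x)
    rwa [Nat.card_zpowers, hx] at this

theorem orderOf_dvd_of_centralizer [Finite G] {x g : G} {m : ℕ}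
    (hC : Nat.card (centralizer ({x} : Set G)) = m) (hc : g * x = x * g) : orderOf g ∣ m :=
  hC ▸ orderOf_dvd_natCard _ (mem_centralizer_singleton_iff.mpr hc)

theorem card_isConj_class [Finite G] (x : G) :
    Nat.card {g : G // IsConj x g} * Nat.card (centralizer ({x} : Set G)) = Nat.card G := by
  have h1 := MulAction.index_stabilizer (G := ConjAct G) (x := x)
  rw [show MulAction.stabilizer (ConjAct G) x =
    (centralizer ({x} : Set G)).comap (ConjAct.ofConjAct : ConjAct G ≃* G).toMonoidHom from ?_,
    index_comap_of_surjective _ (MulEquiv.surjective _)] at h1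
  swap
  · ext g
    rw [MulAction.mem_stabilizer_iff, mem_comap, mem_centralizer_singleton_iff,
      ConjAct.smul_def]
    exact mul_inv_eq_iff_eq_mul
  have h2 : MulAction.orbit (ConjAct G) x = {g | IsConj x g} := by
    ext g
    rw [ConjAct.mem_orbit_conjAct, isConj_comm]
    rfl
  rw [h2, ← Nat.card_coe_set_eq] at h1
  rw [show Nat.card {g : G // IsConj x g} = _ from h1.symm, mul_comm]
  exact card_mul_index _

theorem exists_not_commute_normalizer [Finite G] [IsSimpleGroup G] (hG : ¬ IsMulCommutative G)
    {p : ℕ} [Fact p.Prime] {x : G} (hx : orderOf x = p) (P : Sylow p G)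
    (hP : (P : Subgroup G) = zpowers x) :
    ∃ g ∈ normalizer ((P : Subgroup G) : Set G), g * x * g⁻¹ ≠ x ∧
      g * x * g⁻¹ ∈ zpowers x := by
  have hpG : p ∣ Nat.card G := hx ▸ orderOf_dvd_natCard x
  obtain ⟨g, hg, hgc⟩ := SetLike.not_le_iff_exists.mp (normalizer_not_le_centralizer hG hpG P)
  refine ⟨g, hg, fun h => hgc ?_, ?_⟩
  · rw [hP, centralizer_zpowers, mem_centralizer_singleton_iff]
    exact (mul_inv_eq_iff_eq_mul.mp h)
  · rw [← hP]
    exact (mem_normalizer_iff.mp hg x).mp (hP ▸ mem_zpowers x)

end Cfsg.Agent.SmallOrders
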