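-- The normaliser of a subgroup of prime order with a single fixed point, acting on its orbits.
--
-- * `exists_orbit_perm`: the action on the `k` orbits and the sign of a permutation
-- * `exists_normalizer_hom`: for a simple group with a Sylow subgroup of prime order
-- * `exists_card_centralizer_dvd`: the order of the centraliser is `p c` with `c ∣ |A_k|`
import Cfsg.Agent.Lib.SmallOrders.Centralizer

set_option autoImplicit false

namespace Cfsg.Agent.SmallOrders

open Subgroup

theorem sign_eq_one_of_pow_odd {α : Type*} [Fintype α] [DecidableEq α] {p : ℕ} (hp : Odd p)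
    (σ : Equiv.Perm α) (h : σ ^ p = 1) : Equiv.Perm.sign σ = 1 := by
  rcases Int.units_eq_one_or (Equiv.Perm.sign σ) with e | e
  · exact e
  · have := congrArg Equiv.Perm.sign h
    rw [map_pow, e, hp.neg_one_pow, map_one] at this
    exact e.trans this

variable {G : Type*} [Group G]

/-- the elements normalising `⟨x⟩` and fixing `a` -/
def fixNormalizer {X : Type*} [MulAction G X] (x : G) (a : X) : Subgroup G :=
  normalizer ((zpowers x : Subgroup G) : Set G) ⊓ MulAction.stabilizer G a

theorem exists_orbit_perm [Finite G] {X : Type*} [MulAction G X] [Fintype X] [DecidableEq X]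
    {p : ℕ} [Fact p.Prime] (hp2 : p ≠ 2) {x : G} (hx : orderOf x = p) {a : X}
    (hfix : ∀ Q : X, x • Q = Q ↔ Q = a) :
    ∃ k, Nat.card X = k * p + 1 ∧
      ∃ π : fixNormalizer x a →* Equiv.Perm (Fin k),
        (∀ h : fixNormalizer x a, π h = 1 → ∀ Q : X, ∃ i : ℕ, (h : G) • Q = x ^ i • Q) ∧
        (∀ h : fixNormalizer x a, (h : G) = x → π h = 1) ∧
        ∀ h : fixNormalizer x a, (Even k ∨ (h : G) * x = x * h) →
          Equiv.Perm.sign (MulAction.toPerm (h : G) : Equiv.Perm X) = Equiv.Perm.sign (π h) := by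
  classical
  have hp : p.Prime := Fact.out
  have : NeZero p := ⟨hp.ne_zero⟩
  have hodd : Odd p := hp.odd_of_ne_two hp2
  have hxp : x ^ p = 1 := (congrArg (x ^ ·) hx).symm.trans (pow_orderOf_eq_one x)
  have hxmod : ∀ n, x ^ n = x ^ (n % p) := fun n => by
    conv_lhs => rw [← Nat.mod_add_div n p, pow_add, pow_mul, hxp, one_pow, mul_one]
  have hxa : ∀ n : ℕ, x ^ n • a = a := fun n => by
    induction n with
    | zero => simp
    | succ n ih => rw [pow_succ, mul_smul, (hfix a).mpr rfl, ih]
  have hfree : ∀ Q : X, Q ≠ a → ∀ i : ℕ, x ^ i • Q = Q → p ∣ i := by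
    intro Q hQ i hi
    by_contra hd
    obtain ⟨j, hj⟩ := Nat.exists_mul_mod_eq_one_of_coprime
      ((hp.coprime_iff_not_dvd.mpr hd).symm) hp.one_lt
    apply hQ
    rw [← hfix]
    have h2 : ∀ n : ℕ, (x ^ i) ^ n • Q = Q := fun n => by
      induction n with
      | zero => simp
      | succ n ih => rw [pow_succ, mul_smul, hi, ih]
    conv_lhs => rw [← pow_one x, ← hj.2, ← hxmod, pow_mul, h2]
  -- orbits away from `a`
  let X' := {Q : X // Q ≠ a}
  let st : Setoid X' :=
    { r := fun Q R => ∃ i : ℕ, x ^ i • (Q : X) = R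
      iseqv :=
        { refl := fun Q => ⟨0, by simp⟩
          symm := fun {Q R} ⟨i, hi⟩ => ⟨(p - 1) * i, by
            rw [← hi, smul_smul, ← pow_add,
              show (p - 1) * i + i = p * i by
                rw [← Nat.succ_mul, Nat.succ_eq_add_one, Nat.sub_add_cancel hp.one_lt.le],
              pow_mul, hxp, one_pow, one_smul]⟩
          trans := fun {Q R S} ⟨i, hi⟩ ⟨j, hj⟩ => ⟨j + i, by rw [pow_add, mul_smul, hi, hj]⟩ } }
  let Ω := Quotient st
  have hΩfin : Fintype Ω := Fintype.ofFinite Ω
  let rep : Ω → X' := Quotient.out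
  let Φ : Ω × ZMod p → X' := fun z => ⟨x ^ z.2.val • (rep z.1 : X), fun he => (rep z.1).2
    (smul_left_cancel _ (he.trans (hxa z.2.val).symm))⟩
  have hΦ : Function.Bijective Φ := by
    constructor
    · rintro ⟨o, i⟩ ⟨o', j⟩ he
      have h1 : x ^ i.val • (rep o : X) = x ^ j.val • (rep o' : X) := congrArg Subtype.val he
      have ho : o = o' := by
        rw [← Quotient.out_eq o, ← Quotient.out_eq o']
        refine Quotient.sound ⟨(p - j.val) + i.val, ?_⟩
        rw [pow_add, mul_smul, h1, smul_smul, ← pow_add,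
          Nat.sub_add_cancel (ZMod.val_lt j).le, hxp, one_smul]
      subst ho
      have h2 : x ^ ((p - j.val) + i.val) • (rep o : X) = rep o := by
        rw [pow_add, mul_smul, h1, smul_smul, ← pow_add,
          Nat.sub_add_cancel (ZMod.val_lt j).le, hxp, one_smul]
      have h3 := hfree _ (rep o).2 _ h2
      have h4 : (((p - j.val) + i.val : ℕ) : ZMod p) = 0 := (ZMod.natCast_eq_zero_iff _ _).mpr h3
      rw [Nat.cast_add, Nat.cast_sub (ZMod.val_lt j).le, ZMod.natCast_self, zero_sub,
        ZMod.natCast_zmod_val, ZMod.natCast_zmod_val, neg_add_eq_zero] at h4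
      exact Prod.ext rfl h4.symm
    · intro Q
      obtain ⟨i, hi⟩ : ∃ i : ℕ, x ^ i • (rep (Quotient.mk st Q) : X) = Q :=
        Quotient.exact (Quotient.out_eq (Quotient.mk st Q))
      refine ⟨(Quotient.mk st Q, (i : ZMod p)), Subtype.ext ?_⟩
      show x ^ (i : ZMod p).val • _ = _
      rw [ZMod.val_natCast, ← hxmod, hi]
  refine ⟨Fintype.card Ω, ?_, ?_⟩
  · have h1 := Nat.card_congr (Equiv.ofBijective Φ hΦ)
    rw [Nat.card_prod, Nat.card_zmod, Nat.card_eq_fintype_card (α := Ω),
      Nat.card_eq_fintype_card (α := X'), Fintype.card_subtype_compl, Fintype.card_subtype_eq] at h1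
    rw [Nat.card_eq_fintype_card]
    have : 0 < Fintype.card X := Fintype.card_pos_iff.mpr ⟨a⟩
    omega
  set N : Subgroup G := fixNormalizer x a with hNdef
  have hexp : ∀ h : N, ∃ u : ℕ, (h : G) * x * (h : G)⁻¹ = x ^ u := by
    intro h
    obtain ⟨n, hn⟩ := mem_powers_iff_mem_zpowers.mpr
      ((mem_normalizer_iff.mp h.2.1 x).mp (mem_zpowers x))
    exact ⟨n, hn.symm⟩
  choose u hu using hexp
  have hmove : ∀ (h : N) (i : ℕ) (Q : X), (h : G) • x ^ i • Q = x ^ (u h * i) • (h : G) • Q := by
    intro h i Q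
    rw [pow_mul, ← hu h, conj_pow, ← mul_smul, ← mul_smul]
    congr 1
    group
  have hha : ∀ h : N, (h : G) • a = a := fun h => h.2.2
  let act' : N → X' → X' := fun h Q => ⟨(h : G) • (Q : X), fun he => Q.2 (smul_left_cancel _ (he.trans (hha h).symm))⟩
  have hcomp : ∀ (h : N) (Q R : X'), (∃ i : ℕ, x ^ i • (Q : X) = R) →
      ∃ i : ℕ, x ^ i • ((act' h Q : X') : X) = act' h R := fun h Q R ⟨i, hi⟩ =>
    ⟨u h * i, by
      show x ^ (u h * i) • (h : G) • (Q : X) = (h : G) • (R : X)
      rw [← hmove, hi]⟩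
  let f : N → Ω → Ω := fun h => Quotient.map' (act' h) (hcomp h)
  have hf_mul : ∀ h h' o, f (h * h') o = f h (f h' o) := fun h h' o => by
    induction o using Quotient.inductionOn with
    | _ Q => exact congrArg (Quotient.mk st) (Subtype.ext (mul_smul (h : G) (h' : G) (Q : X)))
  have hf_one : ∀ o, f 1 o = o := fun o => by
    induction o using Quotient.inductionOn with
    | _ Q => exact congrArg (Quotient.mk st) (Subtype.ext (one_smul G (Q : X)))
  let π₀ : N →* Equiv.Perm Ω :=
    { toFun := fun h => ⟨f h, f h⁻¹, fun o => by rw [← hf_mul, inv_mul_cancel, hf_one],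
        fun o => by rw [← hf_mul, mul_inv_cancel, hf_one]⟩
      map_one' := Equiv.ext hf_one
      map_mul' := fun h h' => Equiv.ext (hf_mul h h') }
  refine ⟨((Fintype.equivFin Ω).permCongrHom.toMonoidHom).comp π₀, ?_, ?_, ?_⟩
  · intro h hh Q
    have h1 : π₀ h = 1 := (Fintype.equivFin Ω).permCongrHom.injective (by rw [map_one]; exact hh)
    by_cases hQ : Q = a
    · exact ⟨0, by rw [hQ, hha, pow_zero, one_smul]⟩
    have h2 : Quotient.mk st (act' h ⟨Q, hQ⟩) = Quotient.mk st ⟨Q, hQ⟩ :=
      Equiv.Perm.ext_iff.mp h1 (Quotient.mk st ⟨Q, hQ⟩)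
    obtain ⟨i, hi⟩ : ∃ i : ℕ, x ^ i • Q = (h : G) • Q := Quotient.exact h2.symm
    exact ⟨i, hi.symm⟩
  · intro h hh
    have h1 : π₀ h = 1 := Equiv.ext fun o => by
      induction o using Quotient.inductionOn with
      | _ Q =>
        refine (Quotient.sound ?_).symm
        exact ⟨1, by rw [pow_one]; show x • (Q : X) = (h : G) • (Q : X); rw [hh]⟩
    rw [MonoidHom.comp_apply, h1, map_one]
  intro h hh
  -- coordinates `(o, i) ↦ x ^ i • rep o`
  have hshift : ∀ o : Ω, ∃ s : ℕ, (h : G) • (rep o : X) = x ^ s • (rep (π₀ h o) : X) := by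
    intro o
    have h2 : Quotient.mk st (rep (π₀ h o)) = Quotient.mk st (act' h (rep o)) := by
      rw [Quotient.out_eq]
      show f h o = _
      conv_lhs => rw [← Quotient.out_eq o]
      rfl
    obtain ⟨i, hi⟩ := Quotient.exact h2
    exact ⟨i, hi.symm⟩
  choose s hs using hshift
  have hu0 : (u h : ZMod p) ≠ 0 := by
    intro h0
    rw [ZMod.natCast_eq_zero_iff] at h0
    obtain ⟨c, hc⟩ := h0
    have := hu h
    rw [hc, pow_mul, hxp, one_pow, mul_inv_eq_one, mul_eq_left] at this
    rw [this, orderOf_one] at hx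
    exact hp.ne_one hx.symm
  let M : Equiv.Perm (ZMod p) := Equiv.mulLeft₀ (u h : ZMod p) hu0
  let A : Equiv.Perm (Ω × ZMod p) := Equiv.prodCongrLeft fun _ => π₀ h
  let B : Equiv.Perm (Ω × ZMod p) :=
    Equiv.prodCongrRight fun o => Equiv.addRight ((s o : ZMod p)) * M
  let e : Option (Ω × ZMod p) ≃ X :=
    ((Equiv.ofBijective Φ hΦ).optionCongr).trans (Equiv.optionSubtypeNe a)
  have hconj : (MulAction.toPerm (h : G) : Equiv.Perm X) = e.permCongr (A * B).optionCongr := by
    ext Q
    obtain ⟨z, rfl⟩ := e.surjective Q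
    rw [Equiv.permCongr_apply, Equiv.symm_apply_apply]
    rcases z with _ | ⟨o, i⟩
    · show (h : G) • a = a
      exact hha h
    · show (h : G) • (x ^ i.val • (rep o : X)) =
        x ^ ((u h : ZMod p) * i + (s o : ZMod p)).val • (rep (π₀ h o) : X)
      rw [hmove, hs, smul_smul, ← pow_add, hxmod (u h * i.val + s o)]
      congr 2
      rw [← ZMod.val_natCast]
      congr 1
      push_cast
      rw [ZMod.natCast_zmod_val]
  have hsignB : ∀ o, Equiv.Perm.sign (Equiv.addRight ((s o : ZMod p)) * M) = Equiv.Perm.sign M := by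
    intro o
    rw [map_mul, sign_eq_one_of_pow_odd hodd _ ?_, one_mul]
    have hadd : ∀ (n : ℕ) (z : ZMod p),
        ((Equiv.addRight ((s o : ZMod p))) ^ n) z = z + n • (s o : ZMod p) := by
      intro n
      induction n with
      | zero => simp
      | succ n ih =>
        intro z
        rw [pow_succ', Equiv.Perm.mul_apply, ih, succ_nsmul, ← add_assoc]
        rfl
    ext z
    rw [hadd]
    simp
  have hMk : Equiv.Perm.sign M ^ Fintype.card Ω = 1 := by
    rcases hh with hev | hc
    · rcases Int.units_eq_one_or (Equiv.Perm.sign M) with e' | e' <;> rw [e']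
      · exact one_pow _
      · exact hev.neg_one_pow
    · have h5 : x ^ u h = x ^ 1 := by rw [pow_one, ← hu h, hc, mul_inv_cancel_right]
      rw [pow_eq_pow_iff_modEq, hx, ← ZMod.natCast_eq_natCast_iff, Nat.cast_one] at h5
      have hM : M = 1 := Equiv.ext fun z => by
        show (u h : ZMod p) * z = z
        rw [h5, one_mul]
      rw [hM, map_one, one_pow]
  rw [hconj, Equiv.Perm.sign_permCongr, Equiv.optionCongr_sign, map_mul]
  simp only [A, B, Equiv.Perm.sign_prodCongrLeft, Equiv.Perm.sign_prodCongrRight, hsignB,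
    Finset.prod_const, Finset.card_univ, ZMod.card, hMk, mul_one, MonoidHom.coe_comp,
    Function.comp_apply, MulEquiv.coe_toMonoidHom]
  show _ = Equiv.Perm.sign ((Fintype.equivFin Ω).permCongr (π₀ h))
  rw [Equiv.Perm.sign_permCongr]
  rcases Int.units_eq_one_or (Equiv.Perm.sign (π₀ h)) with e' | e' <;> rw [e']
  · exact one_pow _
  · exact hodd.neg_one_pow

/-- In a simple group with a Sylow subgroup `⟨x⟩` of order `p`, the normaliser of `⟨x⟩` permutes
the `k` orbits of `x` on the other Sylow subgroups. -/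
theorem exists_normalizer_hom [Finite G] [IsSimpleGroup G] (hG : ¬ IsMulCommutative G) {p : ℕ}
    [Fact p.Prime] (hp2 : p ≠ 2) {x : G} (hx : orderOf x = p)
    (hP : ∀ P : Sylow p G, Nat.card (P : Subgroup G) = p) (P : Sylow p G)
    (hPx : (P : Subgroup G) = zpowers x) :
    ∃ k, Nat.card (Sylow p G) = k * p + 1 ∧
      ∃ π : normalizer ((P : Subgroup G) : Set G) →* Equiv.Perm (Fin k),
        (∀ h : normalizer ((P : Subgroup G) : Set G), (Even k ∨ (h : G) * x = x * h) →
          π h ∈ alternatingGroup (Fin k)) ∧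
        (∀ h : normalizer ((P : Subgroup G) : Set G), (h : G) = x → π h = 1) ∧
        ∀ h : normalizer ((P : Subgroup G) : Set G),
          (h : G) * x = x * h → π h = 1 → (h : G) ∈ zpowers x := by
  classical
  have : Fintype (Sylow p G) := Fintype.ofFinite _
  have hp : p.Prime := Fact.out
  have hpG : p ∣ Nat.card G := hx ▸ orderOf_dvd_natCard x
  have hfix : ∀ Q : Sylow p G, x • Q = Q ↔ Q = P := by
    intro Q
    constructor
    · intro hQ
      have h1 : x ∈ (P : Subgroup G) ⊓ normalizer (Q : Set G) :=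
        ⟨hPx ▸ mem_zpowers x, Sylow.smul_eq_iff_mem_normalizer.mp hQ⟩
      rw [P.isPGroup'.inf_normalizer_sylow Q] at h1
      refine (Sylow.ext (eq_of_le_of_card_ge ?_ (by rw [hP, hP]))).symm
      rw [hPx, zpowers_le]
      exact h1.2
    · rintro rfl
      exact Sylow.smul_eq_iff_mem_normalizer.mpr (le_normalizer (hPx ▸ mem_zpowers x))
  obtain ⟨k, hk, π, hπ1, hπx, hπs⟩ := exists_orbit_perm hp2 hx hfix
  set N := normalizer ((P : Subgroup G) : Set G) with hN
  have hle : N ≤ fixNormalizer x P :=
    le_inf (hPx ▸ le_rfl) (fun h hh => Sylow.smul_eq_iff_mem_normalizer.mpr hh)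
  refine ⟨k, hk, π.comp (Subgroup.inclusion hle), fun h hh => ?_,
    fun h hh => hπx (Subgroup.inclusion hle h) hh, fun h hc h1 => ?_⟩
  · rw [Equiv.Perm.mem_alternatingGroup]
    refine (hπs (Subgroup.inclusion hle h) hh).symm.trans ?_
    rcases ((Equiv.Perm.sign.comp (MulAction.toPermHom G (Sylow p G))).normal_ker).eq_bot_or_eq_top
      with e | e
    · exact absurd ⟨⟨fun a b => (MonoidHom.ker_eq_bot_iff _).mp e
        (by simp only [map_mul, mul_comm])⟩⟩ hG
    · have : (h : G) ∈ (Equiv.Perm.sign.comp (MulAction.toPermHom G (Sylow p G))).ker :=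
        e ▸ mem_top _
      exact this
  · -- `h ^ p` fixes every point, hence is trivial
    have hall : ∀ Q : Sylow p G, (h : G) ^ p • Q = Q := by
      intro Q
      obtain ⟨i, hi⟩ := hπ1 (Subgroup.inclusion hle h) h1 Q
      have hi' : (h : G) • Q = x ^ i • Q := hi
      have hn : ∀ n : ℕ, (h : G) ^ n • Q = x ^ (n * i) • Q := fun n => by
        induction n with
        | zero => simp
        | succ n ih =>
          rw [pow_succ, mul_smul, hi', ← mul_smul,
            ((Commute.pow_pow (show Commute (h : G) x from hc) n i)).eq, mul_smul, ih, smul_smul,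
            ← pow_add, add_comm, Nat.succ_mul]
      rw [hn, pow_mul, (congrArg (x ^ ·) hx).symm.trans (pow_orderOf_eq_one x), one_pow, one_smul]
    have hker : (MulAction.toPermHom G (Sylow p G)).ker = ⊥ :=
      (MonoidHom.normal_ker _).eq_bot_or_eq_top.resolve_right fun ht => by
        have : Subsingleton (Sylow p G) := ⟨fun A B => by
          obtain ⟨g, hg⟩ := MulAction.exists_smul_eq G A B
          have h1 : MulAction.toPermHom G (Sylow p G) g = 1 :=
            MonoidHom.mem_ker.mp (ht ▸ mem_top g)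
          exact (Equiv.Perm.ext_iff.mp h1 A).symm.trans hg⟩
        have h2 := one_lt_card_sylow hG hpG
        have := Finite.card_le_one_iff_subsingleton.mpr this
        omega
    have hp1 : (h : G) ^ p = 1 := by
      have : (h : G) ^ p ∈ (MulAction.toPermHom G (Sylow p G)).ker := Equiv.Perm.ext hall
      rwa [hker, mem_bot] at this
    rcases hp.eq_one_or_self_of_dvd _ (orderOf_dvd_of_pow_eq_one hp1) with e | e
    · rw [orderOf_eq_one_iff.mp e]; exact one_mem _
    · have hzp : IsPGroup p (zpowers (h : G)) :=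
        IsPGroup.of_card (n := 1) (by rw [Nat.card_zpowers, e, pow_one])
      have hsup : zpowers (h : G) ⊔ (P : Subgroup G) = (P : Subgroup G) :=
        P.is_maximal' (hzp.to_sup_of_normal_right' P.isPGroup' (zpowers_le.mpr h.2)) le_sup_right
      rw [← hPx]
      exact sup_eq_right.mp hsup (mem_zpowers _)

/-- With `n_p = k p + 1`, the centraliser has order `p c` with `c ∣ |A_k|`. -/
theorem exists_card_centralizer_dvd [Finite G] [IsSimpleGroup G] (hG : ¬ IsMulCommutative G) {p : ℕ}
    [Fact p.Prime] (hp2 : p ≠ 2) {x : G} (hx : orderOf x = p)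
    (hP : ∀ P : Sylow p G, Nat.card (P : Subgroup G) = p) {k : ℕ}
    (hk : Nat.card (Sylow p G) = k * p + 1) :
    ∃ c, Nat.card (centralizer ({x} : Set G)) = p * c ∧
      c ∣ Nat.card (alternatingGroup (Fin k)) := by
  obtain ⟨P, hPx⟩ : ∃ P : Sylow p G, (P : Subgroup G) = zpowers x := by
    obtain ⟨Q, hQ⟩ := (IsPGroup.of_card (n := 1) (by rw [Nat.card_zpowers, hx, pow_one] :
      Nat.card (zpowers x) = p ^ 1)).exists_le_sylow
    exact ⟨Q, (eq_of_le_of_card_ge hQ (by rw [hP, Nat.card_zpowers, hx])).symm⟩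
  obtain ⟨k', hk', π, hπa, hπx, hπ1⟩ := exists_normalizer_hom hG hp2 hx hP P hPx
  obtain rfl : k' = k :=
    Nat.eq_of_mul_eq_mul_right (Fact.out : p.Prime).pos (by omega)
  obtain ⟨-, -, -, -, -, hle⟩ := exists_card_centralizer_mul hG hx P hPx
  set C := centralizer ({x} : Set G)
  let f : C →* alternatingGroup (Fin k') := (π.comp (Subgroup.inclusion hle)).codRestrict _
    fun h => hπa _ (Or.inr (mem_centralizer_singleton_iff.mp h.2))
  refine ⟨Nat.card f.range, ?_, f.range.card_subgroup_dvd_card⟩
  have hker : f.ker = (zpowers x).subgroupOf C := by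
    ext h
    rw [MonoidHom.mem_ker, mem_subgroupOf]
    constructor
    · intro h1
      exact hπ1 (Subgroup.inclusion hle h) (mem_centralizer_singleton_iff.mp h.2)
        (congrArg Subtype.val h1)
    · intro h1
      obtain ⟨i, hi⟩ := mem_zpowers_iff.mp h1
      apply orderOf_eq_one_iff.mp
      -- an element of order dividing `p` commutes past every orbit
      have hxk : f ⟨x, mem_centralizer_self x⟩ = 1 := by
        have h2 := (f ⟨x, mem_centralizer_self x⟩).2
        apply Subtype.ext
        exact hπx _ rfl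
      rw [show h = ⟨x, mem_centralizer_self x⟩ ^ i from Subtype.ext (by simpa using hi.symm),
        map_zpow, hxk, one_zpow, orderOf_one]
  have h := f.ker.card_mul_index
  rw [Subgroup.index_ker, hker,
    Nat.card_congr (subgroupOfEquivOfLe (zpowers_le_centralizer x)).toEquiv, Nat.card_zpowers,
    hx] at h
  exact h.symm

end Cfsg.Agent.SmallOrders
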