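-- Intersections of Sylow subgroups.
--
-- * `exists_pair_index_le`: `n_p ≢ 1 mod p ^ k` gives two Sylow subgroups with a big intersection
-- * `lt_normalizer_inf`: normalisers grow in `p`-groups
-- * `maximal_inter_normalizer_*`: the normaliser of a maximal Sylow intersection
-- * `exists_index_of_sylow_not_modEq`: criterion for simple groups
import Cfsg.Agent.Lib.SmallOrders.Basic

set_option autoImplicit false

namespace Cfsg.Agent.SmallOrders

open Subgroup MulAction

variable {G : Type*} [Group G] {p : ℕ} [Fact p.Prime]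

theorem stabilizer_sylow (P Q : Sylow p G) :
    stabilizer (P : Subgroup G) Q = (Q : Subgroup G).subgroupOf (P : Subgroup G) := by
  ext x
  rw [mem_stabilizer_iff, mem_subgroupOf, Subgroup.smul_def, Sylow.smul_eq_iff_mem_normalizer]
  constructor
  · intro hx
    have : (x : G) ∈ (P : Subgroup G) ⊓ normalizer (Q : Set G) := ⟨x.2, hx⟩
    rw [P.isPGroup'.inf_normalizer_sylow Q] at this
    exact this.2
  · exact fun hx => le_normalizer hx

theorem exists_pair_index_le [Finite G] (p k : ℕ) [Fact p.Prime]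
    (h : ¬ Nat.card (Sylow p G) ≡ 1 [MOD p ^ k]) :
    ∃ P R : Sylow p G, P ≠ R ∧
      ((R : Subgroup G).subgroupOf (P : Subgroup G)).index ≤ p ^ (k - 1) := by
  classical
  by_contra! hne
  apply h
  obtain ⟨P⟩ := (inferInstance : Nonempty (Sylow p G))
  let Ω := Quotient (orbitRel (P : Subgroup G) (Sylow p G))
  have : Fintype Ω := Fintype.ofFinite _
  rw [Nat.card_congr (selfEquivSigmaOrbitsQuotientStabilizer (P : Subgroup G) (Sylow p G)),
    Nat.card_sigma, ← ZMod.natCast_eq_natCast_iff, Nat.cast_sum, Nat.cast_one]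
  have hout : ∀ ω : Ω, ω ≠ Quotient.mk'' P → ω.out ≠ P := fun ω hω he =>
    hω ((Quotient.out_eq' ω).symm.trans (congrArg Quotient.mk'' he))
  rw [Fintype.sum_eq_single (Quotient.mk'' P : Ω)]
  · have hP : (Quotient.mk'' P : Ω).out = P := by
      have hr : orbitRel (P : Subgroup G) (Sylow p G) (Quotient.mk'' P : Ω).out P :=
        Quotient.exact (Quotient.out_eq _)
      obtain ⟨x, hx⟩ := orbitRel_apply.mp hr
      rw [← hx]
      change (x : G) • P = P
      rw [Sylow.smul_eq_iff_mem_normalizer]
      exact le_normalizer x.2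
    rw [← Subgroup.index, stabilizer_sylow, hP, subgroupOf_self, index_top, Nat.cast_one]
  · intro ω hω
    rw [ZMod.natCast_eq_zero_iff, ← Subgroup.index, stabilizer_sylow]
    obtain ⟨a, ha⟩ := P.isPGroup'.index ((ω.out : Subgroup G).subgroupOf (P : Subgroup G))
    rw [ha]
    apply pow_dvd_pow
    have := hne P ω.out (hout ω hω).symm
    rw [ha] at this
    have := (Nat.pow_lt_pow_iff_right (Fact.out : p.Prime).one_lt).mp this
    omega

/-- A proper subgroup of a finite `p`-group is properly contained in its normaliser there. -/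
theorem lt_normalizer_inf [Finite G] {P D : Subgroup G} (hP : IsPGroup p P) (hD : D < P) :
    D < normalizer (D : Set G) ⊓ P := by
  refine lt_of_le_of_ne (le_inf le_normalizer hD.le) fun he => ?_
  have := hP.isNilpotent
  have hlt : D.subgroupOf P < ⊤ := lt_top_iff_ne_top.mpr fun h =>
    hD.not_ge (subgroupOf_eq_top.mp h)
  obtain ⟨x, hx, hxD⟩ := SetLike.exists_of_lt (Group.normalizerCondition_of_isNilpotent _ hlt)
  apply hxD
  rw [mem_subgroupOf, he]
  refine ⟨?_, x.2⟩
  show (x : G) ∈ normalizer (D : Set G)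
  rw [mem_normalizer_iff] at hx
  rw [mem_normalizer_iff]
  intro y
  constructor
  · intro hy
    exact (hx ⟨y, hD.le hy⟩).mp hy
  · intro hy
    have hyP : y ∈ P := by
      have := P.mul_mem (P.mul_mem (P.inv_mem x.2) (hD.le hy)) x.2
      simpa [mul_assoc] using this
    exact (hx ⟨y, hyP⟩).mpr hy

theorem inf_lt_left [Finite G] {P Q : Sylow p G} (h : P ≠ Q) :
    (P : Subgroup G) ⊓ Q < P :=
  inf_le_left.lt_of_ne fun he => h (Sylow.ext (P.is_maximal' Q.isPGroup' (inf_eq_left.mp he)).symm)

theorem normalizer_inter_normalizer [Finite G] (P Q : Sylow p G) (hPQ : P ≠ Q)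
    (hmax : ∀ P' Q' : Sylow p G, P' ≠ Q' →
      Nat.card ↥((P' : Subgroup G) ⊓ (Q' : Subgroup G)) ≤
        Nat.card ↥((P : Subgroup G) ⊓ (Q : Subgroup G)))
    (N : Subgroup G)
    (hN : N = normalizer (((P : Subgroup G) ⊓ (Q : Subgroup G) : Subgroup G) : Set G)) :
    1 < Nat.card (Sylow p N) ∧
    (∀ S T : Sylow p N, S ≠ T →
      (S : Subgroup N) ⊓ (T : Subgroup N) = ((P : Subgroup G) ⊓ (Q : Subgroup G)).subgroupOf N) ∧
    ∀ S : Sylow p N, ∃! T : Sylow p G, (S : Subgroup N).map N.subtype ≤ (T : Subgroup G) := by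
  set D := (P : Subgroup G) ⊓ (Q : Subgroup G) with hD
  have hDp : IsPGroup p D := P.isPGroup'.to_le inf_le_left
  have hlt : ∀ A B : Subgroup G, A < B → Nat.card A < Nat.card B := fun A B h =>
    lt_of_le_of_ne (card_le_of_le h.le) fun he => h.ne (eq_of_le_of_card_ge h.le he.ge)
  have hA : D < N ⊓ P := hN ▸ lt_normalizer_inf P.isPGroup' (inf_lt_left hPQ)
  have hB : D < N ⊓ Q := by
    rw [hN]
    refine lt_normalizer_inf Q.isPGroup' ?_
    rw [hD, inf_comm]
    exact inf_lt_left hPQ.symm
  have hlift : ∀ S : Sylow p N, ∃ T : Sylow p G, (S : Subgroup N).map N.subtype ≤ (T : Subgroup G) :=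
    fun S => (S.isPGroup'.map N.subtype).exists_le_sylow
  have hDnorm : (D.subgroupOf N).Normal := by
    rw [hN]; exact normal_subgroupOf_of_le_normalizer le_rfl
  have hDsub : ∀ S : Sylow p N, D.subgroupOf N ≤ S := fun S =>
    @IsPGroup.le_sylow_of_normal p N _ (D.subgroupOf N) hDnorm hDp.comap_subtype S
  have hcard : ∀ S : Sylow p N, Nat.card D < Nat.card ((S : Subgroup N).map N.subtype) := by
    intro S
    obtain ⟨S', hS'⟩ := (P.isPGroup'.comap_subtype (K := N)).exists_le_sylow
    rw [card_map_of_injective N.subtype_injective, Nat.card_congr (S.equiv S').toEquiv]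
    refine lt_of_lt_of_le (hlt _ _ hA) ?_
    refine le_trans (le_of_eq ?_) (card_le_of_le hS')
    rw [← inf_comm, ← Nat.card_congr (subgroupOfEquivOfLe (inf_le_right : (P : Subgroup G) ⊓ N ≤ N)).toEquiv,
      inf_subgroupOf_right]
    rfl
  refine ⟨?_, ?_, ?_⟩
  · by_contra hle
    have : Subsingleton (Sylow p N) := ((Finite.card_le_one_iff_subsingleton (α := _)).mp (by omega))
    obtain ⟨S⟩ := (inferInstance : Nonempty (Sylow p N))
    obtain ⟨T, hT⟩ := hlift S
    have hsub : ∀ R : Sylow p G, N ⊓ R ≤ T := by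
      intro R x hx
      obtain ⟨S', hS'⟩ := (R.isPGroup'.comap_subtype (K := N)).exists_le_sylow
      exact hT ⟨⟨x, hx.1⟩, Subsingleton.elim S' S ▸ hS' hx.2, rfl⟩
    have heq : ∀ R : Sylow p G, D < N ⊓ R → R = T := by
      intro R hR
      by_contra hne
      have := hlt _ _ (hR.trans_le (le_inf inf_le_right (hsub R)))
      exact absurd (hmax R T hne) (by omega)
    exact hPQ ((heq P hA).trans (heq Q hB).symm)
  · intro S T hST
    obtain ⟨S', hS'⟩ := hlift S
    obtain ⟨T', hT'⟩ := hlift T
    have hne : S' ≠ T' := by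
      rintro rfl
      apply hST
      have h1 := S.is_maximal' (S'.isPGroup'.comap_subtype (K := N)) (map_le_iff_le_comap.mp hS')
      have h2 := T.is_maximal' (S'.isPGroup'.comap_subtype (K := N)) (map_le_iff_le_comap.mp hT')
      exact Sylow.ext (h1.symm.trans h2)
    symm
    refine eq_of_le_of_card_ge (le_inf (hDsub S) (hDsub T)) ?_
    calc Nat.card ↥((S : Subgroup N) ⊓ T)
        = Nat.card (((S : Subgroup N) ⊓ T).map N.subtype) :=
          (card_map_of_injective N.subtype_injective).symm
      _ ≤ Nat.card ↥((S' : Subgroup G) ⊓ T') := card_le_of_le (le_inf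
          ((map_mono inf_le_left).trans hS') ((map_mono inf_le_right).trans hT'))
      _ ≤ Nat.card D := hmax S' T' hne
      _ = Nat.card (D.subgroupOf N) :=
          (Nat.card_congr (subgroupOfEquivOfLe (hN ▸ le_normalizer)).toEquiv).symm
  · intro S
    obtain ⟨T, hT⟩ := hlift S
    refine ⟨T, hT, fun T' hT' => ?_⟩
    by_contra hne
    exact absurd ((hcard S).trans_le (card_le_of_le (le_inf hT' hT)))
      (Nat.not_lt.mpr (hmax T' T hne))

/-- In a simple group, if `|G| = p ^ e * m` with `e ≥ 2` and `n_p ≢ 1 mod p ^ 2`, there is a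
proper subgroup of index `D` dividing `m`, with `(p + 1) * D ≤ m`. -/
theorem exists_index_of_sylow_not_modEq [Finite G] [IsSimpleGroup G] (hG : ¬ IsMulCommutative G)
    {e m : ℕ} (he : 2 ≤ e) (h : Nat.card G = p ^ e * m) (hm : ¬ p ∣ m)
    (hn : ¬ Nat.card (Sylow p G) ≡ 1 [MOD p ^ 2]) :
    ∃ D, D ∣ m ∧ (p + 1) * D ≤ m ∧ 2 * Nat.card G ∣ Nat.factorial D ∧ 5 ≤ D := by
  obtain ⟨P, R, hPR, hidx⟩ := exists_pair_index_le p 2 hn
  rw [show (2 : ℕ) - 1 = 1 from rfl, pow_one] at hidx
  have hp : p.Prime := Fact.out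
  set I := (P : Subgroup G) ⊓ R with hI
  -- both Sylow subgroups normalise the intersection
  have hIindex : ∀ S : Sylow p G, I < S → (I.subgroupOf (S : Subgroup G)).index ≤ p →
      (S : Subgroup G) ≤ normalizer (I : Set G) := by
    intro S hlt hle
    have hne : (I.subgroupOf (S : Subgroup G)).index ≠ 1 := fun h1 =>
      hlt.not_ge (subgroupOf_eq_top.mp (index_eq_one.mp h1))
    obtain ⟨a, ha⟩ := S.isPGroup'.index (I.subgroupOf (S : Subgroup G))
    rw [ha] at hle hne
    have ha1 : a = 1 := by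
      have : a ≤ 1 := (Nat.pow_le_pow_iff_right hp.one_lt).mp (by simpa using hle)
      rcases Nat.eq_zero_or_pos a with rfl | h0
      · simp at hne
      · omega
    rw [ha1, pow_one] at ha
    rw [← normal_subgroupOf_iff_le_normalizer hlt.le]
    apply normal_of_index_eq_minFac_card
    rw [ha]
    obtain ⟨b, hb⟩ := IsPGroup.iff_card.mp S.isPGroup'
    rw [hb]
    refine (hp.pow_minFac ?_).symm
    rintro rfl
    have := (I.subgroupOf (S : Subgroup G)).index_dvd_card
    rw [hb, ha, pow_zero] at this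
    exact hp.not_dvd_one this
  have hPc : ∀ S : Sylow p G, Nat.card (S : Subgroup G) = p ^ e := card_sylow_subgroup h hm
  have hidx' : (I.subgroupOf (P : Subgroup G)).index ≤ p := by
    rw [hI, inf_subgroupOf_left]; exact hidx
  have hidxR : (I.subgroupOf (R : Subgroup G)).index ≤ p := by
    have e1 := (I.subgroupOf (R : Subgroup G)).card_mul_index
    have e2 := (I.subgroupOf (P : Subgroup G)).card_mul_index
    rw [Nat.card_congr (subgroupOfEquivOfLe (inf_le_right : I ≤ _)).toEquiv, hPc R] at e1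
    rw [Nat.card_congr (subgroupOfEquivOfLe (inf_le_left : I ≤ _)).toEquiv, hPc P, ← e1] at e2
    rw [← Nat.eq_of_mul_eq_mul_left Nat.card_pos e2]
    exact hidx'
  have hPN := hIindex P (inf_lt_left hPR) hidx'
  have hRN := hIindex R (by rw [hI, inf_comm]; exact inf_lt_left hPR.symm) hidxR
  set N := normalizer (I : Set G)
  have hIcard : 1 < Nat.card I := by
    have e2 := (I.subgroupOf (P : Subgroup G)).card_mul_index
    rw [Nat.card_congr (subgroupOfEquivOfLe (inf_le_left : I ≤ _)).toEquiv, hPc P] at e2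
    by_contra hle
    have h1 : Nat.card I = 1 := le_antisymm (by omega) Nat.card_pos
    rw [h1, one_mul] at e2
    rw [e2] at hidx'
    have := Nat.pow_le_pow_right hp.pos he
    have := hp.one_lt
    nlinarith
  have hNtop : N ≠ ⊤ := by
    intro ht
    rcases (normalizer_eq_top_iff.mp ht).eq_bot_or_eq_top with hb | ht'
    · rw [hb, card_bot] at hIcard; omega
    · exact (inf_lt_left hPR).not_ge (ht' ▸ le_top : (P : Subgroup G) ≤ I)
  refine ⟨N.index, ?_, ?_, two_mul_card_dvd_factorial_index hG hNtop, five_le_index hG hNtop⟩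
  · exact index_sylow h hm P ▸ index_dvd_of_le hPN
  · have hP' : Nat.card (P.subtype hPN : Subgroup N) = p ^ e := by
      rw [P.coe_subtype hPN, Nat.card_congr (subgroupOfEquivOfLe hPN).toEquiv, hPc]
    have h2 : 1 < Nat.card (Sylow p N) := by
      by_contra hle
      have : Subsingleton (Sylow p N) := (Finite.card_le_one_iff_subsingleton (α := _)).mp (by omega)
      exact hPR (Sylow.subtype_injective (Subsingleton.elim (P.subtype hPN) (R.subtype hRN)))
    have hmod : Nat.card (Sylow p N) ≡ 1 [MOD p] := card_sylow_modEq_one p N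
    unfold Nat.ModEq at hmod
    have h3 : p + 1 ≤ Nat.card (Sylow p N) := by
      have h4 := Nat.div_add_mod (Nat.card (Sylow p N)) p
      rw [hmod, Nat.mod_eq_of_lt hp.one_lt] at h4
      rcases Nat.eq_zero_or_pos (Nat.card (Sylow p N) / p) with hz | hz
      · rw [hz, mul_zero] at h4; omega
      · have := Nat.le_mul_of_pos_right p hz
        omega
    have h5 : Nat.card (Sylow p N) ≤ (P.subtype hPN : Subgroup N).index :=
      Nat.le_of_dvd (Nat.pos_of_ne_zero index_ne_zero_of_finite) (P.subtype hPN).card_dvd_index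
    have h6 := (P.subtype hPN : Subgroup N).card_mul_index
    have h7 := N.card_mul_index
    rw [← h6, hP', h, mul_assoc] at h7
    have h8 := Nat.eq_of_mul_eq_mul_left (pow_pos hp.pos e) h7
    rw [← h8]
    exact Nat.mul_le_mul_right _ (h3.trans h5)

end Cfsg.Agent.SmallOrders
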