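-- Sylow `p`-subgroups of symmetric and alternating groups of small degree.
--
-- * `card_normalizer_sylow_perm`: `|N(P)| = p (p-1) (n-p)!` in `S_n` for `p ≤ n < 2p`
-- * `sylow_perm_le_alternating`, `two_mul_card_normalizer_alternating`
-- * `two_mul_card_normalizer_dvd`: simple `G` with `n_p = p + 1`, `|P| = p`
import Cfsg.Agent.Lib.SmallOrders.Basic

set_option autoImplicit false

namespace Cfsg.Agent.SmallOrders

open Subgroup Equiv

variable {α : Type*} [Fintype α] [DecidableEq α]

theorem factorial_two_mul_sq {p n : ℕ} (hp : p.Prime) (hn : n < 2 * p) :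
    ¬ p ^ 2 ∣ n.factorial := by
  induction n with
  | zero => simpa using fun h => hp.ne_one (by simpa using h)
  | succ n ih =>
    intro h
    rw [Nat.factorial_succ] at h
    by_cases hdvd : p ∣ n + 1
    · have hn1 : n + 1 = p := by
        obtain ⟨c, hc⟩ := hdvd
        have : c = 1 := by
          rcases c with _ | _ | c
          · simp at hc
          · rfl
          · have : p * 2 ≤ p * (c + 1 + 1) := Nat.mul_le_mul_left _ (by omega)
            omega
        rw [hc, this, mul_one]
      rw [hn1, pow_two] at h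
      have := Nat.dvd_of_mul_dvd_mul_left hp.pos h
      rw [hp.dvd_factorial] at this
      omega
    · exact ih (by omega)
        (Nat.Coprime.dvd_of_dvd_mul_left ((hp.coprime_iff_not_dvd.mpr hdvd).pow_left 2) h)

variable {p : ℕ} [Fact p.Prime]

theorem card_sylow_perm (h1 : p ≤ Fintype.card α) (h2 : Fintype.card α < 2 * p)
    (P : Sylow p (Perm α)) : Nat.card (P : Subgroup (Perm α)) = p := by
  have hp : p.Prime := Fact.out
  have hd : p ∣ Nat.card (Perm α) := by
    rw [Nat.card_perm, Nat.card_eq_fintype_card]; exact Nat.dvd_factorial hp.pos h1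
  obtain ⟨m, hm⟩ := hd
  have hpm : ¬ p ∣ m := fun h => factorial_two_mul_sq hp h2 (by
    rw [← Nat.card_eq_fintype_card, ← Nat.card_perm, hm, pow_two]
    exact Nat.mul_dvd_mul_left p h)
  simpa using card_sylow_subgroup (e := 1) (by rw [pow_one]; exact hm) hpm P

theorem cycleType_of_orderOf (h2 : Fintype.card α < 2 * p) {x : Perm α} (hx : orderOf x = p) :
    x.cycleType = {p} := by
  have hp : p.Prime := Fact.out
  obtain ⟨n, hn⟩ := Perm.cycleType_prime_order (hx ▸ hp : (orderOf x).Prime)
  rw [hx] at hn
  have hs : x.cycleType.sum ≤ Fintype.card α := by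
    rw [Perm.sum_cycleType]; exact Finset.card_le_univ _
  rw [hn, Multiset.sum_replicate, smul_eq_mul] at hs
  have : n = 0 := by
    by_contra h0
    have : 2 * p ≤ (n + 1) * p := Nat.mul_le_mul_right _ (by omega)
    omega
  rw [hn, this]; rfl

theorem card_normalizer_sylow_perm (h1 : p ≤ Fintype.card α) (h2 : Fintype.card α < 2 * p)
    (P : Sylow p (Perm α)) :
    Nat.card (normalizer ((P : Subgroup (Perm α)) : Set (Perm α))) =
      p * (p - 1) * (Fintype.card α - p).factorial := by
  have hp : p.Prime := Fact.out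
  set N := normalizer ((P : Subgroup (Perm α)) : Set (Perm α))
  have hP := card_sylow_perm h1 h2 P
  have hcyc : IsCyclic (P : Subgroup (Perm α)) := isCyclic_of_prime_card hP
  let θ : N →* MulAut (P : Subgroup (Perm α)) := (P : Subgroup (Perm α)).normalizerMonoidHom
  -- a generator
  have hgen : ∃ x : (P : Subgroup (Perm α)), x ≠ 1 := by
    have : Nontrivial (P : Subgroup (Perm α)) :=
      Finite.one_lt_card_iff_nontrivial.mp (by rw [hP]; exact hp.one_lt)
    exact exists_ne 1
  obtain ⟨x, hx⟩ := hgen
  have hord : ∀ y : (P : Subgroup (Perm α)), y ≠ 1 → orderOf (y : Perm α) = p := by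
    intro y hy
    rw [orderOf_coe]
    exact orderOf_eq_prime ((congrArg (y ^ ·) hP).symm.trans pow_card_eq_one') hy
  have hzp : zpowers (x : Perm α) = (P : Subgroup (Perm α)) :=
    eq_of_le_of_card_ge (zpowers_le.mpr x.2) (by rw [hP, Nat.card_zpowers, hord x hx])
  have htop : ∀ y : (P : Subgroup (Perm α)), y ∈ zpowers x := by
    intro y
    obtain ⟨k, hk⟩ := mem_zpowers_iff.mp (show (y : Perm α) ∈ zpowers (x : Perm α) from
      hzp.ge y.2)
    exact mem_zpowers_iff.mpr ⟨k, Subtype.ext (by simpa using hk)⟩
  have hsurj : Function.Surjective θ := by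
    intro σ
    have hσx : σ x ≠ 1 := fun h => hx (σ.injective (h.trans (map_one σ).symm))
    have hconj : IsConj (x : Perm α) (σ x : Perm α) := by
      rw [Perm.isConj_iff_cycleType_eq, cycleType_of_orderOf h2 (hord _ hx),
        cycleType_of_orderOf h2 (hord _ hσx)]
    obtain ⟨c, hc⟩ := isConj_iff.mp hconj
    have hcN : c ∈ N := by
      have hmap : (P : Subgroup (Perm α)).map (MulAut.conj c).toMonoidHom = P := by
        refine eq_of_le_of_card_ge ?_ ?_
        · rw [← hzp, MonoidHom.map_zpowers, hzp, zpowers_le]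
          show c * (x : Perm α) * c⁻¹ ∈ (P : Subgroup (Perm α))
          rw [hc]; exact (σ x).2
        · rw [card_map_of_injective (MulAut.conj c).injective]
      rw [mem_normalizer_iff]
      intro y
      constructor
      · intro hy
        rw [← hmap]
        exact ⟨y, hy, rfl⟩
      · intro hy
        rw [← hmap] at hy
        obtain ⟨z, hz, hzy⟩ := hy
        have : z = y := (MulAut.conj c).injective hzy
        exact this ▸ hz
    refine ⟨⟨c, hcN⟩, MulEquiv.ext fun y => ?_⟩
    obtain ⟨k, rfl⟩ := mem_zpowers_iff.mp (htop y)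
    rw [map_zpow, map_zpow]
    congr 1
    exact Subtype.ext hc
  have hk := θ.ker.card_mul_index
  rw [Subgroup.index_ker] at hk
  rw [← hk, θ.range_eq_top.mpr hsurj, card_top, IsCyclic.card_mulAut, hP,
    Nat.totient_prime hp]
  have hker : Nat.card θ.ker = Nat.card (centralizer {(x : Perm α)}) := by
    have hC : centralizer ((P : Subgroup (Perm α)) : Set (Perm α)) =
        centralizer {(x : Perm α)} := by
      refine (congrArg (fun H : Subgroup (Perm α) => centralizer (H : Set (Perm α))) hzp.symm).trans ?_
      simp only [zpowers_eq_closure, centralizer_closure]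
    have hle : centralizer ((P : Subgroup (Perm α)) : Set (Perm α)) ≤ N :=
      centralizer_le_normalizer _
    rw [(P : Subgroup (Perm α)).normalizerMonoidHom_ker,
      Nat.card_congr (subgroupOfEquivOfLe hle).toEquiv, hC]
  rw [hker, Perm.nat_card_centralizer, cycleType_of_orderOf h2 (hord x hx)]
  simp
  ring

theorem sylow_perm_le_alternating (hp2 : p ≠ 2) (P : Sylow p (Perm α)) :
    (P : Subgroup (Perm α)) ≤ alternatingGroup α := by
  intro x hx
  have hp : p.Prime := Fact.out
  obtain ⟨k, hk⟩ := P.isPGroup' ⟨x, hx⟩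
  have hk' : x ^ p ^ k = 1 := by simpa using congrArg Subtype.val hk
  rw [Perm.mem_alternatingGroup]
  rcases Int.units_eq_one_or (Perm.sign x) with h | h
  · exact h
  · have hodd : Odd (p ^ k) := (hp.odd_of_ne_two hp2).pow
    have := congrArg Perm.sign hk'
    rw [map_pow, h, map_one, hodd.neg_one_pow] at this
    exact h.trans this

theorem two_mul_card_normalizer_alternating (hα : 2 ≤ Fintype.card α) (hp2 : p ≠ 2)
    (P : Sylow p (Perm α)) :
    2 * Nat.card (normalizer
      (((P : Subgroup (Perm α)).subgroupOf (alternatingGroup α) : Subgroup (alternatingGroup α)) :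
        Set (alternatingGroup α))) =
      Nat.card (normalizer ((P : Subgroup (Perm α)) : Set (Perm α))) := by
  set A := alternatingGroup α
  set N := normalizer ((P : Subgroup (Perm α)) : Set (Perm α))
  have : Nontrivial α := Fintype.one_lt_card_iff_nontrivial.mp hα
  have hPA := sylow_perm_le_alternating hp2 P
  have heq : normalizer (((P : Subgroup (Perm α)).subgroupOf A : Subgroup A) : Set A) =
      N.subgroupOf A := by
    ext x
    rw [mem_subgroupOf, mem_normalizer_iff, mem_normalizer_iff]
    constructor
    · intro h y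
      by_cases hy : y ∈ A
      · exact h ⟨y, hy⟩
      · have : (x : Perm α) * y * (x : Perm α)⁻¹ ∉ A := fun hc => hy (by
          have := A.mul_mem (A.mul_mem (A.inv_mem x.2) hc) x.2
          simpa [mul_assoc] using this)
        exact iff_of_false (fun h => hy (hPA h)) (fun h => this (hPA h))
    · intro h y
      exact h y
  have hsup : N ⊔ A = ⊤ := P.normalizer_sup_eq_top' hPA
  have hrel : (A.subgroupOf N).index = 2 := by
    rw [← relIndex, ← relIndex_sup_right, hsup, relIndex_top_right,
      alternatingGroup.index_eq_two]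
  have := (A.subgroupOf N).card_mul_index
  rw [hrel] at this
  rw [heq, ← this, mul_comm]
  congr 1
  rw [← card_map_of_injective N.subtype_injective, ← card_map_of_injective A.subtype_injective,
    subgroupOf_map_subtype, subgroupOf_map_subtype, inf_comm]

variable {G : Type*} [Group G]

/-- If a simple group has exactly `p + 1` Sylow `p`-subgroups, of order `p`, then
`2 |N(P)|` divides `p (p - 1)`. -/
theorem two_mul_card_normalizer_dvd [Finite G] [IsSimpleGroup G] (hG : ¬ IsMulCommutative G)
    (hp2 : p ≠ 2) (P : Sylow p G) (hP : Nat.card (P : Subgroup G) = p)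
    (hn : Nat.card (Sylow p G) = p + 1) :
    2 * Nat.card (normalizer ((P : Subgroup G) : Set G)) ∣ p * (p - 1) := by
  have hp : p.Prime := Fact.out
  have hpG : p ∣ Nat.card G := dvd_trans (dvd_of_eq hP.symm) (card_subgroup_dvd_card _)
  have hidx : (normalizer ((P : Subgroup G) : Set G)).index = p + 1 :=
    P.card_eq_index_normalizer.symm.trans hn
  obtain ⟨f, hf⟩ : ∃ f : G →* alternatingGroup (Fin (p + 1)), Function.Injective f :=
    hidx ▸ exists_injective_alternating hG _ (normalizer_sylow_ne_top hG hpG P)
  let g : G →* Perm (Fin (p + 1)) := (alternatingGroup (Fin (p + 1))).subtype.comp f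
  have hg : Function.Injective g := Subtype.val_injective.comp hf
  have hc : Nat.card ((P : Subgroup G).map g) = p := by rw [card_map_of_injective hg, hP]
  have hfac : (Nat.card (Perm (Fin (p + 1)))).factorization p = 1 := by
    rw [Nat.card_perm, Nat.card_fin]
    refine le_antisymm ?_ (hp.dvd_iff_one_le_factorization (Nat.factorial_pos _).ne' |>.mp
      (Nat.dvd_factorial hp.pos (by omega)))
    by_contra hlt
    exact factorial_two_mul_sq hp (show p + 1 < 2 * p by have := hp.two_le; omega)
      ((pow_dvd_pow p (show 2 ≤ _ by omega)).trans (Nat.ordProj_dvd _ p))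
  let Q : Sylow p (Perm (Fin (p + 1))) := Sylow.ofCard ((P : Subgroup G).map g)
    (by rw [hc, hfac, pow_one])
  have hkey := two_mul_card_normalizer_alternating (α := Fin (p + 1))
    (by rw [Fintype.card_fin]; have := hp.two_le; omega) hp2 Q
  rw [card_normalizer_sylow_perm (by simp) (by simp; have := hp.two_le; omega) Q,
    Fintype.card_fin, Nat.add_sub_cancel_left, Nat.factorial_one, mul_one] at hkey
  rw [← hkey]
  apply Nat.mul_dvd_mul_left
  rw [← card_map_of_injective (f := f) hf]
  apply card_dvd_of_le
  rintro _ ⟨x, hx, rfl⟩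
  rw [mem_normalizer_iff]
  intro y
  simp only [SetLike.mem_coe, mem_subgroupOf, Subgroup.coe_mul, Subgroup.coe_inv]
  show (y : Perm (Fin (p + 1))) ∈ (P : Subgroup G).map g ↔
    g x * y * (g x)⁻¹ ∈ (P : Subgroup G).map g
  have hx' := mem_normalizer_iff.mp hx
  constructor
  · rintro ⟨z, hz, hzy⟩
    exact ⟨x * z * x⁻¹, (hx' z).mp hz, by rw [map_mul, map_mul, map_inv, hzy]⟩
  · rintro ⟨z, hz, hzy⟩
    refine ⟨x⁻¹ * z * x, (hx' _).mpr (by rwa [show x * (x⁻¹ * z * x) * x⁻¹ = z by group]), ?_⟩
    rw [map_mul, map_mul, map_inv, hzy]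
    simp [mul_assoc]

end Cfsg.Agent.SmallOrders
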