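-- A kernel-checkable criterion for "no non-abelian simple group has order n".
--
-- * `critBool n p e`: every candidate for the number of Sylow `p`-subgroups is impossible
-- * `card_ne_of_critBool`: its soundness; use as `card_ne_of_critBool hG p e (by decide +kernel)`
import Cfsg.Agent.Lib.SmallOrders.Intersect
import Cfsg.Agent.Lib.SmallOrders.SymSylow

set_option autoImplicit false

namespace Cfsg.Agent.SmallOrders

/-- trial division primality for small numbers -/
def primeBool (p : ℕ) : Bool :=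
  decide (2 ≤ p) && (List.range 100).all (fun d => decide (d < 2 ∨ p ≤ d * d - 1 ∨ p % d ≠ 0)) &&
    decide (p < 9801)

theorem prime_of_primeBool {p : ℕ} (h : primeBool p = true) : p.Prime := by
  simp only [primeBool, Bool.and_eq_true, decide_eq_true_eq, List.all_eq_true,
    List.mem_range] at h
  obtain ⟨⟨h2, hall⟩, hlt⟩ := h
  rw [Nat.prime_def_le_sqrt]
  refine ⟨h2, fun m hm hms hdvd => ?_⟩
  have hsq : m * m ≤ p := Nat.le_sqrt.mp hms
  have hm100 : m < 100 := by nlinarith
  rcases hall m hm100 with h | h | h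
  · omega
  · have : 0 < m * m := Nat.mul_pos (by omega) (by omega)
    omega
  · exact h (Nat.mod_eq_zero_of_dvd hdvd)

/-- a number `d` of Sylow `p`-subgroups is impossible -/
def badCand (n p e m d : ℕ) : Bool :=
  (decide (d ≤ 20) && decide (¬ 2 * n ∣ Nat.factorial d)) ||
  (decide (e ≤ 2) && decide (Nat.gcd (m / d) (p ^ e - 1) = 1)) ||
  (decide (e = 1) && decide (p ≠ 2) && decide (d = p + 1) &&
    decide (¬ 2 * (n / d) ∣ p * (p - 1))) ||
  (decide (2 ≤ e) && decide (d % (p ^ 2) ≠ 1) &&
    (List.range (m / (p + 1) + 1)).all (fun D =>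
      decide (D < 5) || decide (¬ D ∣ m) || (decide (D ≤ 20) && decide (¬ 2 * n ∣ Nat.factorial D))))

def critBool (n p e : ℕ) : Bool :=
  primeBool p && decide (0 < e) && decide (p ^ e ∣ n) && decide (¬ p ∣ n / p ^ e) &&
  (List.range (n / p ^ e / p + 1)).all (fun k =>
    decide (k = 0) || decide (¬ (k * p + 1) ∣ n / p ^ e) || badCand n p e (n / p ^ e) (k * p + 1))

variable {G : Type*} [Group G]

theorem badCand_false [Finite G] [IsSimpleGroup G] (hG : ¬ IsMulCommutative G) {p e m : ℕ}
    [Fact p.Prime] (he : e ≠ 0) (h : Nat.card G = p ^ e * m) (hm : ¬ p ∣ m) :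
    badCand (Nat.card G) p e m (Nat.card (Sylow p G)) = false := by
  have hp : p.Prime := Fact.out
  have hpG : p ∣ Nat.card G := h ▸ (dvd_pow_self p he).mul_right m
  obtain ⟨P⟩ := (inferInstance : Nonempty (Sylow p G))
  have hcard := card_sylow_subgroup h hm P
  by_contra hb
  simp only [badCand, Bool.not_eq_false, Bool.or_eq_true, Bool.and_eq_true, decide_eq_true_eq,
    List.all_eq_true, List.mem_range] at hb
  rcases hb with ((⟨-, h1⟩ | ⟨he2, h2⟩) | ⟨⟨⟨he1, hp2⟩, hd⟩, h3⟩) | ⟨⟨he2, hmod⟩, h4⟩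
  · exact h1 (two_mul_card_dvd_factorial_sylow hG hpG)
  · have hab : IsMulCommutative (P : Subgroup G) := by
      rcases (show e = 1 ∨ e = 2 by omega) with rfl | rfl
      · have := isCyclic_of_prime_card (p := p) (α := (P : Subgroup G))
          (by rw [hcard, pow_one])
        infer_instance
      · exact IsPGroup.isMulCommutative_of_card_eq_prime_sq hcard
    obtain ⟨q, i, hq, hqm, hi, hie, hqi⟩ := exists_prime_dvd_normalizer hG he h hm P hab
    have hdm : Nat.card (Sylow p G) ∣ m := (dvd_mul_left _ q).trans hqm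
    have hq1 : q ∣ m / Nat.card (Sylow p G) := (Nat.dvd_div_iff_mul_dvd hdm).mpr
      (by rwa [mul_comm])
    have hq2 : q ∣ p ^ e - 1 := by
      rcases (show i = e ∨ (i = 1 ∧ e = 2) by omega) with rfl | ⟨rfl, rfl⟩
      · exact hqi
      · refine hqi.trans ⟨p + 1, ?_⟩
        rw [pow_one]
        have := Nat.sq_sub_sq p 1
        rw [one_pow] at this
        rw [this, mul_comm]
    exact hq.ne_one (Nat.dvd_one.mp (h2 ▸ Nat.dvd_gcd hq1 hq2))
  · have hP : Nat.card (P : Subgroup G) = p := by rw [hcard, he1, pow_one]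
    have h5 := two_mul_card_normalizer_dvd hG hp2 P hP hd
    rw [← card_normalizer_mul_card_sylow P, Nat.mul_div_cancel _ (by omega)] at h3
    exact h3 h5
  · have hne : ¬ Nat.card (Sylow p G) ≡ 1 [MOD p ^ 2] := fun hc => hmod (by
      rw [hc, Nat.mod_eq_of_lt]
      exact Nat.one_lt_pow two_ne_zero hp.one_lt)
    obtain ⟨D, hDm, hDle, hDfac, hD5⟩ := exists_index_of_sylow_not_modEq hG he2 h hm hne
    have hlt : D < m / (p + 1) + 1 := Nat.lt_succ_of_le
      ((Nat.le_div_iff_mul_le (by omega)).mpr (by rwa [mul_comm]))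
    rcases h4 D hlt with (h' | h') | ⟨-, h'⟩
    · omega
    · exact h' hDm
    · exact h' hDfac

theorem card_ne_of_critBool [Finite G] [IsSimpleGroup G] (hG : ¬ IsMulCommutative G) {n : ℕ}
    (p e : ℕ) (h : critBool n p e = true) : Nat.card G ≠ n := by
  intro hn
  simp only [critBool, Bool.and_eq_true, decide_eq_true_eq, List.all_eq_true, List.mem_range,
    Bool.or_eq_true] at h
  obtain ⟨⟨⟨⟨hpB, he⟩, hdvd⟩, hm⟩, hall⟩ := h
  have := Fact.mk (prime_of_primeBool hpB)
  have hp : p.Prime := Fact.out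
  set m := n / p ^ e with hmdef
  have hfac : Nat.card G = p ^ e * m := by rw [hn, hmdef, Nat.mul_div_cancel' hdvd]
  have hpG : p ∣ Nat.card G := hfac ▸ (dvd_pow_self p (by omega)).mul_right m
  have hmpos : 0 < m := Nat.pos_of_ne_zero fun h0 => hm (h0 ▸ dvd_zero p)
  obtain ⟨P⟩ := (inferInstance : Nonempty (Sylow p G))
  have hdm : Nat.card (Sylow p G) ∣ m := index_sylow hfac hm P ▸ P.card_dvd_index
  have hone := one_lt_card_sylow hG hpG
  have hmod : Nat.card (Sylow p G) ≡ 1 [MOD p] := card_sylow_modEq_one p G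
  unfold Nat.ModEq at hmod
  rw [Nat.one_mod_eq_one.mpr hp.ne_one] at hmod
  have hd := Nat.div_add_mod' (Nat.card (Sylow p G)) p
  rw [hmod] at hd
  have hle : Nat.card (Sylow p G) / p < m / p + 1 :=
    Nat.lt_succ_of_le (Nat.div_le_div_right (Nat.le_of_dvd hmpos hdm))
  rcases hall _ hle with (h0 | h0) | h0
  · rw [h0] at hd; omega
  · rw [hd] at h0; exact h0 hdm
  · rw [hd, ← hn, badCand_false hG (by omega) hfac hm] at h0
    exact Bool.false_ne_true h0

end Cfsg.Agent.SmallOrders
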