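-- Excluding a whole range of orders by a list of witnesses `(p, e)`, one for each order.
--
-- * `mem_of_coverBool`: `a ≤ |G| < a + w.length` and `coverBool a w ex` give `|G| ∈ ex`
import Cfsg.Agent.Lib.SmallOrders.Check

set_option autoImplicit false

namespace Cfsg.Agent.SmallOrders

/-- `(p, e)` shows that no non-abelian simple group has order `n` -/
def okBool (n p e : ℕ) : Bool :=
  (primeBool p && decide (n = p ^ e)) || critBool n p e

/-- every order from `a` on is excluded by the witness list or is an exception -/
def coverBool : ℕ → List (ℕ × ℕ) → List ℕ → Bool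
  | _, [], _ => true
  | a, w :: ws, ex => (okBool a w.1 w.2 || ex.contains a) && coverBool (a + 1) ws ex

variable {G : Type*} [Group G]

theorem card_ne_of_okBool [Finite G] [IsSimpleGroup G] (hG : ¬ IsMulCommutative G) {n p e : ℕ}
    (h : okBool n p e = true) : Nat.card G ≠ n := by
  simp only [okBool, Bool.or_eq_true, Bool.and_eq_true, decide_eq_true_eq] at h
  rcases h with ⟨hp, hn⟩ | h
  · have := Fact.mk (prime_of_primeBool hp)
    exact fun hc => not_isPGroup hG p (IsPGroup.of_card (hc.trans hn))
  · exact card_ne_of_critBool hG p e h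

theorem mem_of_coverBool [Finite G] [IsSimpleGroup G] (hG : ¬ IsMulCommutative G) :
    ∀ (w : List (ℕ × ℕ)) (a : ℕ) (ex : List ℕ), coverBool a w ex = true → a ≤ Nat.card G →
      Nat.card G < a + w.length → Nat.card G ∈ ex
  | [], a, ex, _, h1, h2 => absurd h1 (by simp at h2; omega)
  | w :: ws, a, ex, h, h1, h2 => by
    simp only [coverBool, Bool.and_eq_true, Bool.or_eq_true, List.contains_iff_mem] at h
    rcases Nat.eq_or_lt_of_le h1 with he | hlt
    · rcases h.1 with h' | h'
      · exact absurd he.symm (card_ne_of_okBool hG h')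
      · exact he ▸ h'
    · exact mem_of_coverBool hG ws (a + 1) ex h.2 hlt (by simp at h2; omega)

theorem two_le_card [Finite G] [Nontrivial G] : 2 ≤ Nat.card G := Finite.one_lt_card

end Cfsg.Agent.SmallOrders
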