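-- A stronger kernel-checkable criterion, using the action of `N(P)` on the orbits of `P`.
--
-- * `badOrbit n p d`: for a Sylow subgroup of order `p`, `|C(x)| = p c` with `c ∣ |A_k|` fails
-- * `card_ne_of_critBool2`: use as `card_ne_of_critBool2 hG p e (by decide +kernel)`
import Cfsg.Agent.Lib.SmallOrders.Range
import Cfsg.Agent.Lib.SmallOrders.OrbitSign

set_option autoImplicit false

namespace Cfsg.Agent.SmallOrders

/-- `|A_k|` -/
def altCard (k : ℕ) : ℕ := if k < 2 then 1 else Nat.factorial k / 2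

theorem card_alternatingGroup_fin (k : ℕ) :
    Nat.card (alternatingGroup (Fin k)) = altCard k := by
  rcases Nat.lt_or_ge k 2 with h | h
  · have : Subsingleton (Fin k) := Fin.subsingleton_iff_le_one.mpr (by omega)
    rw [altCard, if_pos h, Nat.card_eq_one_iff_unique]
    exact ⟨inferInstance, inferInstance⟩
  · have : Nontrivial (Fin k) := Fin.nontrivial_iff_two_le.mpr h
    rw [altCard, if_neg (by omega), nat_card_alternatingGroup, Nat.card_eq_fintype_card,
      Fintype.card_fin]

/-- `d = k p + 1` Sylow subgroups of order `p` leave no room for the normaliser -/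
def badOrbit (n p d : ℕ) : Bool :=
  decide (p ≠ 2) && decide ((d - 1) / p ≤ 30) &&
    (List.range p).all (fun j => decide (j < 2) || decide (¬ j ∣ p - 1) ||
      decide (¬ p * j ∣ n / d) || decide (¬ (n / d) / (p * j) ∣ altCard ((d - 1) / p)))

/-- the stronger criterion -/
def critBool2 (n p e : ℕ) : Bool :=
  primeBool p && decide (0 < e) && decide (p ^ e ∣ n) && decide (¬ p ∣ n / p ^ e) &&
  (List.range (n / p ^ e / p + 1)).all (fun k =>
    decide (k = 0) || decide (¬ (k * p + 1) ∣ n / p ^ e) || badCand n p e (n / p ^ e) (k * p + 1) ||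
      (decide (e = 1) && badOrbit n p (k * p + 1)))

variable {G : Type*} [Group G]

theorem badOrbit_false [Finite G] [IsSimpleGroup G] (hG : ¬ IsMulCommutative G) {p m : ℕ}
    [Fact p.Prime] (h : Nat.card G = p * m) (hm : ¬ p ∣ m) :
    badOrbit (Nat.card G) p (Nat.card (Sylow p G)) = false := by
  have hp : p.Prime := Fact.out
  by_contra hb
  simp only [badOrbit, Bool.not_eq_false, Bool.and_eq_true, decide_eq_true_eq, List.all_eq_true,
    List.mem_range, Bool.or_eq_true] at hb
  obtain ⟨⟨hp2, -⟩, hall⟩ := hb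
  have hP : ∀ P : Sylow p G, Nat.card (P : Subgroup G) = p := fun P => by
    rw [card_sylow_subgroup (e := 1) (by rw [pow_one]; exact h) hm P, pow_one]
  obtain ⟨P⟩ := (inferInstance : Nonempty (Sylow p G))
  have : IsCyclic (P : Subgroup G) := isCyclic_of_prime_card (hP P)
  obtain ⟨x, hxP⟩ := (Subgroup.isCyclic_iff_exists_zpowers_eq_top (P : Subgroup G)).mp inferInstance
  have hx : orderOf x = p := by rw [← Nat.card_zpowers, hxP, hP]
  obtain ⟨j, hj1, hjp, hCj, hpC, -⟩ := exists_card_centralizer_mul hG hx P hxP.symm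
  have hd : Nat.card (Sylow p G) = (Nat.card (Sylow p G) - 1) / p * p + 1 := by
    have hmod : Nat.card (Sylow p G) ≡ 1 [MOD p] := card_sylow_modEq_one p G
    unfold Nat.ModEq at hmod
    rw [Nat.one_mod_eq_one.mpr hp.ne_one] at hmod
    have h1 := Nat.div_add_mod' (Nat.card (Sylow p G)) p
    rw [hmod] at h1
    have : Nat.card (Sylow p G) - 1 = Nat.card (Sylow p G) / p * p := by omega
    rw [this, Nat.mul_div_cancel _ hp.pos]
    exact h1.symm
  obtain ⟨c, hc, hck⟩ := exists_card_centralizer_dvd hG hp2 hx hP hd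
  have hN : Nat.card G / Nat.card (Sylow p G) = p * c * j := by
    rw [← card_normalizer_mul_card_sylow P, Nat.mul_div_cancel _ Nat.card_pos, ← hCj, hc]
  have hjlt : j < p := by
    have := Nat.le_of_dvd (by have := hp.two_le; omega) hjp
    have := hp.two_le
    omega
  rcases hall j hjlt with ((h1 | h1) | h1) | h1
  · omega
  · exact h1 hjp
  · exact h1 ⟨c, by rw [hN]; ring⟩
  · apply h1
    rw [hN, show p * c * j = p * j * c by ring,
      Nat.mul_div_cancel_left _ (Nat.mul_pos hp.pos (by omega)), ← card_alternatingGroup_fin]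
    exact hck

theorem card_ne_of_critBool2 [Finite G] [IsSimpleGroup G] (hG : ¬ IsMulCommutative G) {n : ℕ}
    (p e : ℕ) (h : critBool2 n p e = true) : Nat.card G ≠ n := by
  intro hn
  simp only [critBool2, Bool.and_eq_true, decide_eq_true_eq, List.all_eq_true, List.mem_range,
    Bool.or_eq_true] at h
  obtain ⟨⟨⟨⟨hpB, he⟩, hdvd⟩, hm⟩, hall⟩ := h
  have := Fact.mk (prime_of_primeBool hpB)
  have hp : p.Prime := Fact.out
  set m := n / p ^ e with hmdef
  have hfac : Nat.card G = p ^ e * m := by rw [hn, hmdef, Nat.mul_div_cancel' hdvd]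
  have hpG : p ∣ Nat.card G := hfac ▸ (dvd_pow_self p (by omega)).mul_right m
  have hmpos : 0 < m := Nat.pos_of_ne_zero fun h0 => hm (h0 ▸ dvd_zero p)
  obtain ⟨P⟩ := (inferInstance : Nonempty (Sylow p G))
  have hdm : Nat.card (Sylow p G) ∣ m := index_sylow hfac hm P ▸ P.card_dvd_index
  have hone := one_lt_card_sylow hG hpG
  have hmod : Nat.card (Sylow p G) ≡ 1 [MOD p] := card_sylow_modEq_one p G
  unfold Nat.ModEq at hmod
  rw [Nat.one_mod_eq_one.mpr hp.ne_one] at hmod
  have hd := Nat.div_add_mod' (Nat.card (Sylow p G)) p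
  rw [hmod] at hd
  have hle : Nat.card (Sylow p G) / p < m / p + 1 :=
    Nat.lt_succ_of_le (Nat.div_le_div_right (Nat.le_of_dvd hmpos hdm))
  rcases hall _ hle with ((h0 | h0) | h0) | ⟨he1, h0⟩
  · rw [h0] at hd; omega
  · rw [hd] at h0; exact h0 hdm
  · rw [hd, ← hn, badCand_false hG (by omega) hfac hm] at h0
    exact Bool.false_ne_true h0
  · subst he1
    rw [hd, ← hn, badOrbit_false hG (by rw [hfac, pow_one]) hm] at h0
    exact Bool.false_ne_true h0

end Cfsg.Agent.SmallOrders
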