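-- Counting elements in Sylow subgroups of prime order, and normal `p`-complements for small indices.
--
-- * `card_orderOf_eq_prime`: `#{g | orderOf g = q} = n_q (q - 1)` when Sylow subgroups have order `q`
-- * `card_sylow_eq_one_of_count`: too few elements are left for a second Sylow `p`-subgroup
import Cfsg.Agent.Lib.SmallOrders.Basic

set_option autoImplicit false

namespace Cfsg.Agent.SmallOrders

open Subgroup

variable {G : Type*} [Group G]

theorem exists_sylow_eq_zpowers [Finite G] {q : ℕ} [Fact q.Prime]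
    (hq : ∀ Q : Sylow q G, Nat.card (Q : Subgroup G) = q) {g : G} (hg : orderOf g = q) :
    ∃ Q : Sylow q G, (Q : Subgroup G) = zpowers g := by
  have hc : Nat.card (zpowers g) = q := by rw [Nat.card_zpowers, hg]
  obtain ⟨Q, hQ⟩ := (IsPGroup.of_card (n := 1) (show Nat.card (zpowers g) = q ^ 1 by
    rw [hc, pow_one])).exists_le_sylow
  exact ⟨Q, (eq_of_le_of_card_ge hQ (by rw [hq Q, hc])).symm⟩

theorem card_orderOf_eq_prime [Finite G] {q : ℕ} [Fact q.Prime]
    (hq : ∀ Q : Sylow q G, Nat.card (Q : Subgroup G) = q) :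
    Nat.card {g : G // orderOf g = q} = Nat.card (Sylow q G) * (q - 1) := by
  classical
  have : Fintype (Sylow q G) := Fintype.ofFinite _
  have hord : ∀ (Q : Sylow q G) (x : (Q : Subgroup G)), x ≠ 1 → orderOf (x : G) = q := by
    intro Q x hx
    rw [orderOf_coe]
    exact orderOf_eq_prime ((congrArg (x ^ ·) (hq Q)).symm.trans pow_card_eq_one') hx
  let f : (Σ Q : Sylow q G, {x : (Q : Subgroup G) // x ≠ 1}) → {g : G // orderOf g = q} :=
    fun s => ⟨(s.2.1 : G), hord s.1 s.2.1 s.2.2⟩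
  have hf : Function.Bijective f := by
    constructor
    · rintro ⟨Q₁, x₁, h₁⟩ ⟨Q₂, x₂, h₂⟩ h
      have hx : (x₁ : G) = x₂ := congrArg Subtype.val h
      have hc : Nat.card (zpowers (x₁ : G)) = q := by rw [Nat.card_zpowers, hord Q₁ x₁ h₁]
      have e₁ : zpowers (x₁ : G) = (Q₁ : Subgroup G) :=
        eq_of_le_of_card_ge (zpowers_le.mpr x₁.2) (by rw [hc, hq])
      have e₂ : zpowers (x₁ : G) = (Q₂ : Subgroup G) :=
        eq_of_le_of_card_ge (zpowers_le.mpr (hx ▸ x₂.2)) (by rw [hc, hq])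
      obtain rfl : Q₁ = Q₂ := Sylow.ext (e₁.symm.trans e₂)
      obtain rfl : x₁ = x₂ := Subtype.ext hx
      rfl
    · rintro ⟨g, hg⟩
      obtain ⟨Q, hQ⟩ := exists_sylow_eq_zpowers hq hg
      refine ⟨⟨Q, ⟨g, hQ ▸ mem_zpowers g⟩, fun h => ?_⟩, rfl⟩
      have : g = 1 := congrArg Subtype.val h
      rw [this, orderOf_one] at hg
      exact (Fact.out : q.Prime).ne_one hg.symm
  rw [← Nat.card_congr (Equiv.ofBijective f hf), Nat.card_sigma]
  have hfib : ∀ Q : Sylow q G, Nat.card {x : (Q : Subgroup G) // x ≠ 1} = q - 1 := by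
    intro Q
    have : Fintype (Q : Subgroup G) := Fintype.ofFinite _
    rw [Nat.card_eq_fintype_card, Fintype.card_subtype_compl, Fintype.card_subtype_eq,
      ← Nat.card_eq_fintype_card, hq]
  simp [hfib]

theorem card_sylow_eq_one_of_count [Finite G] {p : ℕ} [Fact p.Prime] (S : Set G)
    (hS : ∀ g ∈ S, ∀ k, g ^ p ^ k ≠ 1)
    (hcard : Nat.card G ≤ S.ncard + p ^ (Nat.card G).factorization p) :
    Nat.card (Sylow p G) = 1 := by
  have key : ∀ P : Sylow p G, ((P : Subgroup G) : Set G) = Sᶜ := by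
    intro P
    refine Set.eq_of_subset_of_ncard_le (fun g hg hgS => ?_) ?_
    · obtain ⟨k, hk⟩ := P.isPGroup' ⟨g, hg⟩
      exact hS g hgS k (congrArg Subtype.val hk)
    · have h1 := Set.ncard_add_ncard_compl S
      rw [← Nat.card_coe_set_eq ((P : Subgroup G) : Set G)]
      change Sᶜ.ncard ≤ Nat.card (P : Subgroup G)
      rw [P.card_eq_multiplicity]
      omega
  have : Subsingleton (Sylow p G) :=
    ⟨fun P Q => Sylow.ext (SetLike.coe_injective ((key P).trans (key Q).symm))⟩
  exact Nat.card_of_subsingleton default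

end Cfsg.Agent.SmallOrders
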