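-- The possible numbers of Sylow subgroups that survive the basic criteria; small index bounds.
--
-- * `mem_of_candBool`: `n_p ∈ L`
-- * `le_index_of_facBool`: no proper subgroup has index below `k`
import Cfsg.Agent.Lib.SmallOrders.Check

set_option autoImplicit false

namespace Cfsg.Agent.SmallOrders

/-- every candidate for `n_p` outside `L` is impossible -/
def candBool (n p e : ℕ) (L : List ℕ) : Bool :=
  primeBool p && decide (0 < e) && decide (p ^ e ∣ n) && decide (¬ p ∣ n / p ^ e) &&
  (List.range (n / p ^ e / p + 1)).all (fun k =>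
    decide (k = 0) || decide (¬ (k * p + 1) ∣ n / p ^ e) || L.contains (k * p + 1) ||
      badCand n p e (n / p ^ e) (k * p + 1))

/-- `2 n ∤ D!` for the divisors `D < k` of `n` -/
def facBool (n k : ℕ) : Bool :=
  (List.range k).all (fun D => decide (¬ D ∣ n) || decide (D < 5) || decide (¬ 2 * n ∣ Nat.factorial D))

variable {G : Type*} [Group G] [Finite G] [IsSimpleGroup G]

theorem mem_of_candBool (hG : ¬ IsMulCommutative G) {n : ℕ} (hn : Nat.card G = n) (p e : ℕ)
    [Fact p.Prime] (L : List ℕ) (h : candBool n p e L = true) : Nat.card (Sylow p G) ∈ L := by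
  simp only [candBool, Bool.and_eq_true, decide_eq_true_eq, List.all_eq_true, List.mem_range,
    Bool.or_eq_true, List.contains_iff_mem] at h
  obtain ⟨⟨⟨⟨hpB, he⟩, hdvd⟩, hm⟩, hall⟩ := h
  have hp : p.Prime := Fact.out
  set m := n / p ^ e with hmdef
  have hfac : Nat.card G = p ^ e * m := by rw [hn, hmdef, Nat.mul_div_cancel' hdvd]
  have hpG : p ∣ Nat.card G := hfac ▸ (dvd_pow_self p (by omega)).mul_right m
  have hmpos : 0 < m := Nat.pos_of_ne_zero fun h0 => hm (h0 ▸ dvd_zero p)
  obtain ⟨P⟩ := (inferInstance : Nonempty (Sylow p G))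
  have hdm : Nat.card (Sylow p G) ∣ m := index_sylow hfac hm P ▸ P.card_dvd_index
  have hone := one_lt_card_sylow hG hpG
  have hmod : Nat.card (Sylow p G) ≡ 1 [MOD p] := card_sylow_modEq_one p G
  unfold Nat.ModEq at hmod
  rw [Nat.one_mod_eq_one.mpr hp.ne_one] at hmod
  have hd := Nat.div_add_mod' (Nat.card (Sylow p G)) p
  rw [hmod] at hd
  have hle : Nat.card (Sylow p G) / p < m / p + 1 :=
    Nat.lt_succ_of_le (Nat.div_le_div_right (Nat.le_of_dvd hmpos hdm))
  rcases hall _ hle with ((h0 | h0) | h0) | h0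
  · rw [h0] at hd; omega
  · rw [hd] at h0; exact absurd hdm h0
  · rwa [hd] at h0
  · rw [hd, ← hn, badCand_false hG (by omega) hfac hm] at h0
    exact absurd h0 Bool.false_ne_true

theorem le_index_of_facBool (hG : ¬ IsMulCommutative G) {n : ℕ} (hn : Nat.card G = n) (k : ℕ)
    (h : facBool n k = true) {M : Subgroup G} (hM : M ≠ ⊤) : k ≤ M.index := by
  by_contra hlt
  simp only [facBool, List.all_eq_true, List.mem_range, Bool.or_eq_true, decide_eq_true_eq] at h
  rcases h M.index (Nat.not_le.mp hlt) with (h1 | h1) | h1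
  · exact h1 (hn ▸ M.index_dvd_card)
  · exact absurd (five_le_index hG hM) (by omega)
  · exact h1 (hn ▸ two_mul_card_dvd_factorial_index hG hM)

end Cfsg.Agent.SmallOrders
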