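-- Sylow subgroups of order `p ^ 2`, normal complements, even permutations.
--
-- * `exists_normal_complement`: abelian self-normalising Sylow subgroup gives a normal complement
-- * `exists_normalizer_inter`: two Sylow subgroups of order `p ^ 2` with non-trivial intersection
-- * `sign_toPerm_eq_one`: simple non-abelian groups act by even permutations
-- * `eq_one_of_abelian_fixed`: `N(P)` fixes no non-trivial element of an abelian Sylow subgroup
-- * `four_dvd_card_moved`: an even involution moves a multiple of four points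
import Cfsg.Agent.Lib.SmallOrders.Intersect
import Cfsg.Agent.Lib.Transfer.AbelianHall

set_option autoImplicit false

namespace Cfsg.Agent.SmallOrders

open Subgroup
open scoped commutatorElement

theorem exists_normal_complement {M : Type*} [Group M] [Finite M] {p : ℕ} [Fact p.Prime]
    (P : Sylow p M) (hab : IsMulCommutative (P : Subgroup M))
    (hN : Nat.card (Sylow p M) = (P : Subgroup M).index) :
    ∃ K : Subgroup M, K.Normal ∧ Nat.card K = (P : Subgroup M).index := by
  have h1 := card_normalizer_mul_card_sylow P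
  rw [hN, ← (P : Subgroup M).card_mul_index] at h1
  have hNP : normalizer ((P : Subgroup M) : Set M) = P :=
    (eq_of_le_of_card_ge le_normalizer
      (Nat.eq_of_mul_eq_mul_right (Nat.pos_of_ne_zero index_ne_zero_of_finite) h1).le).symm
  have hle : normalizer ((P : Subgroup M) : Set M) ≤ centralizer ((P : Subgroup M) : Set M) := by
    rw [hNP]
    intro x hx
    exact mem_centralizer_iff.mpr fun y hy =>
      congrArg Subtype.val (mul_comm' (⟨y, hy⟩ : (P : Subgroup M)) ⟨x, hx⟩)
  have hc := MonoidHom.ker_transferSylow_isComplement' P hle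
  refine ⟨(MonoidHom.transferSylow P hle).ker, MonoidHom.normal_ker _, ?_⟩
  have h2 := hc.card_mul
  rw [← (P : Subgroup M).card_mul_index, mul_comm] at h2
  exact Nat.eq_of_mul_eq_mul_left Nat.card_pos h2

variable {G : Type*} [Group G] [Finite G] [IsSimpleGroup G]

/-- If two Sylow subgroups of order `p ^ 2` meet, the normaliser of the intersection is a proper
subgroup of order `p ^ 2 * t` containing both, with more than `p` Sylow subgroups. -/
theorem exists_normalizer_inter (hG : ¬ IsMulCommutative G) {p : ℕ} [Fact p.Prime]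
    (hP : ∀ P : Sylow p G, Nat.card (P : Subgroup G) = p ^ 2) {P Q : Sylow p G} (hPQ : P ≠ Q)
    (hne : (P : Subgroup G) ⊓ (Q : Subgroup G) ≠ ⊥) :
    ∃ M : Subgroup G, M ≠ ⊤ ∧ ∃ t, Nat.card M = p ^ 2 * t ∧ Nat.card (Sylow p M) ∣ t ∧
      p < Nat.card (Sylow p M) ∧ (P : Subgroup G) ≤ M := by
  have hp : p.Prime := Fact.out
  set D := (P : Subgroup G) ⊓ Q with hD
  have hle : ∀ S : Sylow p G, D ≤ (S : Subgroup G) → (S : Subgroup G) ≤ normalizer (D : Set G) := by
    intro S hS x hx
    have hab : IsMulCommutative (S : Subgroup G) := IsPGroup.isMulCommutative_of_card_eq_prime_sq (hP S)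
    refine centralizer_le_normalizer _ (mem_centralizer_iff.mpr fun y hy => ?_)
    exact congrArg Subtype.val (mul_comm' (⟨y, hS hy⟩ : (S : Subgroup G)) ⟨x, hx⟩)
  set M := normalizer (D : Set G)
  have hMtop : M ≠ ⊤ := by
    intro ht
    rcases (normalizer_eq_top_iff.mp ht).eq_bot_or_eq_top with hb | ht'
    · exact hne hb
    · exact (inf_lt_left hPQ).not_ge (ht' ▸ le_top : (P : Subgroup G) ≤ D)
  have hPM := hle P inf_le_left
  have hQM := hle Q inf_le_right
  refine ⟨M, hMtop, (P.subtype hPM : Subgroup M).index, ?_, (P.subtype hPM).card_dvd_index, ?_, hPM⟩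
  · rw [← hP P, ← Nat.card_congr (subgroupOfEquivOfLe hPM).toEquiv, ← P.coe_subtype hPM]
    exact (card_mul_index _).symm
  · have h2 : 1 < Nat.card (Sylow p M) := by
      by_contra hle
      have : Subsingleton (Sylow p M) := (Finite.card_le_one_iff_subsingleton (α := _)).mp (by omega)
      exact hPQ (Sylow.subtype_injective (Subsingleton.elim (P.subtype hPM) (Q.subtype hQM)))
    have hmod : Nat.card (Sylow p M) ≡ 1 [MOD p] := card_sylow_modEq_one p M
    unfold Nat.ModEq at hmod
    rw [Nat.one_mod_eq_one.mpr hp.ne_one] at hmod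
    by_contra hle'
    rcases Nat.lt_or_eq_of_le (Nat.not_lt.mp hle') with h | h
    · rw [Nat.mod_eq_of_lt h] at hmod; omega
    · rw [h, Nat.mod_self] at hmod; omega

theorem eq_one_of_abelian_fixed (hG : ¬ IsMulCommutative G) {p : ℕ} [Fact p.Prime] (P : Sylow p G)
    (hP : IsMulCommutative (P : Subgroup G)) {z : G} (hzP : z ∈ (P : Subgroup G))
    (hfix : ∀ n ∈ normalizer ((P : Subgroup G) : Set G), n * z * n⁻¹ = z) : z = 1 := by
  have hperf : commutator G = ⊤ :=
    (inferInstance : (commutator G).Normal).eq_bot_or_eq_top.resolve_left fun h => hG ⟨⟨fun a b => by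
      have : ⁅a, b⁆ ∈ commutator G := commutator_mem_commutator (mem_top a) (mem_top b)
      rw [h, mem_bot, commutatorElement_eq_one_iff_commute] at this
      exact this⟩⟩
  have h1 := Cfsg.Agent.Transfer.commutator_inf_eq_commutator_normalizer P
  rw [hperf, top_inf_eq] at h1
  have h2 : z ∈ ⁅(P : Subgroup G), normalizer ((P : Subgroup G) : Set G)⁆ ⊓
      centralizer (normalizer ((P : Subgroup G) : Set G) : Set G) :=
    ⟨h1 ▸ hzP, mem_centralizer_iff.mpr fun n hn => mul_inv_eq_iff_eq_mul.mp (hfix n hn)⟩
  rwa [Cfsg.Agent.Transfer.commutator_normalizer_inf_centralizer P, mem_bot] at h2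

theorem sign_toPerm_eq_one (hG : ¬ IsMulCommutative G) {X : Type*} [MulAction G X] [Fintype X]
    [DecidableEq X] (g : G) : Equiv.Perm.sign (MulAction.toPerm g : Equiv.Perm X) = 1 := by
  rcases ((Equiv.Perm.sign.comp (MulAction.toPermHom G X)).normal_ker).eq_bot_or_eq_top with e | e
  · exact absurd ⟨⟨fun a b => (MonoidHom.ker_eq_bot_iff _).mp e
      (by simp only [map_mul, mul_comm])⟩⟩ hG
  · have : g ∈ (Equiv.Perm.sign.comp (MulAction.toPermHom G X)).ker := e ▸ mem_top _
    exact this

theorem four_dvd_card_moved {X : Type*} [Fintype X] [DecidableEq X] (σ : Equiv.Perm X)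
    (h2 : σ ^ 2 = 1) (hs : Equiv.Perm.sign σ = 1) : 4 ∣ σ.support.card := by
  have hc : σ.cycleType = Multiset.replicate (Multiset.card σ.cycleType) 2 :=
    Multiset.eq_replicate_card.mpr fun n hn => by
      rcases (Nat.dvd_prime Nat.prime_two).mp ((Equiv.Perm.dvd_of_mem_cycleType hn).trans
        (orderOf_dvd_of_pow_eq_one h2)) with h | h
      · have := Equiv.Perm.two_le_of_mem_cycleType hn
        omega
      · exact h
  rw [Equiv.Perm.sign_of_cycleType, hc] at hs
  rw [← Equiv.Perm.sum_cycleType, hc, Multiset.sum_replicate, smul_eq_mul]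
  simp only [Multiset.sum_replicate, Multiset.card_replicate, smul_eq_mul] at hs
  set n := Multiset.card σ.cycleType
  rcases Nat.even_or_odd n with ⟨k, hk⟩ | hk
  · exact ⟨k, by omega⟩
  · exfalso
    rw [Odd.neg_one_pow (by obtain ⟨k, hk⟩ := hk; exact ⟨3 * k + 1, by omega⟩)] at hs
    exact absurd hs (by decide)

end Cfsg.Agent.SmallOrders
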