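-- Tools for single small orders.
--
-- * `exists_le_normalizer_complement`: the normal complement of an abelian self-normalising Sylow
-- * `le_normalizer_of_card`: index-two overgroups normalise
-- * `conj_eq_inv_of_normalizer`: `|N(P)| = 2 |P|` means `N(P)` inverts an abelian Sylow subgroup
-- * `centralizer_le_of_inf_eq_bot`: trivial intersections give `C(a) ≤ N(P)`
-- * `le_normalizer_of_card_sylow_one`: a subgroup with one Sylow subgroup lies in its normaliser
import Cfsg.Agent.Lib.SmallOrders.SqSylow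
import Cfsg.Agent.Lib.SmallOrders.CandList
import Cfsg.Agent.Lib.SmallOrders.Centralizer
import Cfsg.Agent.Lib.SmallOrders.Count

set_option autoImplicit false

namespace Cfsg.Agent.SmallOrders

open Subgroup

variable {G : Type*} [Group G] [Finite G]

theorem le_normalizer_map_subtype {M : Subgroup G} (V : Subgroup M) [hV : V.Normal] :
    M ≤ normalizer ((V.map M.subtype : Subgroup G) : Set G) := by
  intro g hg
  refine mem_normalizer_iff.mpr fun x => ⟨?_, ?_⟩
  · rintro ⟨y, hy, rfl⟩
    exact ⟨_, hV.conj_mem y hy ⟨g, hg⟩, rfl⟩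
  · rintro ⟨y, hy, hyx⟩
    refine ⟨_, hV.conj_mem y hy ⟨g⁻¹, inv_mem hg⟩, ?_⟩
    have : (y : G) = g * x * g⁻¹ := hyx
    simp [this, mul_assoc]

theorem exists_le_normalizer_complement {p e t : ℕ} [Fact p.Prime] {M : Subgroup G}
    {P : Sylow p G} (hPM : (P : Subgroup G) ≤ M) (hP : Nat.card (P : Subgroup G) = p ^ e)
    (hab : IsMulCommutative (P : Subgroup G)) (hM : Nat.card M = p ^ e * t)
    (hn : Nat.card (Sylow p M) = t) :
    ∃ W : Subgroup G, Nat.card W = t ∧ W ≤ M ∧ M ≤ normalizer (W : Set G) := by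
  set P' := P.subtype hPM
  have hP' : Nat.card (P' : Subgroup M) = p ^ e := by
    rw [P.coe_subtype hPM, Nat.card_congr (subgroupOfEquivOfLe hPM).toEquiv, hP]
  have hidx : (P' : Subgroup M).index = t := by
    have := (P' : Subgroup M).card_mul_index
    rw [hP', hM] at this
    exact Nat.eq_of_mul_eq_mul_left (pow_pos (Fact.out : p.Prime).pos e) this
  have hab' : IsMulCommutative (P' : Subgroup M) :=
    ⟨⟨fun a b => Subtype.ext (Subtype.ext ((congrArg Subtype.val
      (mul_comm' (⟨((a : M) : G), a.2⟩ : (P : Subgroup G)) ⟨((b : M) : G), b.2⟩)) :))⟩⟩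
  obtain ⟨V, hVn, hV⟩ := exists_normal_complement P' hab' (by rw [hn, hidx])
  exact ⟨V.map M.subtype, by rw [card_map_of_injective M.subtype_injective, hV, hidx],
    map_subtype_le V, le_normalizer_map_subtype V⟩

theorem le_normalizer_of_card {W T : Subgroup G} (hle : W ≤ T) {p e : ℕ} [Fact p.Prime]
    (hW : Nat.card W = p ^ e) (hT : Nat.card T = p ^ (e + 1)) : T ≤ normalizer (W : Set G) := by
  rw [← normal_subgroupOf_iff_le_normalizer hle]
  apply normal_of_index_eq_minFac_card
  have h := (W.subgroupOf T).card_mul_index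
  rw [Nat.card_congr (subgroupOfEquivOfLe hle).toEquiv, hW, hT, pow_succ] at h
  rw [hT, Nat.Prime.pow_minFac (Fact.out : p.Prime) e.succ_ne_zero]
  exact Nat.eq_of_mul_eq_mul_left (pow_pos (Fact.out : p.Prime).pos e) h

theorem le_normalizer_of_card_sylow_one {p : ℕ} [Fact p.Prime] {H : Subgroup G} {P : Sylow p G}
    (hPH : (P : Subgroup G) ≤ H) (h1 : Nat.card (Sylow p H) = 1) :
    H ≤ normalizer ((P : Subgroup G) : Set G) := by
  have : Subsingleton (Sylow p H) := Finite.card_le_one_iff_subsingleton.mp h1.le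
  have := Sylow.normal_of_subsingleton (P.subtype hPH)
  rw [P.coe_subtype hPH] at this
  exact (normal_subgroupOf_iff_le_normalizer hPH).mp this

variable [IsSimpleGroup G]

theorem conj_eq_inv_of_normalizer (hG : ¬ IsMulCommutative G) {p : ℕ} [Fact p.Prime]
    (P : Sylow p G) (hab : IsMulCommutative (P : Subgroup G))
    (hN : Nat.card (normalizer ((P : Subgroup G) : Set G)) = 2 * Nat.card (P : Subgroup G))
    {i : G} (hi : i ∈ normalizer ((P : Subgroup G) : Set G)) (hiP : i ∉ (P : Subgroup G))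
    {a : G} (ha : a ∈ (P : Subgroup G)) : i * a * i⁻¹ = a⁻¹ := by
  set N := normalizer ((P : Subgroup G) : Set G) with hNdef
  have hidx : ((P : Subgroup G).subgroupOf N).index = 2 := by
    have h := ((P : Subgroup G).subgroupOf N).card_mul_index
    rw [Nat.card_congr (subgroupOfEquivOfLe le_normalizer).toEquiv, hN, mul_comm 2] at h
    exact Nat.eq_of_mul_eq_mul_left Nat.card_pos h
  have hc : ∀ u ∈ (P : Subgroup G), ∀ v ∈ (P : Subgroup G), u * v = v * u := fun u hu v hv =>
    congrArg Subtype.val (mul_comm' (⟨u, hu⟩ : (P : Subgroup G)) ⟨v, hv⟩)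
  have hia : i * a * i⁻¹ ∈ (P : Subgroup G) := (mem_normalizer_iff.mp hi a).mp ha
  have hii : i * i ∈ (P : Subgroup G) := by
    have := sq_mem_of_index_two hidx ⟨i, hi⟩
    rwa [mem_subgroupOf, SubgroupClass.coe_pow, pow_two] at this
  have h1 : a * (i * a * i⁻¹) = 1 := by
    refine eq_one_of_abelian_fixed hG P hab (mul_mem ha hia) fun n hn => ?_
    have hfi : i * (a * (i * a * i⁻¹)) * i⁻¹ = a * (i * a * i⁻¹) := by
      calc i * (a * (i * a * i⁻¹)) * i⁻¹ = (i * a * i⁻¹) * ((i * i) * a * (i * i)⁻¹) := by group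
        _ = (i * a * i⁻¹) * a := by rw [hc _ hii _ ha, mul_inv_cancel_right]
        _ = _ := hc _ hia _ ha
    have hfP : ∀ u ∈ (P : Subgroup G), u * (a * (i * a * i⁻¹)) * u⁻¹ = a * (i * a * i⁻¹) :=
      fun u hu => by rw [hc u hu _ (mul_mem ha hia), mul_inv_cancel_right]
    by_cases hnP : n ∈ (P : Subgroup G)
    · exact hfP n hnP
    · have h2 : (⟨n, hn⟩ : N) * ⟨i, hi⟩⁻¹ ∈ (P : Subgroup G).subgroupOf N := by
        rw [mul_mem_iff_of_index_two hidx, inv_mem_iff, mem_subgroupOf, mem_subgroupOf]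
        exact iff_of_false hnP hiP
      rw [mem_subgroupOf] at h2
      change n * i⁻¹ ∈ (P : Subgroup G) at h2
      calc n * (a * (i * a * i⁻¹)) * n⁻¹
          = (n * i⁻¹) * (i * (a * (i * a * i⁻¹)) * i⁻¹) * (n * i⁻¹)⁻¹ := by group
        _ = _ := by rw [hfi, hfP _ h2]
  exact eq_inv_of_mul_eq_one_right h1

theorem centralizer_le_of_inf_eq_bot {p : ℕ} [Fact p.Prime] {P : Sylow p G}
    (hTI : ∀ Q : Sylow p G, Q ≠ P → (P : Subgroup G) ⊓ (Q : Subgroup G) = ⊥) {a : G} (ha : a ≠ 1)
    (haP : a ∈ (P : Subgroup G)) :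
    centralizer ({a} : Set G) ≤ normalizer ((P : Subgroup G) : Set G) := by
  intro g hg
  refine Sylow.smul_eq_iff_mem_normalizer.mp ?_
  by_contra hne
  have h1 : a ∈ (P : Subgroup G) ⊓ ((g • P : Sylow p G) : Subgroup G) := by
    refine ⟨haP, show a ∈ ((g • P : Sylow p G) : Subgroup G) from ?_⟩
    rw [Sylow.coe_subgroup_smul, Subgroup.mem_pointwise_smul_iff_inv_smul_mem, ← map_inv,
      MulAut.smul_def, MulAut.conj_apply, inv_inv]
    rw [mem_centralizer_singleton_iff] at hg
    rwa [mul_assoc, ← hg, inv_mul_cancel_left]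
  rw [hTI _ hne, mem_bot] at h1
  exact ha h1

end Cfsg.Agent.SmallOrders
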