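-- Simple groups of order 168: Sylow numbers, element orders, classes, the Sylow 2-subgroup.
--
-- namespace `Cfsg.Agent.SmallOrders.S168`, hypothesis `h : Nat.card G = 168`:
-- * `card_sylow_two/three/seven`, `centralizer_seven/three`, `normalizer_two`
-- * `orderOf_cases`, `card_orderOf_two/three/four/seven`
-- * `centralizer_center_two`: a central non-identity element of a Sylow 2-subgroup `T` has `C = T`
-- * `exists_four` (generator and inverting involution), `isConj_two/three/four`
import Cfsg.Agent.Lib.SmallOrders.Centralizer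
import Cfsg.Agent.Lib.SmallOrders.Count

set_option autoImplicit false

namespace Cfsg.Agent.SmallOrders.S168

open Subgroup

variable {G : Type*} [Group G] [Finite G] [IsSimpleGroup G]

theorem nc (h : Nat.card G = 168) : ¬ IsMulCommutative G :=
  not_isMulCommutative_of_card (by rw [h]; norm_num)

theorem seven_le_index (h : Nat.card G = 168) {H : Subgroup G} (hH : H ≠ ⊤) : 7 ≤ H.index := by
  by_contra hlt
  have hd := (two_mul_card_dvd_factorial_index (nc h) hH).trans
    (Nat.factorial_dvd_factorial (show H.index ≤ 6 by omega))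
  rw [h] at hd
  norm_num [Nat.factorial] at hd

theorem card_le (h : Nat.card G = 168) {H : Subgroup G} (hH : H ≠ ⊤) : Nat.card H ≤ 24 := by
  have h1 := H.card_mul_index
  have h2 := seven_le_index h hH
  rw [h] at h1
  nlinarith

theorem fac7 (h : Nat.card G = 168) : Nat.card G = 7 ^ 1 * 24 := by rw [h]; rfl
theorem fac3 (h : Nat.card G = 168) : Nat.card G = 3 ^ 1 * 56 := by rw [h]; rfl
theorem fac2 (h : Nat.card G = 168) : Nat.card G = 2 ^ 3 * 21 := by rw [h]; rfl

variable [Fact (Nat.Prime 7)] [Fact (Nat.Prime 3)] [Fact (Nat.Prime 2)]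

theorem card_P (h : Nat.card G = 168) (P : Sylow 7 G) : Nat.card (P : Subgroup G) = 7 := by
  rw [card_sylow_subgroup (fac7 h) (by norm_num) P, pow_one]

theorem card_Q (h : Nat.card G = 168) (Q : Sylow 3 G) : Nat.card (Q : Subgroup G) = 3 := by
  rw [card_sylow_subgroup (fac3 h) (by norm_num) Q, pow_one]

theorem card_T (h : Nat.card G = 168) (T : Sylow 2 G) : Nat.card (T : Subgroup G) = 8 := by
  rw [card_sylow_subgroup (fac2 h) (by norm_num) T]; rfl

theorem card_sylow_seven (h : Nat.card G = 168) : Nat.card (Sylow 7 G) = 8 := by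
  obtain ⟨P⟩ := (inferInstance : Nonempty (Sylow 7 G))
  have h1 := one_lt_card_sylow (nc h) (p := 7) (by rw [h]; norm_num)
  have h2 : Nat.card (Sylow 7 G) ∣ 24 := index_sylow (fac7 h) (by norm_num) P ▸ P.card_dvd_index
  have h3 : Nat.card (Sylow 7 G) ≡ 1 [MOD 7] := card_sylow_modEq_one 7 G
  unfold Nat.ModEq at h3
  have h4 := Nat.le_of_dvd (by norm_num) h2
  interval_cases hc : Nat.card (Sylow 7 G) <;> omega

theorem card_normalizer_seven (h : Nat.card G = 168) (P : Sylow 7 G) :
    Nat.card (normalizer ((P : Subgroup G) : Set G)) = 21 := by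
  have h1 := card_normalizer_mul_card_sylow P
  rw [card_sylow_seven h, h] at h1
  omega

theorem centralizer_seven (h : Nat.card G = 168) {x : G} (hx : orderOf x = 7) :
    Nat.card (centralizer ({x} : Set G)) = 7 := by
  obtain ⟨P, hP⟩ := exists_sylow_eq_zpowers (card_P h) hx
  obtain ⟨j, hj1, hj2, hj3, hj4, -⟩ := exists_card_centralizer_mul (nc h) hx P hP
  rw [card_normalizer_seven h P] at hj3
  obtain ⟨c, hc⟩ := hj4
  rw [hc, mul_assoc] at hj3
  have h4 : c * j = 3 := by omega
  rcases (Nat.dvd_prime Nat.prime_three).mp (Dvd.intro c (by rw [mul_comm]; exact h4)) with h' | h'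
  · omega
  · subst h'; omega

theorem card_sylow_three (h : Nat.card G = 168) : Nat.card (Sylow 3 G) = 28 := by
  have hne7 : Nat.card (Sylow 3 G) ≠ 7 := by
    intro h7
    obtain ⟨P₀⟩ := (inferInstance : Nonempty (Sylow 7 G))
    have key : ∀ (P : Sylow 7 G) (Q : Sylow 3 G),
        (Q : Subgroup G) ≤ normalizer ((P : Subgroup G) : Set G) := by
      intro P Q
      set N := normalizer ((P : Subgroup G) : Set G) with hN
      have hN21 : Nat.card N = 3 ^ 1 * 7 := card_normalizer_seven h P
      have hc : ∀ S : Sylow 3 N, Nat.card ((S : Subgroup N).map N.subtype) = 3 := fun S => by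
        rw [card_map_of_injective N.subtype_injective, card_sylow_subgroup hN21 (by norm_num) S,
          pow_one]
      have hex : ∀ S : Sylow 3 N, ∃ R : Sylow 3 G, (R : Subgroup G) = (S : Subgroup N).map N.subtype := by
        intro S
        obtain ⟨R, hR⟩ := (S.isPGroup'.map N.subtype).exists_le_sylow
        exact ⟨R, (eq_of_le_of_card_ge hR (by rw [card_Q h, hc])).symm⟩
      choose f hf using hex
      have hinj : Function.Injective f := fun S S' he => Sylow.ext
        (map_injective N.subtype_injective ((hf S).symm.trans ((congrArg _ he).trans (hf S'))))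
      obtain ⟨S₀⟩ := (inferInstance : Nonempty (Sylow 3 N))
      have hcard : Nat.card (Sylow 3 N) = 7 := by
        rcases (Nat.dvd_prime (by norm_num)).mp
          (index_sylow hN21 (by norm_num) S₀ ▸ S₀.card_dvd_index) with h1 | h1
        · exfalso
          have : Subsingleton (Sylow 3 N) := (Nat.card_eq_one_iff_unique.mp h1).1
          have hn : (S₀ : Subgroup N).Normal := S₀.normal_of_subsingleton
          -- then a Sylow 3-subgroup and `P` centralise each other
          have hPn : ((P : Subgroup G).subgroupOf N).Normal := normal_in_normalizer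
          have hd : Disjoint (S₀ : Subgroup N) ((P : Subgroup G).subgroupOf N) := by
            apply disjoint_of_coprime_natCard
            rw [card_sylow_subgroup hN21 (by norm_num) S₀,
              Nat.card_congr (subgroupOfEquivOfLe le_normalizer).toEquiv, card_P h]
            rfl
          obtain ⟨a, ha⟩ := exists_prime_orderOf_dvd_card' (G := (S₀ : Subgroup N)) 3
            (by rw [card_sylow_subgroup hN21 (by norm_num) S₀, pow_one])
          obtain ⟨b, hb⟩ := exists_prime_orderOf_dvd_card' (G := (P : Subgroup G)) 7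
            (by rw [card_P h])
          have hab : Commute (a : N) (⟨b, le_normalizer b.2⟩ : N) :=
            commute_of_normal_of_disjoint _ _ hn hPn hd _ _ a.2 (show (b : G) ∈ _ from b.2)
          have hd7 := orderOf_dvd_of_centralizer (centralizer_seven h (x := (b : G))
            (by rw [Subgroup.orderOf_coe, hb])) (congrArg Subtype.val hab.eq)
          rw [Subgroup.orderOf_coe, Subgroup.orderOf_coe, ha] at hd7
          norm_num at hd7
        · exact h1
      obtain ⟨S, rfl⟩ := ((Nat.bijective_iff_injective_and_card f).mpr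
        ⟨hinj, hcard.trans h7.symm⟩).2 Q
      rw [hf]
      exact map_subtype_le _
    obtain ⟨Q⟩ := (inferInstance : Nonempty (Sylow 3 G))
    set N := normalizer ((P₀ : Subgroup G) : Set G)
    have hle : (Q : Subgroup G) ≤ N.normalCore := by
      intro x hx b
      have hx' : x • (b⁻¹ • P₀) = b⁻¹ • P₀ :=
        Sylow.smul_eq_iff_mem_normalizer.mpr (key _ Q hx)
      show b * x * b⁻¹ ∈ N
      apply Sylow.smul_eq_iff_mem_normalizer.mp
      rw [mul_assoc, mul_smul, mul_smul, hx', smul_inv_smul]
    have hNtop : N ≠ ⊤ := normalizer_sylow_ne_top (nc h) (by rw [h]; norm_num) P₀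
    rw [normalCore_eq_bot hNtop, le_bot_iff] at hle
    have := card_Q h Q
    rw [hle, card_bot] at this
    omega
  obtain ⟨Q⟩ := (inferInstance : Nonempty (Sylow 3 G))
  have h1 := one_lt_card_sylow (nc h) (p := 3) (by rw [h]; norm_num)
  have h2 : Nat.card (Sylow 3 G) ∣ 56 := index_sylow (fac3 h) (by norm_num) Q ▸ Q.card_dvd_index
  have h3 : Nat.card (Sylow 3 G) ≡ 1 [MOD 3] := card_sylow_modEq_one 3 G
  have h5 := two_mul_card_dvd_factorial_sylow (nc h) (p := 3) (by rw [h]; norm_num)
  rw [h] at h5
  unfold Nat.ModEq at h3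
  have h4 := Nat.le_of_dvd (by norm_num) h2
  interval_cases hc : Nat.card (Sylow 3 G) <;> first | omega | norm_num [Nat.factorial] at h5

theorem card_normalizer_three (h : Nat.card G = 168) (Q : Sylow 3 G) :
    Nat.card (normalizer ((Q : Subgroup G) : Set G)) = 6 := by
  have h1 := card_normalizer_mul_card_sylow Q
  rw [card_sylow_three h, h] at h1
  omega

theorem centralizer_three (h : Nat.card G = 168) {x : G} (hx : orderOf x = 3) :
    Nat.card (centralizer ({x} : Set G)) = 3 := by
  obtain ⟨Q, hQ⟩ := exists_sylow_eq_zpowers (card_Q h) hx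
  obtain ⟨j, hj1, hj2, hj3, -, -⟩ := exists_card_centralizer_mul (nc h) hx Q hQ
  rw [card_normalizer_three h Q] at hj3
  obtain rfl : j = 2 := le_antisymm (Nat.le_of_dvd (by norm_num) hj2) hj1
  omega

theorem orderOf_dvd_eight (h : Nat.card G = 168) (g : G) :
    orderOf g = 7 ∨ orderOf g = 3 ∨ orderOf g ∣ 8 := by
  have hpos : 0 < orderOf g := orderOf_pos g
  by_cases h7 : 7 ∣ orderOf g
  · left
    have hx := orderOf_pow_orderOf_div hpos.ne' h7
    have := orderOf_dvd_of_centralizer (centralizer_seven h hx)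
      ((Commute.refl g).pow_right _).eq
    exact Nat.dvd_antisymm this h7
  by_cases h3 : 3 ∣ orderOf g
  · right; left
    have hx := orderOf_pow_orderOf_div hpos.ne' h3
    have := orderOf_dvd_of_centralizer (centralizer_three h hx)
      ((Commute.refl g).pow_right _).eq
    exact Nat.dvd_antisymm this h3
  right; right
  have hd : orderOf g ∣ 8 * (3 * 7) := (orderOf_dvd_natCard g).trans (dvd_of_eq (by rw [h]))
  have c : Nat.Coprime (orderOf g) (3 * 7) := Nat.Coprime.mul_right
    ((Nat.prime_three.coprime_iff_not_dvd.mpr h3).symm)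
    (((by norm_num : Nat.Prime 7).coprime_iff_not_dvd.mpr h7).symm)
  exact c.dvd_of_dvd_mul_right hd

theorem not_isMulCommutative_two (h : Nat.card G = 168) (T : Sylow 2 G)
    (hT : normalizer ((T : Subgroup G) : Set G) = T) : ¬ IsMulCommutative (T : Subgroup G) :=
  fun hc => normalizer_not_le_centralizer (nc h) (by rw [h]; norm_num) T (by
    rw [hT]
    exact fun a ha b hb => congrArg Subtype.val
      (mul_comm' (⟨b, hb⟩ : (T : Subgroup G)) ⟨a, ha⟩))

theorem card_sylow_two (h : Nat.card G = 168) : Nat.card (Sylow 2 G) = 21 := by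
  obtain ⟨T⟩ := (inferInstance : Nonempty (Sylow 2 G))
  have h1 := one_lt_card_sylow (nc h) (p := 2) (by rw [h]; norm_num)
  have h2 : Nat.card (Sylow 2 G) ∣ 21 := index_sylow (fac2 h) (by norm_num) T ▸ T.card_dvd_index
  have h5 := seven_le_index h (normalizer_sylow_ne_top (nc h) (by rw [h]; norm_num) T)
  have hidx : Nat.card (Sylow 2 G) = (normalizer ((T : Subgroup G) : Set G)).index :=
    T.card_eq_index_normalizer
  rw [← hidx] at h5
  have hne7 : Nat.card (Sylow 2 G) ≠ 7 := by
    intro h7
    set N := normalizer ((T : Subgroup G) : Set G)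
    have hN : Nat.card N = 24 := by
      have := N.card_mul_index
      rw [← hidx, h7, h] at this
      omega
    obtain ⟨q, hq⟩ := exists_prime_orderOf_dvd_card' (G := N) 3 (by rw [hN]; norm_num)
    let θ : N →* MulAut (T : Subgroup G) := (T : Subgroup G).normalizerMonoidHom
    let _ : MulAction (zpowers q) (T : Subgroup G) :=
      MulAction.compHom _ (θ.comp (zpowers q).subtype)
    have hmod := (IsPGroup.of_card (n := 1)
      (by rw [Nat.card_zpowers, hq, pow_one] : Nat.card (zpowers q) = 3 ^ 1)).card_modEq_card_fixedPoints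
        (T : Subgroup G)
    have hfix : ∀ t ∈ MulAction.fixedPoints (zpowers q) (T : Subgroup G), t = 1 := by
      intro t ht
      have h1 : (q : G) * t * (q : G)⁻¹ = t := congrArg Subtype.val (ht ⟨q, mem_zpowers q⟩)
      have hd := orderOf_dvd_of_centralizer (centralizer_three h
        (x := (q : G)) (by rw [Subgroup.orderOf_coe, hq]))
        (mul_inv_eq_iff_eq_mul.mp h1).symm
      rw [Subgroup.orderOf_coe] at hd
      have hd8 : orderOf t ∣ 8 := card_T h T ▸ orderOf_dvd_natCard t
      exact orderOf_eq_one_iff.mp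
        (Nat.eq_one_of_dvd_coprimes (show Nat.Coprime 3 8 by norm_num) hd hd8)
    have hsub : Subsingleton (MulAction.fixedPoints (zpowers q) (T : Subgroup G)) :=
      ⟨fun a b => Subtype.ext ((hfix a a.2).trans (hfix b b.2).symm)⟩
    have hle : Nat.card (MulAction.fixedPoints (zpowers q) (T : Subgroup G)) ≤ 1 :=
      Finite.card_le_one_iff_subsingleton.mpr hsub
    rw [card_T h T] at hmod
    unfold Nat.ModEq at hmod
    omega
  have h4 := Nat.le_of_dvd (by norm_num) h2
  interval_cases hc : Nat.card (Sylow 2 G) <;> omega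

theorem normalizer_two (h : Nat.card G = 168) (T : Sylow 2 G) :
    normalizer ((T : Subgroup G) : Set G) = T := by
  have h1 := card_normalizer_mul_card_sylow T
  rw [card_sylow_two h, h] at h1
  exact (eq_of_le_of_card_ge le_normalizer (by rw [card_T h]; omega)).symm

theorem orderOf_cases (h : Nat.card G = 168) (g : G) :
    orderOf g = 1 ∨ orderOf g = 2 ∨ orderOf g = 3 ∨ orderOf g = 4 ∨ orderOf g = 7 := by
  rcases orderOf_dvd_eight h g with h' | h' | h'
  · omega
  · omega
  have h8 : orderOf g ≠ 8 := fun h8 => by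
    have hc : Nat.card (zpowers g) = 8 := by rw [Nat.card_zpowers, h8]
    obtain ⟨T, hT⟩ := (IsPGroup.of_card (n := 3) (hc.trans (by norm_num) :
      Nat.card (zpowers g) = 2 ^ 3)).exists_le_sylow
    refine not_isMulCommutative_two h T (normalizer_two h T) ?_
    rw [← eq_of_le_of_card_ge hT (by rw [card_T h, hc])]
    infer_instance
  have h4 := Nat.le_of_dvd (by norm_num) h'
  interval_cases hc : orderOf g <;> omega

theorem centralizer_center_two (h : Nat.card G = 168) (T : Sylow 2 G) {z : G}
    (hz : z ∈ (T : Subgroup G)) (hz1 : z ≠ 1) (hc : ∀ t ∈ (T : Subgroup G), t * z = z * t) :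
    centralizer ({z} : Set G) = T := by
  set C := centralizer ({z} : Set G) with hC
  have hTC : (T : Subgroup G) ≤ C := fun t ht => mem_centralizer_singleton_iff.mpr (hc t ht)
  have hd : Nat.card C ∣ 2 ^ 3 * 21 := fac2 h ▸ card_subgroup_dvd_card C
  have hz2 : orderOf z = 2 ∨ orderOf z = 4 := by
    have h8 : orderOf z ∣ 8 := card_T h T ▸ orderOf_dvd_natCard _ hz
    have hne : orderOf z ≠ 1 := fun h => hz1 (orderOf_eq_one_iff.mp h)
    rcases orderOf_cases h z with h' | h' | h' | h' | h' <;> rw [h'] at h8 hne ⊢ <;> norm_num at *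
  have hno : ∀ p, p = 3 ∨ p = 7 → ¬ p ∣ Nat.card C := by
    intro p hp hdvd
    have : Fact p.Prime := ⟨by rcases hp with rfl | rfl <;> norm_num⟩
    obtain ⟨x, hx⟩ := exists_prime_orderOf_dvd_card' p hdvd
    have hx' : orderOf (x : G) = p := by rw [Subgroup.orderOf_coe, hx]
    have hcard : Nat.card (centralizer ({(x : G)} : Set G)) = p := by
      rcases hp with rfl | rfl
      · exact centralizer_three h hx'
      · exact centralizer_seven h hx'
    have := orderOf_dvd_of_centralizer hcard (mem_centralizer_singleton_iff.mp x.2).symm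
    rcases hp with rfl | rfl <;> rcases hz2 with h' | h' <;> rw [h'] at this <;> norm_num at this
  refine (eq_of_le_of_card_ge hTC ?_).symm
  rw [card_T h T]
  refine Nat.le_of_dvd (by norm_num) (Nat.Coprime.dvd_of_dvd_mul_right ?_ hd)
  rw [show 21 = 3 * 7 by norm_num]
  exact Nat.Coprime.mul_right
    ((Nat.prime_three.coprime_iff_not_dvd.mpr (hno 3 (Or.inl rfl))).symm)
    (((by norm_num : Nat.Prime 7).coprime_iff_not_dvd.mpr (hno 7 (Or.inr rfl))).symm)

theorem card_orderOf_seven (h : Nat.card G = 168) : Nat.card {g : G // orderOf g = 7} = 48 := by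
  rw [card_orderOf_eq_prime (card_P h), card_sylow_seven h]

theorem card_orderOf_three (h : Nat.card G = 168) : Nat.card {g : G // orderOf g = 3} = 56 := by
  rw [card_orderOf_eq_prime (card_Q h), card_sylow_three h]

theorem exists_central_involution (h : Nat.card G = 168) (T : Sylow 2 G) :
    ∃ z ∈ (T : Subgroup G), orderOf z = 2 ∧ ∀ t ∈ (T : Subgroup G), t * z = z * t := by
  have : Nontrivial (T : Subgroup G) :=
    Finite.one_lt_card_iff_nontrivial.mp (by rw [card_T h]; norm_num)
  have : Nontrivial (center (T : Subgroup G)) := T.isPGroup'.center_nontrivial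
  have h2 : 2 ∣ Nat.card (center (T : Subgroup G)) := by
    rcases (T.isPGroup'.to_subgroup (center (T : Subgroup G))).card_eq_or_dvd with h1 | h1
    · exact absurd h1 (Finite.one_lt_card).ne'
    · exact h1
  obtain ⟨z, hz⟩ := exists_prime_orderOf_dvd_card' 2 h2
  refine ⟨((z : (T : Subgroup G)) : G), (z : (T : Subgroup G)).2,
    by rw [Subgroup.orderOf_coe, Subgroup.orderOf_coe, hz], fun t ht => ?_⟩
  exact congrArg Subtype.val (mem_center_iff.mp z.2 ⟨t, ht⟩)

theorem exists_four (h : Nat.card G = 168) (T : Sylow 2 G) :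
    ∃ y ∈ (T : Subgroup G), orderOf y = 4 := by
  by_contra! hno
  apply not_isMulCommutative_two h T (normalizer_two h T)
  have hsq : ∀ t : (T : Subgroup G), t * t = 1 := by
    intro t
    have h8 : orderOf (t : G) ∣ 8 := card_T h T ▸ orderOf_dvd_natCard _ t.2
    have h2 : orderOf (t : G) ∣ 2 := by
      rcases orderOf_cases h (t : G) with h' | h' | h' | h' | h'
      · rw [h']; norm_num
      · rw [h']
      · exact absurd (h' ▸ h8) (by norm_num)
      · exact absurd h' (hno _ t.2)
      · exact absurd (h' ▸ h8) (by norm_num)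
    have := orderOf_dvd_iff_pow_eq_one.mp h2
    exact Subtype.ext (by rw [pow_two] at this; simpa using this)
  refine ⟨⟨fun a b => ?_⟩⟩
  have e : ∀ t : (T : Subgroup G), t⁻¹ = t := fun t => inv_eq_of_mul_eq_one_right (hsq t)
  calc a * b = (a * b)⁻¹ := (e _).symm
    _ = b * a := by rw [mul_inv_rev, e, e]

theorem sq_mem_center (h : Nat.card G = 168) (T : Sylow 2 G) {y : G}
    (hy : y ∈ (T : Subgroup G)) (hy4 : orderOf y = 4) :
    ∀ t ∈ (T : Subgroup G), t * y ^ 2 = y ^ 2 * t := by
  intro t ht
  set Y := zpowers (⟨y, hy⟩ : (T : Subgroup G))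
  have hyT : orderOf (⟨y, hy⟩ : (T : Subgroup G)) = 4 := by rw [← Subgroup.orderOf_coe]; exact hy4
  have hidx : Y.index = 2 := by
    have := Y.card_mul_index
    rw [Nat.card_zpowers, hyT, card_T h T] at this
    omega
  have hn : Y.Normal := normal_of_index_eq_two hidx
  have hmem := hn.conj_mem _ (mem_zpowers _) (⟨t, ht⟩ : (T : Subgroup G))
  obtain ⟨n, hn'⟩ := mem_powers_iff_mem_zpowers.mpr hmem
  obtain ⟨k, hk, hk'⟩ : ∃ k, k < 4 ∧ (⟨y, hy⟩ : (T : Subgroup G)) ^ k =
      ⟨t, ht⟩ * ⟨y, hy⟩ * (⟨t, ht⟩ : (T : Subgroup G))⁻¹ := by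
    refine ⟨n % 4, Nat.mod_lt _ (by norm_num), ?_⟩
    rw [← hn', ← hyT, pow_mod_orderOf]
  have hk2 : y ^ k = t * y * t⁻¹ := by simpa using congrArg Subtype.val hk'
  have hord : orderOf (y ^ k) = 4 := by
    rw [hk2]
    exact (orderOf_injective (MulAut.conj t).toMonoidHom (MulAut.conj t).injective y).trans hy4
  have hk13 : k = 1 ∨ k = 3 := by
    interval_cases k
    · simp at hord
    · omega
    · rw [orderOf_pow' _ two_ne_zero, hy4] at hord; norm_num at hord
    · omega
  have hsq : t * y ^ 2 * t⁻¹ = y ^ 2 := by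
    rw [← conj_pow, ← hk2, ← pow_mul]
    have hy' : y ^ 4 = 1 := hy4 ▸ pow_orderOf_eq_one y
    rcases hk13 with rfl | rfl
    · rfl
    · rw [show 3 * 2 = 4 + 2 by norm_num, pow_add, hy', one_mul]
  exact mul_inv_eq_iff_eq_mul.mp hsq

theorem centralizer_sq (h : Nat.card G = 168) (T : Sylow 2 G) {y : G}
    (hy : y ∈ (T : Subgroup G)) (hy4 : orderOf y = 4) :
    centralizer ({y ^ 2} : Set G) = T := by
  refine centralizer_center_two h T (pow_mem hy 2) (fun h1 => ?_) (sq_mem_center h T hy hy4)
  have := orderOf_dvd_of_pow_eq_one h1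
  rw [hy4] at this
  norm_num at this

theorem eq_of_mem_four (h : Nat.card G = 168) {S T : Sylow 2 G} {y : G} (hy4 : orderOf y = 4)
    (hS : y ∈ (S : Subgroup G)) (hT : y ∈ (T : Subgroup G)) : S = T :=
  Sylow.ext ((centralizer_sq h S hS hy4).symm.trans (centralizer_sq h T hT hy4))

/-- The facts from counting: `21` involutions, `42` elements of order `4`, two in each `T`. -/
theorem counting (h : Nat.card G = 168) :
    Nat.card {g : G // orderOf g = 2} = 21 ∧ Nat.card {g : G // orderOf g = 4} = 42 ∧
      (∀ T : Sylow 2 G, ∀ y ∈ (T : Subgroup G), orderOf y = 4 →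
        ∀ y' ∈ (T : Subgroup G), orderOf y' = 4 → y' = y ∨ y' = y⁻¹) ∧
      ∀ g : G, orderOf g = 2 → ∃ T : Sylow 2 G, g ∈ (T : Subgroup G) ∧
        ∀ t ∈ (T : Subgroup G), t * g = g * t := by
  classical
  have := Fintype.ofFinite G
  have := Fintype.ofFinite (Sylow 2 G)
  choose z hzT hz2 hzc using exists_central_involution h
  let f : Sylow 2 G → {g : G // orderOf g = 2} := fun T => ⟨z T, hz2 T⟩
  have hne : ∀ T, z T ≠ 1 := fun T h1 => by
    have := hz2 T
    rw [h1, orderOf_one] at this
    norm_num at this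
  have hf : Function.Injective f := fun S T he => by
    have he' : z S = z T := congrArg Subtype.val he
    apply Sylow.ext
    rw [← centralizer_center_two h S (hzT S) (hne S) (hzc S), he',
      centralizer_center_two h T (hzT T) (hne T) (hzc T)]
  have hI : 21 ≤ Nat.card {g : G // orderOf g = 2} :=
    card_sylow_two h ▸ Nat.card_le_card_of_injective f hf
  let A : Sylow 2 G → Type _ := fun T => {g : G // g ∈ (T : Subgroup G) ∧ orderOf g = 4}
  let F : (Σ T, A T) → {g : G // orderOf g = 4} := fun s => ⟨s.2.1, s.2.2.2⟩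
  have hF : Function.Bijective F := by
    constructor
    · rintro ⟨S, a, haS, ha4⟩ ⟨T, b, hbT, hb4⟩ he
      have hab : a = b := congrArg Subtype.val he
      subst hab
      obtain rfl := eq_of_mem_four h ha4 haS hbT
      rfl
    · rintro ⟨g, hg⟩
      obtain ⟨T, hT⟩ := (IsPGroup.of_card (n := 2) (by rw [Nat.card_zpowers, hg]; rfl :
        Nat.card (zpowers g) = 2 ^ 2)).exists_le_sylow
      exact ⟨⟨T, g, hT (mem_zpowers g), hg⟩, rfl⟩
  obtain ⟨T₀⟩ := (inferInstance : Nonempty (Sylow 2 G))
  have hA : ∀ T, Nat.card (A T) = Nat.card (A T₀) := by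
    intro T
    obtain ⟨g, hg⟩ := MulAction.exists_smul_eq G T₀ T
    refine (Nat.card_congr (Equiv.subtypeEquiv (MulAut.conj g).toEquiv fun a => ?_)).symm
    have hord : orderOf (MulAut.conj g a) = orderOf a :=
      orderOf_injective (MulAut.conj g).toMonoidHom (MulAut.conj g).injective a
    show (a ∈ (T₀ : Subgroup G) ∧ orderOf a = 4) ↔ MulAut.conj g a ∈ (T : Subgroup G) ∧ orderOf (MulAut.conj g a) = 4
    rw [hord, ← hg, Sylow.coe_subgroup_smul,
      mem_pointwise_smul_iff_inv_smul_mem]
    simp [MulAut.smul_def, mul_assoc]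
  have hJ : Nat.card {g : G // orderOf g = 4} = 21 * Nat.card (A T₀) := by
    rw [← Nat.card_congr (Equiv.ofBijective F hF), Nat.card_sigma, Finset.sum_congr rfl
      (fun T _ => hA T), Finset.sum_const, Finset.card_univ, smul_eq_mul, ← Nat.card_eq_fintype_card,
      card_sylow_two h]
  have ha2 : 2 ≤ Nat.card (A T₀) := by
    obtain ⟨y, hy, hy4⟩ := exists_four h T₀
    have : Nontrivial (A T₀) := ⟨⟨⟨y, hy, hy4⟩, ⟨y⁻¹, inv_mem hy, by rw [orderOf_inv, hy4]⟩,
      fun he => by
        have he' : y = y⁻¹ := congrArg Subtype.val he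
        have h2 : y ^ 2 = 1 := by rw [pow_two]; nth_rewrite 2 [he']; exact mul_inv_cancel y
        have := orderOf_dvd_of_pow_eq_one h2
        rw [hy4] at this
        norm_num at this⟩⟩
    exact Finite.one_lt_card
  -- the orders partition the group
  have hsum : 1 + Nat.card {g : G // orderOf g = 2} + 56 + Nat.card {g : G // orderOf g = 4} + 48
      = 168 := by
    have h1 : Nat.card {g : G // orderOf g = 1} = 1 := by
      simp only [orderOf_eq_one_iff]
      exact Nat.card_unique
    have key : (Finset.univ : Finset G).card =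
        ∑ k ∈ ({1, 2, 3, 4, 7} : Finset ℕ), (Finset.univ.filter fun g : G => orderOf g = k).card := by
      refine Finset.card_eq_sum_card_fiberwise (f := fun g : G => orderOf g) fun g _ => ?_
      have := orderOf_cases h g
      simpa using this
    simp only [Finset.card_univ, ← Fintype.card_subtype, ← Nat.card_eq_fintype_card] at key
    rw [h, Finset.sum_insert (by decide), Finset.sum_insert (by decide), Finset.sum_insert (by decide),
      Finset.sum_insert (by decide), Finset.sum_singleton, h1, card_orderOf_three h,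
      card_orderOf_seven h] at key
    omega
  have ha : Nat.card (A T₀) = 2 := by omega
  refine ⟨by omega, by omega, fun T y hy hy4 y' hy' hy4' => ?_, fun g hg => ?_⟩
  · have hc : Nat.card (A T) = 2 := (hA T).trans ha
    obtain ⟨u, v, huv, huniv⟩ := Nat.card_eq_two_iff.mp hc
    have hall : ∀ w : A T, w = u ∨ w = v := fun w => by
      have : w ∈ ({u, v} : Set (A T)) := huniv ▸ Set.mem_univ w
      simpa using this
    have e1 := hall ⟨y, hy, hy4⟩
    have e2 := hall ⟨y⁻¹, inv_mem hy, by rw [orderOf_inv, hy4]⟩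
    have e3 := hall ⟨y', hy', hy4'⟩
    have hne' : y ≠ y⁻¹ := fun he' => by
      have h2 : y ^ 2 = 1 := by rw [pow_two]; nth_rewrite 2 [he']; exact mul_inv_cancel y
      have := orderOf_dvd_of_pow_eq_one h2
      rw [hy4] at this
      norm_num at this
    rcases e1 with e1 | e1 <;> rcases e2 with e2 | e2 <;> rcases e3 with e3 | e3 <;>
      first
        | exact Or.inl (congrArg Subtype.val (e3.trans e1.symm))
        | exact Or.inr (congrArg Subtype.val (e3.trans e2.symm))
        | exact absurd (congrArg Subtype.val (e1.trans e2.symm)) hne'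
  · have hbij : Function.Bijective f :=
      (Nat.bijective_iff_injective_and_card f).mpr ⟨hf, by rw [card_sylow_two h]; omega⟩
    obtain ⟨T, hT⟩ := hbij.2 ⟨g, hg⟩
    obtain rfl : z T = g := congrArg Subtype.val hT
    exact ⟨T, hzT T, hzc T⟩

end Cfsg.Agent.SmallOrders.S168
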