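-- Finite computation behind the uniqueness of simple groups of order `p (p^2-1)/2`.
--
-- Points `0, …, p`, with `p` at infinity; `checkBool p r a η std skip` says that every admissible
-- involution table becomes `std` after a multiplication with a power of `a` (`skip`: omit `k = 1`).
import Cfsg.Agent.EqLemmas

set_option autoImplicit false

namespace Cfsg.Agent.SmallOrders.PSLPrime

def mulA (p a j x : ℕ) : ℕ := if x = p then p else a ^ j % p * x % p

def addI (p i x : ℕ) : ℕ := if x = p then p else (x + i) % p

/-- the value at `x` of an involution with `0 ↦ ∞`, `1 ↦ c`, `η ↦ d`, twisting `a` to `a ^ k` -/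
def tAt (p r a η k c d x : ℕ) : ℕ :=
  if x = 0 then p else if x = p then 0 else
    match (List.range r).find? (fun i => decide (mulA p a i 1 = x)) with
    | some i => mulA p a (k * i % r) c
    | none =>
      match (List.range r).find? (fun i => decide (mulA p a i η = x)) with
      | some i => mulA p a (k * i % r) d
      | none => 0

def tab (p r a η k c d : ℕ) : List ℕ := (List.range (p + 1)).map (tAt p r a η k c d)

def involBool (p : ℕ) (T : List ℕ) : Bool :=
  (List.range (p + 1)).all fun x => decide (T.getD (T.getD x 0) 0 = x)

def goodBool (p r a : ℕ) (T : List ℕ) : Bool :=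
  (List.range p).all fun i => decide (i = 0) || (List.range r).any fun u =>
    (List.range (p + 1)).all fun x => decide
      (T.getD (addI p i (T.getD x 0)) 0 =
        addI p (T.getD i 0)
          (mulA p a u (T.getD (addI p ((p - T.getD (p - i) 0) % p) x) 0)))

def conjBool (p r a : ℕ) (std T : List ℕ) : Bool :=
  (List.range r).any fun j => (List.range (p + 1)).all fun x =>
    decide (mulA p a j (T.getD x 0) = std.getD x 0)

def checkBool (p r a η : ℕ) (std : List ℕ) (skip : Bool) : Bool :=
  ((List.range r).all fun i => decide (i = 0 ∨ a ^ i % p ≠ 1)) && decide (a ^ r % p = 1) &&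
  ((List.range p).all fun x => decide (x = 0) || (List.range r).any fun i =>
    decide (mulA p a i 1 = x) || decide (mulA p a i η = x)) &&
  decide (0 < η) && decide (η < p) &&
  (List.range r).all fun k => (skip && decide (k = 1)) || (List.range p).all fun c => decide (c = 0) ||
    (List.range p).all fun d => decide (d = 0) ||
      !(involBool p (tab p r a η k c d) && goodBool p r a (tab p r a η k c d)) ||
      conjBool p r a std (tab p r a η k c d)

end Cfsg.Agent.SmallOrders.PSLPrime
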