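-- Uniqueness of the simple group of order `p (p^2-1)/2` with `p + 1` Sylow `p`-subgroups.
--
-- * `mulEquiv_of_check`: two such groups are isomorphic, given `checkBool` for `p`
import Cfsg.Agent.Lib.SmallOrders.PSLPrimeCheck
import Cfsg.Agent.Lib.SmallOrders.Centralizer

set_option autoImplicit false

namespace Cfsg.Agent.SmallOrders.PSLPrime

open Subgroup

/-- The permutation group generated by a translation, a multiplication and the table `std`. -/
def stdGroup (p a : ℕ) (std : List ℕ) : Subgroup (Equiv.Perm (Fin (p + 1))) :=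
  closure {f | (∀ x, (f x : ℕ) = addI p 1 x) ∨ (∀ x, (f x : ℕ) = mulA p a 1 x) ∨
    ∀ x, (f x : ℕ) = std.getD x 0}

theorem involBool_iff {p : ℕ} {T : List ℕ} :
    involBool p T = true ↔ ∀ x ≤ p, T.getD (T.getD x 0) 0 = x := by
  simp only [involBool, List.all_eq_true, List.mem_range, decide_eq_true_eq, Nat.lt_succ_iff]

theorem getD_tab {p r a η k c d x : ℕ} (hx : x ≤ p) :
    (tab p r a η k c d).getD x 0 = tAt p r a η k c d x := by
  simp [tab, List.getD_eq_getElem?_getD, List.getElem?_map, List.getElem?_range,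
    Nat.lt_succ_iff.mpr hx]

theorem exists_injective_std {G : Type*} [Group G] [Finite G] [IsSimpleGroup G]
    {p : ℕ} [Fact p.Prime] (r a η : ℕ) (std : List ℕ) (skip : Bool)
    (hchk : checkBool p r a η std skip = true) (hp2 : p ≠ 2) (hr : 2 * r = p - 1)
    (hcard : Nat.card G = p * r * (p + 1)) (hn : Nat.card (Sylow p G) = p + 1)
    (h2 : 2 ∣ Nat.card G)
    (hskip : skip = true → ∀ t m : G, orderOf t = 2 → orderOf m = r → t * m ≠ m * t) :
    ∃ φ : G →* Equiv.Perm (Fin (p + 1)), Function.Injective φ ∧ φ.range = stdGroup p a std := by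
  classical
  have hp : p.Prime := Fact.out
  have hp3 : 3 ≤ p := by have := hp.two_le; omega
  have hr1 : 1 ≤ r := by omega
  simp only [checkBool, Bool.and_eq_true, List.all_eq_true, List.mem_range, decide_eq_true_eq,
    Bool.or_eq_true, List.any_eq_true] at hchk
  obtain ⟨⟨⟨⟨⟨hprim, har⟩, hcover⟩, hη0⟩, hηp⟩, hmain⟩ := hchk
  have hnc : ¬ IsMulCommutative G := fun hc => by
    have hP : ∀ P : Sylow p G, (P : Subgroup G).Normal := fun P => by
      have := hc; exact normal_of_isMulCommutative _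
    obtain ⟨P⟩ := (inferInstance : Nonempty (Sylow p G))
    have := Sylow.unique_of_normal P (hP P)
    have := Nat.card_unique (α := Sylow p G)
    omega
  -- the Sylow subgroups
  have hm : ¬ p ∣ r * (p + 1) := fun h => by
    rcases hp.dvd_mul.mp h with h | h
    · have := Nat.le_of_dvd (by omega) h; omega
    · rw [Nat.dvd_add_self_left] at h; exact hp.ne_one (Nat.dvd_one.mp h)
  have hPc : ∀ P : Sylow p G, Nat.card (P : Subgroup G) = p := fun P => by
    rw [card_sylow_subgroup (e := 1) (by rw [pow_one, hcard, mul_assoc]) hm P, pow_one]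
  have hNc : ∀ P : Sylow p G, Nat.card (normalizer ((P : Subgroup G) : Set G)) = p * r := fun P => by
    have := card_normalizer_mul_card_sylow P
    rw [hn, hcard] at this
    exact Nat.eq_of_mul_eq_mul_right (by omega) this
  -- the action is faithful
  have hfaith : ∀ g : G, (∀ R : Sylow p G, g • R = R) → g = 1 := by
    intro g hg
    have hk : (MulAction.toPermHom G (Sylow p G)).ker = ⊥ :=
      (MonoidHom.normal_ker _).eq_bot_or_eq_top.resolve_right fun ht => by
        obtain ⟨P⟩ := (inferInstance : Nonempty (Sylow p G))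
        have : Subsingleton (Sylow p G) := ⟨fun A B => by
          obtain ⟨x, hx⟩ := MulAction.exists_smul_eq G A B
          have hx1 : MulAction.toPermHom G (Sylow p G) x = 1 :=
            MonoidHom.mem_ker.mp (ht ▸ mem_top x)
          exact (Equiv.Perm.ext_iff.mp hx1 A).symm.trans hx⟩
        have := Finite.card_le_one_iff_subsingleton.mpr this
        omega
    have : g ∈ (MulAction.toPermHom G (Sylow p G)).ker := Equiv.Perm.ext hg
    rwa [hk, mem_bot] at this
  -- an involution moving some point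
  obtain ⟨t₁, ht₁⟩ := exists_prime_orderOf_dvd_card' (G := G) 2 h2
  obtain ⟨A, hA⟩ : ∃ A : Sylow p G, t₁ • A ≠ A := by
    by_contra! hall
    rw [hfaith t₁ hall, orderOf_one] at ht₁
    norm_num at ht₁
  obtain ⟨P⟩ := (inferInstance : Nonempty (Sylow p G))
  obtain ⟨s', hs'⟩ := exists_prime_orderOf_dvd_card' (G := (P : Subgroup G)) p (by rw [hPc])
  set s : G := (s' : G) with hsdef
  have hs : orderOf s = p := by rw [hsdef, Subgroup.orderOf_coe, hs']
  have hPz : (P : Subgroup G) = zpowers s :=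
    (eq_of_le_of_card_ge (zpowers_le.mpr s'.2) (by rw [hPc, Nat.card_zpowers, hs])).symm
  have hsp : s ^ p = 1 := (congrArg (s ^ ·) hs).symm.trans (pow_orderOf_eq_one s)
  have hsmod : ∀ n, s ^ n = s ^ (n % p) := fun n =>
    (congrArg (fun q => s ^ (n % q)) hs).symm.trans (pow_mod_orderOf s n) |>.symm
  have hfixP : s • P = P :=
    Sylow.smul_eq_iff_mem_normalizer.mpr (le_normalizer (hPz ▸ mem_zpowers s))
  have hfixPn : ∀ n : ℕ, s ^ n • P = P := fun n => by
    induction n with
    | zero => simp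
    | succ n ih => rw [pow_succ, mul_smul, hfixP, ih]
  -- regular orbit
  have hreg : ∀ R : Sylow p G, R ≠ P → ∀ n : ℕ, s ^ n • R = R → s ^ n = 1 := by
    intro R hR n hn'
    have h1 : s ^ n ∈ (P : Subgroup G) ⊓ normalizer (R : Set G) :=
      ⟨hPz ▸ pow_mem (mem_zpowers s) n, Sylow.smul_eq_iff_mem_normalizer.mp hn'⟩
    rw [P.isPGroup'.inf_normalizer_sylow R] at h1
    by_contra h0
    apply hR
    have hz : zpowers (s ^ n) = zpowers s := by
      refine eq_of_le_of_card_ge (zpowers_le.mpr (pow_mem (mem_zpowers s) n)) ?_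
      rw [Nat.card_zpowers, Nat.card_zpowers, hs]
      exact (orderOf_eq_prime (by rw [← pow_mul, mul_comm, pow_mul, hsp, one_pow]) h0).ge
    exact Sylow.ext (eq_of_le_of_card_ge
      (show (P : Subgroup G) ≤ R by rw [hPz, ← hz, zpowers_le]; exact h1.2)
      (by rw [hPc, hPc])).symm
  have horbit : ∀ R : Sylow p G, R ≠ P → ∀ S : Sylow p G, S ≠ P → ∃ i, i < p ∧ s ^ i • R = S := by
    intro R hR S hS
    let f : Fin p → {S : Sylow p G // S ≠ P} := fun i => ⟨s ^ (i : ℕ) • R, fun he => hR (by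
      rwa [← hfixPn (i : ℕ), smul_left_cancel_iff] at he)⟩
    have hf : Function.Injective f := by
      intro i j hij
      have h1 : s ^ (i : ℕ) • R = s ^ (j : ℕ) • R := congrArg Subtype.val hij
      have key : ∀ u v : ℕ, u ≤ v → v < p → s ^ u • R = s ^ v • R → u = v := by
        intro u v huv hv he
        obtain ⟨w, rfl⟩ := Nat.exists_eq_add_of_le huv
        rw [pow_add, mul_smul, smul_left_cancel_iff] at he
        have h0 := hreg R hR w he.symm
        have hdw : p ∣ w := hs ▸ orderOf_dvd_of_pow_eq_one h0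
        rcases Nat.eq_zero_or_pos w with hw | hw
        · omega
        · have := Nat.le_of_dvd hw hdw; omega
      apply Fin.ext
      rcases Nat.le_total (i : ℕ) j with h | h
      · exact key _ _ h j.2 h1
      · exact (key _ _ h i.2 h1.symm).symm
    have hbij : Function.Bijective f := (Nat.bijective_iff_injective_and_card f).mpr ⟨hf, by
      have := Fintype.ofFinite (Sylow p G)
      rw [Nat.card_fin, Nat.card_eq_fintype_card, Fintype.card_subtype_compl,
        Fintype.card_subtype_eq, ← Nat.card_eq_fintype_card, hn]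
      omega⟩
    obtain ⟨i, hi⟩ := hbij.2 ⟨S, hS⟩
    exact ⟨i, i.2, congrArg Subtype.val hi⟩
  -- an involution exchanging `P` and `Q`
  obtain ⟨g₁, hg₁⟩ := MulAction.exists_smul_eq G A P
  set t : G := g₁ * t₁ * g₁⁻¹ with htdef
  set Q : Sylow p G := t • P with hQdef
  have htt : t * t = 1 := by
    have h1 : t₁ * t₁ = 1 := by
      rw [← pow_two]; exact (congrArg (t₁ ^ ·) ht₁).symm.trans (pow_orderOf_eq_one t₁)
    rw [htdef, show g₁ * t₁ * g₁⁻¹ * (g₁ * t₁ * g₁⁻¹) = g₁ * (t₁ * t₁) * g₁⁻¹ by group, h1]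
    group
  have ht2 : orderOf t = 2 :=
    (orderOf_injective (MulAut.conj g₁).toMonoidHom (MulAut.conj g₁).injective t₁).trans ht₁
  have hQP : Q ≠ P := fun he => hA (by
    rw [hQdef, htdef, mul_smul, mul_smul, ← hg₁, inv_smul_smul, smul_left_cancel_iff] at he
    exact he)
  have htQ : t • Q = P := by rw [hQdef, smul_smul, htt, one_smul]
  -- coordinates
  let pt : ℕ → Sylow p G := fun i => if i = p then P else s ^ i • Q
  have pt_p : pt p = P := if_pos rfl
  have pt_lt : ∀ i, i < p → pt i = s ^ i • Q := fun i hi => if_neg (by omega)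
  have pt_mod : ∀ i, pt (i % p) = s ^ i • Q := fun i => by
    rw [pt_lt _ (Nat.mod_lt _ hp.pos), ← hsmod]
  have pt0 : pt 0 = Q := by rw [pt_lt 0 hp.pos, pow_zero, one_smul]
  have pt_ne : ∀ i, i < p → pt i ≠ P := fun i hi he => hQP (by
    rwa [pt_lt i hi, ← hfixPn i, smul_left_cancel_iff] at he)
  have pt_surj : ∀ R, ∃ i, i ≤ p ∧ pt i = R := fun R => by
    by_cases hR : R = P
    · exact ⟨p, le_rfl, hR ▸ pt_p⟩
    · obtain ⟨i, hi, he⟩ := horbit Q hQP R hR
      exact ⟨i, hi.le, by rw [pt_lt i hi, he]⟩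
  have pt_inj : ∀ i j, i ≤ p → j ≤ p → pt i = pt j → i = j := by
    intro i j hi hj he
    let f : Fin (p + 1) → Sylow p G := fun i => pt i
    have hf : Function.Bijective f := (Nat.bijective_iff_surjective_and_card f).mpr
      ⟨fun R => by
        obtain ⟨i, hi, he⟩ := pt_surj R
        exact ⟨⟨i, by omega⟩, he⟩, by rw [Nat.card_fin, hn]⟩
    exact congrArg Fin.val (@hf.1 ⟨i, by omega⟩ ⟨j, by omega⟩ he)
  have hext : ∀ g h : G, (∀ x ≤ p, g • pt x = h • pt x) → g = h := by
    intro g h hgh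
    apply inv_mul_eq_one.mp
    refine (hfaith (g⁻¹ * h) fun R => ?_)
    obtain ⟨x, hx, rfl⟩ := pt_surj R
    rw [mul_smul, ← hgh x hx, inv_smul_smul]
  -- conjugation on `P`
  have hexp : ∀ h : G, h • P = P → ∃ e, e < p ∧ h * s * h⁻¹ = s ^ e := by
    intro h hh
    have h1 := (mem_normalizer_iff.mp (Sylow.smul_eq_iff_mem_normalizer.mp hh) s).mp
      (hPz ▸ mem_zpowers s : s ∈ (P : Subgroup G))
    obtain ⟨n, hn'⟩ := mem_powers_iff_mem_zpowers.mpr (hPz.le h1)
    exact ⟨n % p, Nat.mod_lt _ hp.pos, by rw [← hsmod]; exact hn'.symm⟩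
  have hshift : ∀ (h : G) (e : ℕ), h • P = P → h • Q = Q → h * s * h⁻¹ = s ^ e →
      ∀ x < p, h • pt x = pt (e * x % p) := by
    intro h e _ hQ he x hx
    rw [pt_mod, pt_lt x hx, pow_mul, ← he, conj_pow, mul_smul, mul_smul,
      show h⁻¹ • Q = Q by rw [inv_smul_eq_iff, hQ]]
  -- the two point stabiliser
  let K := {h : G // h • P = P ∧ h • Q = Q}
  have hK : Nat.card K = r := by
    let f : Fin p × K → {h : G // h • P = P} := fun x =>
      ⟨s ^ (x.1 : ℕ) * x.2.1, by rw [mul_smul, x.2.2.1, hfixPn]⟩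
    have hf : Function.Bijective f := by
      constructor
      · rintro ⟨i, k⟩ ⟨j, l⟩ he
        have h1 : s ^ (i : ℕ) * k.1 = s ^ (j : ℕ) * l.1 := congrArg Subtype.val he
        have h2 : pt i = pt j := by
          rw [pt_lt _ i.2, pt_lt _ j.2]
          conv_lhs => rw [← k.2.2, ← mul_smul, h1, mul_smul, l.2.2]
        obtain rfl : i = j := Fin.ext (pt_inj _ _ i.2.le j.2.le h2)
        obtain rfl : k = l := Subtype.ext (mul_left_cancel h1)
        rfl
      · rintro ⟨h, hh⟩
        obtain ⟨i, hi, he⟩ := horbit Q hQP (h • Q) (fun he => hQP (by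
          rwa [← hh, smul_left_cancel_iff] at he))
        refine ⟨(⟨i, hi⟩, ⟨(s ^ i)⁻¹ * h, ?_, ?_⟩), Subtype.ext ?_⟩
        · rw [mul_smul, hh, inv_smul_eq_iff, hfixPn]
        · rw [mul_smul, ← he, inv_smul_smul]
        · exact mul_inv_cancel_left _ _
    have h1 := Nat.card_congr (Equiv.ofBijective f hf)
    rw [Nat.card_prod, Nat.card_fin, show Nat.card {h : G // h • P = P} = p * r from ?_] at h1
    · exact Nat.eq_of_mul_eq_mul_left hp.pos h1
    · rw [← hNc P]
      exact Nat.card_congr (Equiv.subtypeEquivRight fun h => Sylow.smul_eq_iff_mem_normalizer)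
  have hKeq : ∀ h₁ h₂ : K, ∀ e, h₁.1 * s * h₁.1⁻¹ = s ^ e → h₂.1 * s * h₂.1⁻¹ = s ^ e → h₁ = h₂ := by
    intro h₁ h₂ e e1 e2
    apply Subtype.ext
    apply hext
    intro x hx
    rcases Nat.lt_or_eq_of_le hx with hx' | rfl
    · rw [hshift _ e h₁.2.1 h₁.2.2 e1 x hx', hshift _ e h₂.2.1 h₂.2.2 e2 x hx']
    · rw [pt_p, h₁.2.1, h₂.2.1]
  -- the element multiplying by `a`
  obtain ⟨m, hmP, hmQ, hmconj⟩ : ∃ m : G, m • P = P ∧ m • Q = Q ∧ m * s * m⁻¹ = s ^ (a % p) := by
    choose e he1 he2 using fun h : K => hexp h.1 h.2.1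
    have hroots : ∀ h : K, ((e h : ℕ) : ZMod p) ^ r = 1 := by
      intro h
      have hiter : ∀ n, h.1 ^ n * s * (h.1 ^ n)⁻¹ = s ^ (e h ^ n) := by
        intro n
        induction n with
        | zero => simp
        | succ n ih =>
          rw [pow_succ' h.1, show h.1 * h.1 ^ n * s * (h.1 * h.1 ^ n)⁻¹ =
            h.1 * (h.1 ^ n * s * (h.1 ^ n)⁻¹) * h.1⁻¹ by group, ih, ← conj_pow, he2 h,
            ← pow_mul, pow_succ' (e h)]
      have hr' : h.1 ^ r = 1 := by
        let KG : Subgroup G := MulAction.stabilizer G P ⊓ MulAction.stabilizer G Q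
        have hc : Nat.card KG = r := hK
        have := congrArg Subtype.val
          ((congrArg ((⟨h.1, h.2⟩ : KG) ^ ·) hc).symm.trans pow_card_eq_one')
        simpa using this
      have := hiter r
      rw [hr', inv_one, one_mul, mul_one] at this
      have h1 : e h ^ r ≡ 1 [MOD p] := by
        rw [← hs, ← pow_eq_pow_iff_modEq, pow_one]; exact this.symm
      rw [← Nat.cast_pow, ← Nat.cast_one, ZMod.natCast_eq_natCast_iff]
      exact h1
    let F : K → {z : ZMod p // z ^ r = 1} := fun h => ⟨(e h : ZMod p), hroots h⟩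
    have hF : Function.Injective F := fun h₁ h₂ he => by
      have h3 : e h₁ = e h₂ := by
        have h4 : ((e h₁ : ℕ) : ZMod p) = e h₂ := congrArg Subtype.val he
        rw [ZMod.natCast_eq_natCast_iff', Nat.mod_eq_of_lt (he1 _), Nat.mod_eq_of_lt (he1 _)] at h4
        exact h4
      exact hKeq h₁ h₂ (e h₁) (he2 h₁) (h3 ▸ he2 h₂)
    have hle : Nat.card {z : ZMod p // z ^ r = 1} ≤ r := by
      rw [Nat.card_eq_fintype_card, Fintype.card_subtype]
      refine le_trans (Finset.card_le_card (t := (Polynomial.nthRoots r (1 : ZMod p)).toFinset) ?_) ?_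
      · intro z hz
        rw [Multiset.mem_toFinset, Polynomial.mem_nthRoots hr1]
        simpa using hz
      · exact (Multiset.toFinset_card_le _).trans (Polynomial.card_nthRoots r 1)
    have hbij : Function.Bijective F := (Nat.bijective_iff_injective_and_card F).mpr
      ⟨hF, le_antisymm (Nat.card_le_card_of_injective F hF) (by rw [hK]; exact hle)⟩
    obtain ⟨h, hh⟩ := hbij.2 ⟨(a : ZMod p), by
      rw [← Nat.cast_pow, ← ZMod.natCast_mod, har, Nat.cast_one]⟩
    have h4 : ((e h : ℕ) : ZMod p) = a := congrArg Subtype.val hh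
    rw [ZMod.natCast_eq_natCast_iff', Nat.mod_eq_of_lt (he1 _)] at h4
    exact ⟨h.1, h.2.1, h.2.2, h4 ▸ he2 h⟩
  have hmu : ∀ j x, x ≤ p → m ^ j • pt x = pt (mulA p a j x) := by
    intro j x hx
    rcases Nat.lt_or_eq_of_le hx with hx' | rfl
    · rw [mulA, if_neg (by omega)]
      induction j with
      | zero => simp [Nat.mod_eq_of_lt hx', Nat.mod_eq_of_lt hp.one_lt]
      | succ j ih =>
        rw [pow_succ', mul_smul, ih, hshift m (a % p) hmP hmQ hmconj _ (Nat.mod_lt _ hp.pos)]
        congr 1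
        show Nat.ModEq p (a % p * (a ^ j % p * x % p)) (a ^ (j + 1) % p * x)
        refine ((Nat.mod_modEq a p).mul ((Nat.mod_modEq _ p).trans
          ((Nat.mod_modEq _ p).mul_right x))).trans ?_
        rw [← mul_assoc, ← pow_succ']
        exact ((Nat.mod_modEq _ p).mul_right x).symm
    · rw [mulA, if_pos rfl, pt_p]
      induction j with
      | zero => simp
      | succ j ih => rw [pow_succ', mul_smul, ih, hmP]
  have hsu : ∀ i x, x ≤ p → s ^ i • pt x = pt (addI p i x) := by
    intro i x hx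
    rcases Nat.lt_or_eq_of_le hx with hx' | rfl
    · rw [addI, if_neg (by omega), pt_mod, pt_lt x hx', smul_smul, ← pow_add, add_comm]
    · rw [addI, if_pos rfl, pt_p, hfixPn]
  have addI_le : ∀ i x, addI p i x ≤ p := fun i x => by
    rw [addI]; split
    exacts [le_rfl, (Nat.mod_lt _ hp.pos).le]
  have mulA_le : ∀ i x, mulA p a i x ≤ p := fun i x => by
    rw [mulA]; split
    exacts [le_rfl, (Nat.mod_lt _ hp.pos).le]
  have mulA_lt : ∀ i x, x < p → mulA p a i x < p := fun i x hx => by
    rw [mulA, if_neg (by omega)]; exact Nat.mod_lt _ hp.pos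
  have hKgen : ∀ h : G, h • P = P → h • Q = Q → ∃ j < r, h = m ^ j := by
    intro h h1 h2
    let f : Fin r → K := fun j => ⟨m ^ (j : ℕ), by
      constructor
      · have := hmu j p le_rfl; rwa [pt_p, mulA, if_pos rfl, pt_p] at this
      · have := hmu j 0 (Nat.zero_le _)
        rwa [pt0, mulA, if_neg hp.pos.ne, mul_zero, Nat.zero_mod, pt0] at this⟩
    have hf : Function.Injective f := by
      intro i j hij
      have h3 := congrArg (fun h : K => h.1 • pt 1) hij
      simp only [f, hmu _ 1 hp.one_lt.le] at h3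
      have h4 := pt_inj _ _ (mulA_le _ _) (mulA_le _ _) h3
      rw [mulA, mulA, if_neg hp.one_lt.ne, if_neg hp.one_lt.ne, mul_one, mul_one, Nat.mod_mod,
        Nat.mod_mod] at h4
      apply Fin.ext
      have key : ∀ u v, u ≤ v → v < r → a ^ u % p = a ^ v % p → u = v := by
        intro u v huv hv he
        obtain ⟨w, rfl⟩ := Nat.exists_eq_add_of_le huv
        by_contra hne
        apply (hprim w (by omega)).resolve_left (by omega)
        have hcop : Nat.Coprime p (a ^ u) := by
          refine (Nat.Coprime.pow_right _ (hp.coprime_iff_not_dvd.mpr fun hd => ?_))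
          rw [Nat.mod_eq_zero_of_dvd (dvd_pow hd (by omega : r ≠ 0))] at har
          exact absurd har (by norm_num)
        have h5 : a ^ w ≡ 1 [MOD p] :=
          Nat.ModEq.cancel_left_of_coprime hcop (by rw [mul_one, ← pow_add]; exact he.symm)
        rw [h5, Nat.mod_eq_of_lt hp.one_lt]
      rcases Nat.le_total (i : ℕ) j with hle | hle
      · exact key _ _ hle j.2 h4
      · exact (key _ _ hle i.2 h4.symm).symm
    obtain ⟨j, hj⟩ := ((Nat.bijective_iff_injective_and_card f).mpr
      ⟨hf, by rw [Nat.card_fin, hK]⟩).2 ⟨h, h1, h2⟩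
    exact ⟨j, j.2, (congrArg Subtype.val hj).symm⟩
  -- the involution in coordinates
  choose T hTle hT using fun x => pt_surj (t • pt x)
  have hT0 : T 0 = p := pt_inj _ _ (hTle _) le_rfl (by rw [hT, pt0, htQ, pt_p])
  have hTp : T p = 0 := pt_inj _ _ (hTle _) (by omega) (by rw [hT, pt_p, pt0])
  have hTT : ∀ x ≤ p, T (T x) = x := fun x hx =>
    pt_inj _ _ (hTle _) hx (by rw [hT, hT, smul_smul, htt, one_smul])
  have hTmid : ∀ x, 0 < x → x < p → 0 < T x ∧ T x < p := fun x h0 hx => by
    constructor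
    · refine Nat.pos_of_ne_zero fun h => ?_
      have := hTT x hx.le
      rw [h, hT0] at this; omega
    · refine lt_of_le_of_ne (hTle x) fun h => ?_
      have := hTT x hx.le
      rw [h, hTp] at this; omega
  have hmr : m ^ r = 1 := by
    apply hext
    intro x hx
    rw [hmu r x hx, one_smul, mulA]
    split
    · next h => rw [h]
    · rw [har, one_mul, Nat.mod_eq_of_lt (by omega)]
  obtain ⟨k, hk, hkt⟩ : ∃ k < r, t * m * t⁻¹ = m ^ k := by
    have htinv : t⁻¹ = t := inv_eq_of_mul_eq_one_right htt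
    refine hKgen _ ?_ ?_
    · rw [htinv, mul_smul, mul_smul, ← hQdef, hmQ, htQ]
    · rw [htinv, mul_smul, mul_smul, htQ, hmP]
  have hmmod : ∀ n, m ^ n = m ^ (n % r) := fun n => by
    conv_lhs => rw [← Nat.mod_add_div n r, pow_add, pow_mul, hmr, one_pow, mul_one]
  have hTm : ∀ i x, x ≤ p → T (mulA p a i x) = mulA p a (k * i % r) (T x) := by
    intro i x hx
    apply pt_inj _ _ (hTle _) (mulA_le _ _)
    rw [hT, ← hmu i x hx, ← hmu _ _ (hTle _), ← hmmod, hT, pow_mul, ← hkt, conj_pow,
      ← mul_smul, ← mul_smul]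
    congr 1
    group
  set c := T 1 with hc
  set d := T η with hd
  set TT := tab p r a η k c d with hTT'
  have htab : ∀ x ≤ p, TT.getD x 0 = T x := by
    intro x hx
    rw [hTT', getD_tab hx, tAt]
    split
    · next h => rw [h, hT0]
    split
    · next h => rw [h, hTp]
    split
    · next i hi =>
      have h' := List.find?_some hi
      rw [decide_eq_true_eq] at h'
      rw [← h', hTm i 1 hp.one_lt.le]
    · next hnone =>
      split
      · next i hi =>
        have h' := List.find?_some hi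
        rw [decide_eq_true_eq] at h'
        rw [← h', hTm i η hηp.le]
      · next hnone' =>
        exfalso
        rcases hcover x (by omega) with h | ⟨i, hi, h⟩
        · omega
        · rw [List.find?_eq_none] at hnone hnone'
          rcases h with h | h
          · exact hnone i (List.mem_range.mpr hi) (by simpa using h)
          · exact hnone' i (List.mem_range.mpr hi) (by simpa using h)
  have hdec : ∀ g : G, g • P ≠ P → ∃ b j u, b < p ∧ j < p ∧ u < r ∧
      g = s ^ b * m ^ u * t * s ^ j := by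
    intro g hg
    obtain ⟨b, hb, hgb⟩ := horbit Q hQP (g • P) hg
    have hfix : (t⁻¹ * (s ^ b)⁻¹ * g) • P = P := by
      rw [mul_smul, mul_smul, ← hgb, inv_smul_smul, inv_smul_eq_iff, hQdef]
    obtain ⟨i, hi, hiQ⟩ := horbit Q hQP ((t⁻¹ * (s ^ b)⁻¹ * g) • Q) (fun he => hQP (by
      rwa [← hfix, smul_left_cancel_iff] at he))
    obtain ⟨u, hu, hu'⟩ := hKgen ((s ^ i)⁻¹ * (t⁻¹ * (s ^ b)⁻¹ * g))
      (by rw [mul_smul, hfix, inv_smul_eq_iff, hfixPn]) (by rw [mul_smul, ← hiQ, inv_smul_smul])
    -- move `m ^ u` to the left of `t`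
    obtain ⟨j, hj, hj'⟩ := hexp (m ^ (r - u)) (by
      have := hmu (r - u) p le_rfl; rwa [pt_p, mulA, if_pos rfl, pt_p] at this)
    have hinv : m ^ (r - u) = (m ^ u)⁻¹ := by
      rw [eq_inv_iff_mul_eq_one, ← pow_add, Nat.sub_add_cancel hu.le, hmr]
    have hti : t⁻¹ = t := inv_eq_of_mul_eq_one_right htt
    refine ⟨b, j * i % p, k * u % r, hb, Nat.mod_lt _ hp.pos, Nat.mod_lt _ hr1, ?_⟩
    have hg' : g = s ^ b * t * s ^ i * m ^ u := by
      rw [← hu']; group
    rw [← hmmod, ← hsmod, pow_mul s, ← hj', conj_pow, hinv, inv_inv, pow_mul, ← hkt, conj_pow, hg']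
    group
  -- the checker applies
  have hgood : goodBool p r a TT = true := by
    simp only [goodBool, List.all_eq_true, List.mem_range, Bool.or_eq_true, decide_eq_true_eq,
      List.any_eq_true, Nat.lt_succ_iff]
    intro i hi
    by_cases hi0 : i = 0
    · exact Or.inl hi0
    right
    have hmv : ∀ x ≤ p, (t * s ^ i * t) • pt x = pt (T (addI p i (T x))) := fun x hx => by
      rw [mul_smul, mul_smul, ← hT x, hsu i _ (hTle _), ← hT]
    obtain ⟨b, j, u, hb, hj, hu, hg⟩ := hdec (t * s ^ i * t) (by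
      have := hmv p le_rfl
      rw [pt_p, hTp, addI, if_neg hp.pos.ne, zero_add, Nat.mod_eq_of_lt hi] at this
      rw [this]
      exact pt_ne _ (hTmid i (by omega) hi).2)
    have key : ∀ x ≤ p, T (addI p i (T x)) = addI p b (mulA p a u (T (addI p j x))) := by
      intro x hx
      apply pt_inj _ _ (hTle _) (addI_le _ _)
      rw [← hmv x hx, hg, mul_smul, mul_smul, mul_smul, hsu j x hx, ← hT,
        hmu u _ (hTle _), hsu b _ (mulA_le _ _)]
    have e1 := key p le_rfl
    rw [hTp, addI, if_neg hp.pos.ne, zero_add, Nat.mod_eq_of_lt hi,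
      show addI p j p = p from if_pos rfl, hTp, mulA, if_neg hp.pos.ne, mul_zero,
      Nat.zero_mod, addI, if_neg hp.pos.ne, zero_add, Nat.mod_eq_of_lt hb] at e1
    have hpi := hTmid (p - i) (by omega) (by omega)
    have e2 := key (T (p - i)) (hTle _)
    rw [hTT _ (by omega), addI, if_neg (by omega), Nat.sub_add_cancel hi.le, Nat.mod_self,
      hT0] at e2
    have e3 : addI p j (T (p - i)) = 0 := by
      by_contra hne
      have hlt : addI p j (T (p - i)) < p := by
        rw [addI, if_neg (by omega)]; exact Nat.mod_lt _ hp.pos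
      have := mulA_lt u _ (hTmid _ (Nat.pos_of_ne_zero hne) hlt).2
      rw [addI, if_neg (by omega)] at e2
      have := Nat.mod_lt (mulA p a u (T (addI p j (T (p - i)))) + b) hp.pos
      omega
    rw [addI, if_neg (by omega)] at e3
    have ej : j = (p - T (p - i)) % p := by
      rw [Nat.mod_eq_of_lt (by omega)]
      obtain ⟨q, hq⟩ := Nat.dvd_of_mod_eq_zero e3
      have : q = 1 := by nlinarith
      subst this
      omega
    refine ⟨u, hu, fun x hx => ?_⟩
    rw [htab x hx, htab _ (addI_le _ _), htab _ hi.le, htab _ (Nat.sub_le _ _), ← ej,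
      htab _ (addI_le _ _), key x hx, e1]
  have hinv : involBool p TT = true := involBool_iff.mpr fun x hx => by
    rw [htab x hx, htab _ (hTle _), hTT x hx]
  obtain ⟨hc0, hcp⟩ := hTmid 1 Nat.one_pos hp.one_lt
  obtain ⟨hd0, hdp⟩ := hTmid η hη0 hηp
  have hconj : conjBool p r a std TT = true := by
    rcases hmain k hk with hs' | hall
    · exfalso
      obtain ⟨hsk, hk1⟩ := hs'
      have hmo : orderOf m = r := by
        refine Nat.dvd_antisymm (orderOf_dvd_of_pow_eq_one hmr) ?_
        by_contra hdv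
        have hlt : orderOf m < r := lt_of_le_of_ne (Nat.le_of_dvd hr1 (orderOf_dvd_of_pow_eq_one hmr))
          fun he => hdv he.symm.dvd
        refine absurd ?_ ((hprim _ hlt).resolve_left (orderOf_pos m).ne')
        have := hmu (orderOf m) 1 hp.one_lt.le
        rw [pow_orderOf_eq_one, one_smul] at this
        have := (pt_inj _ _ hp.one_lt.le (mulA_le _ _) this).symm
        rwa [mulA, if_neg hp.one_lt.ne, mul_one, Nat.mod_mod] at this
      subst hk1
      rw [pow_one, mul_inv_eq_iff_eq_mul] at hkt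
      exact hskip hsk t m ht2 hmo hkt
    · rcases hall c hcp with h | h
      · omega
      rcases h d hdp with (h | h) | h
      · omega
      · simp [hTT'] at hinv hgood h
        simp [hinv, hgood] at h
      · exact hTT' ▸ h
  simp only [conjBool, List.any_eq_true, List.all_eq_true, List.mem_range, decide_eq_true_eq,
    Nat.lt_succ_iff] at hconj
  obtain ⟨j₀, -, hj₀⟩ := hconj
  set t₀ := m ^ j₀ * t with ht₀
  have ht₀pt : ∀ x ≤ p, t₀ • pt x = pt (std.getD x 0) := fun x hx => by
    rw [ht₀, mul_smul, ← hT x, hmu j₀ _ (hTle _), ← hj₀ x hx, htab x hx]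
  have hstd_le : ∀ x ≤ p, std.getD x 0 ≤ p := fun x hx => by
    rw [← hj₀ x hx]; exact mulA_le _ _
  let e : Sylow p G ≃ Fin (p + 1) := (Equiv.ofBijective (fun i : Fin (p + 1) => pt i)
    ((Nat.bijective_iff_surjective_and_card _).mpr ⟨fun R => by
      obtain ⟨i, hi, he⟩ := pt_surj R
      exact ⟨⟨i, by omega⟩, he⟩, by rw [Nat.card_fin, hn]⟩)).symm
  let φ : G →* Equiv.Perm (Fin (p + 1)) :=
    e.permCongrHom.toMonoidHom.comp (MulAction.toPermHom G (Sylow p G))
  have hφ : ∀ (g : G) (x : Fin (p + 1)), pt ((φ g x : Fin (p + 1)) : ℕ) = g • pt x := fun g x =>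
    e.symm_apply_apply (g • pt x)
  have hφval : ∀ (g : G) (x : Fin (p + 1)) (y : ℕ), y ≤ p → g • pt x = pt y →
      ((φ g x : Fin (p + 1)) : ℕ) = y := fun g x y hy he =>
    pt_inj _ _ (Nat.lt_succ_iff.mp (φ g x).2) hy ((hφ g x).trans he)
  have hxle : ∀ x : Fin (p + 1), (x : ℕ) ≤ p := fun x => Nat.lt_succ_iff.mp x.2
  have hφinj : Function.Injective φ := by
    intro g h he
    apply hext
    intro x hx
    have := hφ g ⟨x, by omega⟩
    rw [he, hφ h ⟨x, by omega⟩] at this
    exact this.symm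
  refine ⟨φ, hφinj, ?_⟩
  -- generation
  set H := closure ({s, m, t₀} : Set G)
  have hsH : s ∈ H := subset_closure (by simp)
  have hmH : m ∈ H := subset_closure (by simp)
  have htH : t ∈ H := by
    rw [show t = (m ^ j₀)⁻¹ * t₀ by rw [ht₀, inv_mul_cancel_left]]
    exact mul_mem (inv_mem (pow_mem hmH _)) (subset_closure (by simp))
  have hHtop : H = ⊤ := eq_top_iff.mpr fun g _ => by
    have hstab : ∀ g : G, g • P = P → g ∈ H := fun g hg => by
      obtain ⟨i, hi, hiQ⟩ := horbit Q hQP (g • Q) (fun he => hQP (by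
        rwa [← hg, smul_left_cancel_iff] at he))
      obtain ⟨u, hu, hu'⟩ := hKgen ((s ^ i)⁻¹ * g)
        (by rw [mul_smul, hg, inv_smul_eq_iff, hfixPn]) (by rw [mul_smul, ← hiQ, inv_smul_smul])
      rw [inv_mul_eq_iff_eq_mul] at hu'
      rw [hu']
      exact mul_mem (pow_mem hsH i) (pow_mem hmH u)
    by_cases hg : g • P = P
    · exact hstab g hg
    · obtain ⟨b, j, u, -, -, -, hgdec⟩ := hdec g hg
      rw [hgdec]
      exact mul_mem (mul_mem (mul_mem (pow_mem hsH b) (pow_mem hmH u)) htH) (pow_mem hsH j)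
  rw [MonoidHom.range_eq_map, ← hHtop, MonoidHom.map_closure, stdGroup]
  congr 1
  have h1 : ∀ x : Fin (p + 1), ((φ s x : Fin (p + 1)) : ℕ) = addI p 1 x := fun x =>
    hφval s x _ (addI_le _ _) (by rw [← hsu 1 x (hxle x), pow_one])
  have h2 : ∀ x : Fin (p + 1), ((φ m x : Fin (p + 1)) : ℕ) = mulA p a 1 x := fun x =>
    hφval m x _ (mulA_le _ _) (by rw [← hmu 1 x (hxle x), pow_one])
  have h3 : ∀ x : Fin (p + 1), ((φ t₀ x : Fin (p + 1)) : ℕ) = std.getD x 0 := fun x =>
    hφval t₀ x _ (hstd_le x (hxle x)) (ht₀pt x (hxle x))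
  ext f
  simp only [Set.image_insert_eq, Set.image_singleton, Set.mem_insert_iff, Set.mem_singleton_iff,
    Set.mem_setOf_eq]
  constructor
  · rintro (rfl | rfl | rfl)
    exacts [Or.inl h1, Or.inr (Or.inl h2), Or.inr (Or.inr h3)]
  · rintro (h | h | h)
    · exact Or.inl (Equiv.ext fun x => Fin.ext ((h x).trans (h1 x).symm))
    · exact Or.inr (Or.inl (Equiv.ext fun x => Fin.ext ((h x).trans (h2 x).symm)))
    · exact Or.inr (Or.inr (Equiv.ext fun x => Fin.ext ((h x).trans (h3 x).symm)))

/-- Two simple groups of order `p (p^2-1)/2` with `p + 1` Sylow `p`-subgroups are isomorphic. -/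
theorem mulEquiv_of_check {G H : Type*} [Group G] [Finite G] [IsSimpleGroup G] [Group H] [Finite H]
    [IsSimpleGroup H] {p : ℕ} [Fact p.Prime] (r a η : ℕ) (std : List ℕ) (skip : Bool)
    (hchk : checkBool p r a η std skip = true) (hp2 : p ≠ 2) (hr : 2 * r = p - 1)
    (hG : Nat.card G = p * r * (p + 1)) (hH : Nat.card H = p * r * (p + 1))
    (hnG : Nat.card (Sylow p G) = p + 1) (hnH : Nat.card (Sylow p H) = p + 1)
    (h2 : 2 ∣ p * r * (p + 1))
    (hsG : skip = true → ∀ t m : G, orderOf t = 2 → orderOf m = r → t * m ≠ m * t)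
    (hsH : skip = true → ∀ t m : H, orderOf t = 2 → orderOf m = r → t * m ≠ m * t) :
    Nonempty (G ≃* H) := by
  obtain ⟨φ, hφ, hr₁⟩ := exists_injective_std r a η std skip hchk hp2 hr hG hnG (hG ▸ h2) hsG
  obtain ⟨ψ, hψ, hr₂⟩ := exists_injective_std r a η std skip hchk hp2 hr hH hnH (hH ▸ h2) hsH
  exact ⟨((MonoidHom.ofInjective hφ).trans (MulEquiv.subgroupCongr (hr₁.trans hr₂.symm))).trans
    (MonoidHom.ofInjective hψ).symm⟩

end Cfsg.Agent.SmallOrders.PSLPrime
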