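-- Recognition of `PSL_2(p)` by its order.
--
-- * `mulEquiv_psl`: a simple group of order `p r (p+1)`, `2 r = p - 1`, with the arithmetic side
--   conditions checked by `decide`, is isomorphic to `PSL_2(F)`, `|F| = p`
import Cfsg.Agent.Lib.SmallOrders.PSLPrime
import Cfsg.Agent.Lib.GLOrder.Basic

set_option autoImplicit false

namespace Cfsg.Agent.SmallOrders.PSLPrime

/-- the arithmetic forcing `n_p = p + 1` -/
def countBool (p r : ℕ) : Bool :=
  (List.range (r * (p + 1) + 1)).all fun d =>
    decide (d ≤ 1) || decide (¬ d ∣ r * (p + 1)) || decide (d % p ≠ 1) || decide (d = p + 1)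

theorem card_sylow_of_countBool {G : Type*} [Group G] [Finite G] [IsSimpleGroup G]
    {p r : ℕ} [Fact p.Prime] (hc : countBool p r = true) (hp3 : 3 ≤ p) (hr : 2 * r = p - 1)
    (hcard : Nat.card G = p * r * (p + 1)) : Nat.card (Sylow p G) = p + 1 := by
  have hp : p.Prime := Fact.out
  have hm : ¬ p ∣ r * (p + 1) := fun h => by
    rcases hp.dvd_mul.mp h with h | h
    · have := Nat.le_of_dvd (by omega) h; omega
    · rw [Nat.dvd_add_self_left] at h; exact hp.ne_one (Nat.dvd_one.mp h)
  have hnc : ¬ IsMulCommutative G := not_isMulCommutative_of_card fun hpr => by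
    rw [hcard, mul_assoc] at hpr
    rcases Nat.prime_mul_iff.mp hpr with ⟨-, h⟩ | ⟨-, h⟩
    · have : 1 ≤ r := by omega
      nlinarith
    · omega
  obtain ⟨P⟩ := (inferInstance : Nonempty (Sylow p G))
  have hd : Nat.card (Sylow p G) ∣ r * (p + 1) :=
    index_sylow (e := 1) (by rw [pow_one, hcard, mul_assoc]) hm P ▸ P.card_dvd_index
  have hone := one_lt_card_sylow hnc (p := p) (by rw [hcard]; exact ((dvd_mul_right p r).mul_right _))
  have hmod : Nat.card (Sylow p G) ≡ 1 [MOD p] := card_sylow_modEq_one p G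
  unfold Nat.ModEq at hmod
  rw [Nat.mod_eq_of_lt hp.one_lt] at hmod
  simp only [countBool, List.all_eq_true, List.mem_range, Bool.or_eq_true, decide_eq_true_eq,
    Nat.lt_succ_iff] at hc
  rcases hc _ (Nat.le_of_dvd (Nat.mul_pos (by omega) (by omega)) hd) with ((h | h) | h) | h
  · omega
  · exact absurd hd h
  · exact absurd hmod h
  · exact h

theorem mulEquiv_psl {G : Type*} [Group G] [Finite G] [IsSimpleGroup G] {F : Type*} [Field F]
    [Fintype F] {p : ℕ} [Fact p.Prime] (r a η : ℕ) (std : List ℕ) (skip : Bool)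
    (hchk : checkBool p r a η std skip = true) (hcnt : countBool p r = true) (hp5 : 5 ≤ p)
    (hr : 2 * r = p - 1) (h2 : 2 ∣ p * r * (p + 1)) (hF : Fintype.card F = p)
    (hG : Nat.card G = p * r * (p + 1))
    (hskip : skip = true → IsSimpleGroup (Matrix.ProjectiveSpecialLinearGroup (Fin 2) F) →
      Nat.card (Matrix.ProjectiveSpecialLinearGroup (Fin 2) F) = p * r * (p + 1) →
      ∀ t m : Matrix.ProjectiveSpecialLinearGroup (Fin 2) F,
        orderOf t = 2 → orderOf m = r → t * m ≠ m * t)
    (hskipG : skip = true → ∀ t m : G, orderOf t = 2 → orderOf m = r → t * m ≠ m * t) :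
    Nonempty (G ≃* Matrix.ProjectiveSpecialLinearGroup (Fin 2) F) := by
  have hq : Nat.card F = p := by rw [Nat.card_eq_fintype_card, hF]
  have : IsSimpleGroup (Matrix.ProjectiveSpecialLinearGroup (Fin 2) F) :=
    Matrix.ProjectiveSpecialLinearGroup.rank_two_simple (by omega)
  have hodd : Odd (Nat.card F) := by
    rw [hq]; exact (Fact.out : p.Prime).odd_of_ne_two (by omega)
  have hcard : Nat.card (Matrix.ProjectiveSpecialLinearGroup (Fin 2) F) = p * r * (p + 1) := by
    have h := Cfsg.Agent.GLOrder.card_PSL_two_of_odd hodd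
    rw [hq] at h
    have e : p ^ 2 - 1 = (p + 1) * (2 * r) := by
      rw [hr]
      have := Nat.sq_sub_sq p 1
      rwa [one_pow] at this
    rw [e] at h
    exact Nat.eq_of_mul_eq_mul_left two_pos (h.trans (by ring))
  exact mulEquiv_of_check r a η std skip hchk (by omega) hr hG hcard
    (card_sylow_of_countBool hcnt (by omega) hr hG) (card_sylow_of_countBool hcnt (by omega) hr hcard)
    h2 hskipG (fun h => hskip h this hcard)

end Cfsg.Agent.SmallOrders.PSLPrime
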