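-- Sylow 2-subgroups of order 16 with an involution centralised by only four of their elements.
--
-- * `exists_index_two`: there is a maximal subgroup with a single involution, which is central
-- * `false_of_small_centralizer`: no simple group has such a `z`, centralised less than that one
import Cfsg.Agent.Lib.SmallOrders.Basic
import Cfsg.Agent.S0111

set_option autoImplicit false

namespace Cfsg.Agent.SmallOrders

open Subgroup
open scoped Pointwise

theorem exists_index_two {T : Type*} [Group T] [Finite T] (hT : Nat.card T = 16) {z : T}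
    (hz : z ^ 2 = 1) (hz1 : z ≠ 1) (hC : Nat.card (centralizer ({z} : Set T)) = 4) :
    ∃ (w : T) (M : Subgroup T), w ∈ center T ∧ w ≠ 1 ∧ M.index = 2 ∧ z ∉ M ∧
      ∀ u ∈ M, u ^ 2 = 1 → u ≠ 1 → u = w := by
  have : Fact (Nat.Prime 2) := ⟨Nat.prime_two⟩
  have hTp : IsPGroup 2 T := IsPGroup.of_card (n := 4) (by rw [hT]; norm_num)
  have : Nontrivial T := Finite.one_lt_card_iff_nontrivial.mp (by rw [hT]; norm_num)
  have := hTp.center_nontrivial
  set L := centralizer ({z} : Set T) with hL
  obtain ⟨w', hw'⟩ := exists_prime_orderOf_dvd_card' (G := center T) 2 (by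
    obtain ⟨k, hk⟩ := IsPGroup.iff_card.mp (hTp.to_subgroup (center T))
    rw [hk]
    refine dvd_pow_self 2 fun e => ?_
    rw [e, pow_zero] at hk
    have := Finite.one_lt_card (α := center T)
    omega)
  set w : T := (w' : T) with hwdef
  have hwZ : w ∈ center T := w'.2
  have hwo : orderOf w = 2 := by rw [hwdef, Subgroup.orderOf_coe, hw']
  have hw1 : w ≠ 1 := fun e => by rw [e, orderOf_one] at hwo; omega
  have hww : w * w = 1 := by
    rw [← pow_two]; exact (congrArg (w ^ ·) hwo).symm.trans (pow_orderOf_eq_one w)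
  have hzz : z * z = 1 := by rw [← pow_two]; exact hz
  have hwc : ∀ g : T, g * w = w * g := fun g => mem_center_iff.mp hwZ g
  have hwcj : ∀ g : T, g * w * g⁻¹ = w := fun g => by rw [hwc g, mul_inv_cancel_right]
  have hzT : z ∉ center T := by
    intro h
    have : L = ⊤ := top_le_iff.mp fun g _ => mem_centralizer_singleton_iff.mpr (mem_center_iff.mp h g)
    rw [this, card_top, hT] at hC
    omega
  have hzw : z ≠ w := fun e => hzT (e ▸ hwZ)
  have hwL : w ∈ L := mem_centralizer_singleton_iff.mpr (hwc z).symm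
  have hzL : z ∈ L := mem_centralizer_singleton_iff.mpr rfl
  -- the four elements of `L`
  have hLmem : ∀ g ∈ L, g = 1 ∨ g = z ∨ g = w ∨ g = z * w := by
    classical
    have : Fintype L := Fintype.ofFinite _
    intro g hg
    by_contra! hne
    obtain ⟨n1, n2, n3, n4⟩ := hne
    let f : Fin 5 → L := ![1, ⟨z, hzL⟩, ⟨w, hwL⟩, ⟨z * w, mul_mem hzL hwL⟩, ⟨g, hg⟩]
    have hzw1 : z * w ≠ 1 := fun e => hzw (eq_of_mul_inv_eq_one (by
      rwa [inv_eq_of_mul_eq_one_right hww]))
    have hf : Function.Injective f := by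
      intro a b hab
      fin_cases a <;> fin_cases b <;> first
        | rfl
        | (exfalso; simp [f, Subtype.ext_iff, hz1, hw1, hzw, hzw.symm, hzw1, Ne.symm hz1, Ne.symm hw1,
            Ne.symm hzw1, n1, n2, n3, n4, Ne.symm n1, Ne.symm n2, Ne.symm n3, Ne.symm n4] at hab)
    have := Nat.card_le_card_of_injective f hf
    rw [hC, Nat.card_fin] at this
    omega
  -- an element `x` outside `L` normalising it
  obtain ⟨x₀, hx₀N, hx₀L⟩ := SetLike.exists_of_lt (Group.normalizerCondition_of_isNilpotent
    (H := L) (h := hTp.isNilpotent) (lt_top_iff_ne_top.mpr fun e => by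
      rw [e, card_top, hT] at hC; omega))
  have hconj : x₀ * z * x₀⁻¹ = z * w := by
    have h1 : x₀ * z * x₀⁻¹ ∈ L := (mem_normalizer_iff.mp hx₀N z).mp hzL
    rcases hLmem _ h1 with e | e | e | e
    · exact absurd (conj_eq_one_iff.mp e) hz1
    · exact absurd (mem_centralizer_singleton_iff.mpr (mul_inv_eq_iff_eq_mul.mp e)) hx₀L
    · exfalso
      apply hzw
      calc z = x₀⁻¹ * (x₀ * z * x₀⁻¹) * x₀ := by group
        _ = w := by rw [e, mul_assoc, ← hwc, inv_mul_cancel_left]
    · exact e
  have hconj2 : ∀ g : T, g * z * g⁻¹ = z * w → (g * g) * z * (g * g)⁻¹ = z := fun g hg => by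
    calc (g * g) * z * (g * g)⁻¹ = g * (g * z * g⁻¹) * g⁻¹ := by group
      _ = (g * z * g⁻¹) * (g * w * g⁻¹) := by nth_rw 1 [hg]; group
      _ = z * w * w := by rw [hg, hwcj]
      _ = z := by rw [mul_assoc, hww, mul_one]
  -- choose `x` with square `w`
  obtain ⟨x, hxz, hxx⟩ : ∃ x, x * z * x⁻¹ = z * w ∧ x * x = w := by
    have h2 : x₀ * x₀ ∈ L := mem_centralizer_singleton_iff.mpr
      (mul_inv_eq_iff_eq_mul.mp (hconj2 x₀ hconj))
    have h3 : x₀ * (x₀ * x₀) * x₀⁻¹ = x₀ * x₀ := by group
    have hsq : x₀ * x₀ = 1 ∨ x₀ * x₀ = w := by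
      rcases hLmem _ h2 with e | e | e | e
      · exact Or.inl e
      · rw [e, hconj] at h3
        exact absurd (mul_eq_left.mp h3) hw1
      · exact Or.inr e
      · rw [e, show x₀ * (z * w) * x₀⁻¹ = (x₀ * z * x₀⁻¹) * (x₀ * w * x₀⁻¹) by group, hconj,
          hwcj, mul_assoc, hww, mul_one] at h3
        exact absurd h3.symm (fun e' => hw1 (mul_eq_left.mp e'))
    rcases hsq with e | e
    · refine ⟨x₀ * z, ?_, ?_⟩
      · rw [mul_inv_rev, show x₀ * z * z * (z⁻¹ * x₀⁻¹) = x₀ * z * x₀⁻¹ by group]
        exact hconj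
      · calc x₀ * z * (x₀ * z) = (x₀ * z * x₀⁻¹) * (x₀ * x₀) * z := by group
          _ = z * w * z := by rw [hconj, e, mul_one]
          _ = w := by rw [mul_assoc, ← hwc z, ← mul_assoc, hzz, one_mul]
    · exact ⟨x₀, hconj, e⟩
  have hxz' : z * x * z = x * w := by
    have h1 : x * z = z * w * x := mul_inv_eq_iff_eq_mul.mp hxz
    calc z * x * z = z * (x * z) := mul_assoc _ _ _
      _ = (z * z) * (w * x) := by rw [h1]; simp only [mul_assoc]
      _ = x * w := by rw [hzz, one_mul, hwc]
  -- the centraliser of `x` has index 2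
  set M := centralizer ({x} : Set T) with hM
  have hzM : z ∉ M := by
    intro h
    rw [mem_centralizer_singleton_iff] at h
    have : x * z * x⁻¹ = z := by rw [← h, mul_inv_cancel_right]
    rw [hxz] at this
    exact hw1 (mul_eq_left.mp this)
  have hx4 : ∀ g : T, g * x * g⁻¹ = x ∨ g * x * g⁻¹ = x * w := by
    -- the conjugates of `x` are `x` and `x⁻¹`
    set X := L ⊔ zpowers x with hX
    have hLN : zpowers x ≤ normalizer (L : Set T) := by
      rw [zpowers_le]
      refine mem_normalizer_iff.mpr fun g => ?_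
      have key : ∀ y : T, y * z * y⁻¹ = z * w → ∀ g ∈ L, y * g * y⁻¹ ∈ L := by
        intro y hy g hg
        rcases hLmem g hg with e | e | e | e <;> rw [e]
        · simp
        · rw [hy]; exact mul_mem hzL hwL
        · rw [hwcj]; exact hwL
        · rw [show y * (z * w) * y⁻¹ = (y * z * y⁻¹) * (y * w * y⁻¹) by group, hy, hwcj, mul_assoc, hww, mul_one]
          exact hzL
      refine ⟨key x hxz g, fun hg => ?_⟩
      have hxi : x⁻¹ * z * x⁻¹⁻¹ = z * w := by
        have h5 := hconj2 x hxz
        calc x⁻¹ * z * x⁻¹⁻¹ = x⁻¹ * ((x * x) * z * (x * x)⁻¹) * x := by rw [h5, inv_inv]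
          _ = x * z * x⁻¹ := by group
          _ = z * w := hxz
      simpa [mul_assoc] using key x⁻¹ hxi _ hg
    have hXc : Nat.card X = 8 := by
      have hxL : x ∉ L := fun h => by
        rw [hL, mem_centralizer_singleton_iff] at h
        rw [h, mul_inv_cancel_right] at hxz
        exact hw1 (mul_eq_left.mp hxz.symm)
      have h4 : zpowers x ⊓ L ≤ zpowers w := by
        rintro g ⟨hg, hgL⟩
        obtain ⟨n, rfl⟩ := mem_zpowers_iff.mp hg
        rcases Int.even_or_odd' n with ⟨m, rfl | rfl⟩
        · rw [zpow_mul, zpow_two, hxx]; exact zpow_mem (mem_zpowers w) m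
        · exfalso
          apply hxL
          rw [zpow_add, zpow_mul, zpow_two, hxx, zpow_one] at hgL
          exact (mul_mem_cancel_left (zpow_mem hwL m)).mp hgL
      have hX1 : (X : Set T) = (L : Set T) * (zpowers x : Set T) :=
        coe_mul_of_right_le_normalizer_left L (zpowers x) hLN
      have hle : Nat.card X ≤ 8 := by
        have hsub : (X : Set T) ⊆ (L : Set T) ∪ (fun g => g * x) '' (L : Set T) := by
          rw [hX1]
          rintro _ ⟨l, hl, g, hg, rfl⟩
          obtain ⟨n, rfl⟩ := mem_zpowers_iff.mp hg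
          rcases Int.even_or_odd' n with ⟨m, rfl | rfl⟩
          · left
            show l * x ^ (2 * m) ∈ L
            rw [zpow_mul, zpow_two, hxx]
            exact mul_mem hl (zpow_mem hwL m)
          · right
            refine ⟨l * w ^ m, mul_mem hl (zpow_mem hwL m), ?_⟩
            show l * w ^ m * x = l * x ^ (2 * m + 1)
            rw [zpow_add, zpow_mul, zpow_two, hxx, zpow_one, mul_assoc]
        calc Nat.card X = (X : Set T).ncard := (Nat.card_coe_set_eq _)
          _ ≤ ((L : Set T) ∪ (fun g => g * x) '' (L : Set T)).ncard :=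
              Set.ncard_le_ncard hsub (Set.toFinite _)
          _ ≤ (L : Set T).ncard + ((fun g => g * x) '' (L : Set T)).ncard := Set.ncard_union_le _ _
          _ ≤ 4 + 4 := by
              refine Nat.add_le_add (le_of_eq ?_) ((Set.ncard_image_le (Set.toFinite _)).trans (le_of_eq ?_))
              all_goals rw [← Nat.card_coe_set_eq]; exact hC
      have hdvd : Nat.card L ∣ Nat.card X := card_dvd_of_le le_sup_left
      rw [hC] at hdvd
      have hne : Nat.card X ≠ 4 := fun e =>
        hxL ((eq_of_le_of_card_ge (le_sup_left : L ≤ X) (by rw [e, hC])).symm ▸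
          (le_sup_right : zpowers x ≤ X) (mem_zpowers x))
      have hd16 : Nat.card X ∣ 16 := hT ▸ card_subgroup_dvd_card X
      obtain ⟨t, ht⟩ := hdvd
      rw [ht] at hle hne hd16 ⊢
      have ht2 : t ≤ 2 := by omega
      interval_cases t <;> omega
    have hXn : X.Normal := by
      apply normal_of_index_eq_two
      have := X.card_mul_index
      rw [hXc, hT] at this
      omega
    intro g
    have hmem : g * x * g⁻¹ ∈ X := hXn.conj_mem x (le_sup_right (a := L) (mem_zpowers x)) g
    rw [← SetLike.mem_coe, hX, coe_mul_of_right_le_normalizer_left L (zpowers x) hLN] at hmem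
    obtain ⟨l, hl, y, hy, hly⟩ := hmem
    obtain ⟨n, rfl⟩ := mem_zpowers_iff.mp hy
    have hsqn : g * x * g⁻¹ * (g * x * g⁻¹) = w := by
      rw [show g * x * g⁻¹ * (g * x * g⁻¹) = g * (x * x) * g⁻¹ by group, hxx, hwcj]
    replace hly : l * x ^ n = g * x * g⁻¹ := hly
    rw [← hly] at hsqn ⊢
    have hwm : ∀ m : ℤ, w ^ m = 1 ∨ w ^ m = w := fun m => by
      rcases Int.even_or_odd' m with ⟨k, rfl | rfl⟩
      · left; rw [zpow_mul, zpow_two, hww, one_zpow]
      · right; rw [zpow_add, zpow_mul, zpow_two, hww, one_zpow, one_mul, zpow_one]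
    obtain ⟨l', hl', e | e⟩ : ∃ l' ∈ L, l * x ^ n = l' ∨ l * x ^ n = l' * x := by
      rcases Int.even_or_odd' n with ⟨m, rfl | rfl⟩
      · exact ⟨l * w ^ m, mul_mem hl (zpow_mem hwL m), Or.inl (by rw [zpow_mul, zpow_two, hxx])⟩
      · exact ⟨l * w ^ m, mul_mem hl (zpow_mem hwL m), Or.inr (by
          rw [zpow_add, zpow_mul, zpow_two, hxx, zpow_one, mul_assoc])⟩
    · exfalso
      rw [e] at hsqn
      rcases hLmem l' hl' with c | c | c | c <;> rw [c] at hsqn
      · exact hw1 (by simpa using hsqn.symm)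
      · exact hw1 (hsqn.symm.trans hzz)
      · exact hw1 (hsqn.symm.trans hww)
      · rw [show z * w * (z * w) = z * (w * z) * w by group, ← hwc z, ← mul_assoc z z, hzz, one_mul,
          hww] at hsqn
        exact hw1 hsqn.symm
    · rw [e] at hsqn ⊢
      have hzx : z * x * (z * x) = 1 := by
        rw [show z * x * (z * x) = (z * x * z) * x by group, hxz', mul_assoc, ← hwc x, ← mul_assoc,
          hxx, hww]
      rcases hLmem l' hl' with c | c | c | c <;> rw [c] at hsqn ⊢
      · exact Or.inl (one_mul x)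
      · exact absurd (hzx.symm.trans hsqn).symm hw1
      · exact Or.inr (hwc x).symm
      · refine absurd ?_ hw1
        calc w = z * w * x * (z * w * x) := hsqn.symm
          _ = (w * w) * (z * x * (z * x)) := by
            rw [show z * w * x = w * (z * x) by rw [hwc z, mul_assoc],
              (show Commute (z * x) w from hwc _).mul_mul_mul_comm]
          _ = 1 := by rw [hww, hzx, one_mul]
  have hMidx : M.index = 2 := by
    rw [index_eq_two_iff]
    refine ⟨z, fun g => ?_⟩
    have hmem : ∀ a : T, a ∈ M ↔ a * x * a⁻¹ = x := fun a => by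
      rw [hM, mem_centralizer_singleton_iff, mul_inv_eq_iff_eq_mul]
    rw [hmem, hmem]
    have hz3 : g * z * x * (g * z)⁻¹ = g * x * g⁻¹ * w := by
      rw [show g * z * x * (g * z)⁻¹ = g * (z * x * z⁻¹) * g⁻¹ by group,
        inv_eq_of_mul_eq_one_right hzz, hxz', show g * (x * w) * g⁻¹ = g * x * g⁻¹ * (g * w * g⁻¹) by group,
        hwcj]
    rcases hx4 g with e | e
    · right
      refine ⟨e, fun h => ?_⟩
      rw [hz3, e] at h
      exact hw1 (mul_eq_left.mp h)
    · left
      refine ⟨?_, fun h => hw1 (mul_eq_left.mp (e.symm.trans h))⟩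
      rw [hz3, e, mul_assoc, hww, mul_one]
  refine ⟨w, M, hwZ, hw1, hMidx, hzM, fun u hu hu2 hu1 => ?_⟩
  by_contra huw
  have huu : u * u = 1 := by rw [← pow_two]; exact hu2
  have hux : u * x = x * u := mem_centralizer_singleton_iff.mp hu
  have hxM : x ∈ M := mem_centralizer_self' x
  have hMn : M.Normal := normal_of_index_eq_two hMidx
  have hzu : z * u * z ∈ M := by
    have := hMn.conj_mem u hu z
    rwa [inv_eq_of_mul_eq_one_right hzz] at this
  have hMc : Nat.card M = 8 := by
    have := M.card_mul_index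
    rw [hMidx, hT] at this
    omega
  -- `M = ⟨x, u⟩`
  have hMmem : ∀ v ∈ M, v * v = 1 → v = 1 ∨ v = w ∨ v = u ∨ v = u * w := by
    classical
    have : Fintype M := Fintype.ofFinite _
    have hxo : x ≠ 1 := fun e => hw1 (by rw [e, one_mul] at hxx; exact hxx.symm)
    let f : Fin 8 → M := fun i => ⟨u ^ ((i : ℕ) / 4) * x ^ ((i : ℕ) % 4),
      mul_mem (pow_mem hu _) (pow_mem hxM _)⟩
    have hx2 : x ^ 2 = w := by rw [pow_two, hxx]
    have hx4' : x ^ 4 = 1 := by rw [show 4 = 2 * 2 from rfl, pow_mul, hx2, pow_two, hww]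
    have hxord : orderOf x = 4 := orderOf_eq_prime_pow (p := 2) (n := 1)
      (by rw [pow_one, hx2]; exact hw1) hx4'
    have huX : u ∉ zpowers x := by
      intro h
      obtain ⟨n, hn⟩ := mem_zpowers_iff.mp h
      rcases Int.even_or_odd' n with ⟨m, rfl | rfl⟩
      · rw [zpow_mul, zpow_two, hxx] at hn
        rcases Int.even_or_odd' m with ⟨k, rfl | rfl⟩
        · rw [zpow_mul, zpow_two, hww, one_zpow] at hn; exact hu1 hn.symm
        · rw [zpow_add, zpow_mul, zpow_two, hww, one_zpow, one_mul, zpow_one] at hn; exact huw hn.symm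
      · rw [← hn, ← zpow_add, show (2 * m + 1) + (2 * m + 1) = 4 * m + 2 by ring, zpow_add, zpow_mul,
          show (4 : ℤ) = ((4 : ℕ) : ℤ) from rfl, zpow_natCast, hx4', one_zpow, one_mul, zpow_two,
          hxx] at huu
        exact hw1 huu
    have hf : Function.Bijective f := by
      refine (Fintype.bijective_iff_injective_and_card f).mpr ⟨fun i j hij => ?_, by
        rw [Fintype.card_fin, ← Nat.card_eq_fintype_card, hMc]⟩
      have h1 : u ^ ((i : ℕ) / 4) * x ^ ((i : ℕ) % 4) = u ^ ((j : ℕ) / 4) * x ^ ((j : ℕ) % 4) :=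
        congrArg Subtype.val hij
      have hi := i.2
      have hj := j.2
      rcases (show (i : ℕ) / 4 = 0 ∨ (i : ℕ) / 4 = 1 by omega) with a | a <;>
        rcases (show (j : ℕ) / 4 = 0 ∨ (j : ℕ) / 4 = 1 by omega) with b | b <;>
        simp only [a, b, pow_zero, pow_one, one_mul] at h1
      · rw [pow_eq_pow_iff_modEq, hxord] at h1
        unfold Nat.ModEq at h1
        exact Fin.ext (by omega)
      · exfalso
        apply huX
        rw [eq_mul_inv_of_mul_eq h1.symm]
        exact mul_mem (pow_mem (mem_zpowers x) _) (inv_mem (pow_mem (mem_zpowers x) _))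
      · exfalso
        apply huX
        rw [eq_mul_inv_of_mul_eq h1]
        exact mul_mem (pow_mem (mem_zpowers x) _) (inv_mem (pow_mem (mem_zpowers x) _))
      · rw [mul_right_inj, pow_eq_pow_iff_modEq, hxord] at h1
        unfold Nat.ModEq at h1
        exact Fin.ext (by omega)
    intro v hv hvv
    obtain ⟨i, hi⟩ := hf.2 ⟨v, hv⟩
    have hiv : u ^ ((i : ℕ) / 4) * x ^ ((i : ℕ) % 4) = v := congrArg Subtype.val hi
    have hvv' : x ^ (2 * ((i : ℕ) % 4)) = 1 := by
      have hc : Commute (u ^ ((i : ℕ) / 4)) (x ^ ((i : ℕ) % 4)) := (show Commute u x from hux).pow_pow _ _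
      rw [← hiv, ← pow_two, hc.mul_pow, ← pow_mul, ← pow_mul, mul_comm ((i : ℕ) / 4), pow_mul,
        hu2, one_pow, one_mul, mul_comm] at hvv
      exact hvv
    have hdvd := orderOf_dvd_of_pow_eq_one hvv'
    rw [hxord] at hdvd
    have hi' := i.2
    rcases (show (i : ℕ) / 4 = 0 ∨ (i : ℕ) / 4 = 1 by omega) with a | a <;>
      rcases (show (i : ℕ) % 4 = 0 ∨ (i : ℕ) % 4 = 2 by omega) with b | b <;>
      simp only [a, b, pow_zero, pow_one, one_mul, mul_one, hx2] at hiv
    · exact Or.inl hiv.symm
    · exact Or.inr (Or.inl hiv.symm)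
    · exact Or.inr (Or.inr (Or.inl hiv.symm))
    · exact Or.inr (Or.inr (Or.inr hiv.symm))
  have hzu2 : z * u * z * (z * u * z) = 1 := by
    rw [show z * u * z * (z * u * z) = z * u * (z * z) * u * z by group, hzz, mul_one,
      mul_assoc z u u, huu, mul_one, hzz]
  rcases hMmem _ hzu hzu2 with e | e | e | e
  · exact hu1 (by
      calc u = z * (z * u * z) * z := by
            rw [show z * (z * u * z) * z = (z * z) * u * (z * z) by group, hzz, one_mul, mul_one]
        _ = 1 := by rw [e, mul_one, hzz])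
  · exact huw (by
      calc u = z * (z * u * z) * z := by
            rw [show z * (z * u * z) * z = (z * z) * u * (z * z) by group, hzz, one_mul, mul_one]
        _ = w := by rw [e, hwc, mul_assoc, hzz, mul_one])
  · -- `u` centralises `z`
    have huL : u ∈ L := mem_centralizer_singleton_iff.mpr (by
      calc u * z = z * (z * u * z) := by
            rw [show z * (z * u * z) = (z * z) * (u * z) by group, hzz, one_mul]
        _ = z * u := by rw [e])
    rcases hLmem u huL with c | c | c | c
    · exact hu1 c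
    · exact hzM (c ▸ hu)
    · exact huw c
    · exact hzM (by
        have := mul_mem hu (mem_centralizer_singleton_iff.mpr (hwc x).symm : w ∈ M)
        rwa [c, mul_assoc, hww, mul_one] at this)
  · -- `u x` centralises `z`
    have huxL : u * x ∈ L := mem_centralizer_singleton_iff.mpr (by
      calc u * x * z = z * ((z * u * z) * (z * x * z)) := by
            rw [show z * (z * u * z * (z * x * z)) = (z * z) * u * (z * z) * (x * z) by group, hzz,
              one_mul, mul_one, mul_assoc]
        _ = z * (u * x) := by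
          rw [e, hxz', show u * w * (x * w) = u * (w * x) * w by group, ← hwc x,
            show u * (x * w) * w = u * x * (w * w) by group, hww, mul_one])
    have hux2 : u * x * (u * x) = w := by
      rw [show u * x * (u * x) = u * (x * u) * x by group, ← hux,
        show u * (u * x) * x = (u * u) * (x * x) by group, huu, hxx, one_mul]
    rcases hLmem _ huxL with c | c | c | c <;> rw [c] at hux2
    · exact hw1 (by simpa using hux2.symm)
    · exact hw1 (hux2.symm.trans hzz)
    · exact hw1 (hux2.symm.trans hww)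
    · rw [show z * w * (z * w) = z * (w * z) * w by group, ← hwc z, ← mul_assoc z z, hzz, one_mul,
        hww] at hux2
      exact hw1 hux2.symm
where
  mem_centralizer_self' {T : Type _} [Group T] (x : T) : x ∈ centralizer ({x} : Set T) :=
    mem_centralizer_singleton_iff.mpr rfl

variable {G : Type*} [Group G] [Finite G] [IsSimpleGroup G]

theorem false_of_small_centralizer (hG : ¬ IsMulCommutative G) [Fact (Nat.Prime 2)] (T : Sylow 2 G)
    (hT : Nat.card (T : Subgroup G) = 16) {z : G} (hz : orderOf z = 2) (hzT : z ∈ (T : Subgroup G))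
    (hC : Nat.card ↥((T : Subgroup G) ⊓ centralizer ({z} : Set G)) = 4)
    (h16 : ¬ 16 ∣ Nat.card (centralizer ({z} : Set G))) : False := by
  set z' : (T : Subgroup G) := ⟨z, hzT⟩
  have hzsq : z ^ 2 = 1 := (congrArg (z ^ ·) hz).symm.trans (pow_orderOf_eq_one z)
  have hC' : Nat.card (centralizer ({z'} : Set (T : Subgroup G))) = 4 := by
    rw [← hC, ← card_map_of_injective (T : Subgroup G).subtype_injective]
    congr 1
    refine congrArg (fun H : Subgroup G => ↥H) (le_antisymm ?_ ?_)
    · rintro _ ⟨g, hg, rfl⟩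
      exact ⟨g.2, mem_centralizer_singleton_iff.mpr
        (congrArg Subtype.val (mem_centralizer_singleton_iff.mp hg))⟩
    · rintro g ⟨hgT, hg⟩
      exact ⟨⟨g, hgT⟩, mem_centralizer_singleton_iff.mpr
        (Subtype.ext (mem_centralizer_singleton_iff.mp hg)), rfl⟩
  obtain ⟨w, M, hwZ, hw1, hM2, hzM, huniq⟩ := exists_index_two (T := (T : Subgroup G)) hT
    (z := z') (Subtype.ext hzsq) (fun e => by
      have e1 : z = 1 := congrArg Subtype.val e
      rw [e1, orderOf_one] at hz; omega) hC'
  have hrel : (M.map (T : Subgroup G).subtype).relIndex (T : Subgroup G) = 2 := by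
    rw [relIndex, subgroupOf, comap_map_eq_self_of_injective (T : Subgroup G).subtype_injective, hM2]
  rcases Cfsg.Agent.S0111.result T _ (map_subtype_le M) hrel z hz hzT (fun h => by
      obtain ⟨m, hm, e⟩ := h
      exact hzM ((show m = z' from Subtype.ext e) ▸ hm)) with ⟨N, hN, hN2, -⟩ | ⟨g, hg⟩
  · rcases hN.eq_bot_or_eq_top with e | e
    · rw [e, index_bot] at hN2
      exact hG (isMulCommutative_of_card_prime hN2)
    · rw [e, index_top] at hN2; omega
  · obtain ⟨m, hm, hmg⟩ := hg
    have hmg' : (m : G) = g * z * g⁻¹ := hmg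
    have hm2 : m ^ 2 = 1 := Subtype.ext (by
      rw [SubgroupClass.coe_pow, hmg', conj_pow, hzsq, mul_one, mul_inv_cancel]; rfl)
    have hm1 : m ≠ 1 := fun e => by
      rw [e] at hmg'
      have e1 : z = 1 := conj_eq_one_iff.mp hmg'.symm
      rw [e1, orderOf_one] at hz; omega
    have hmw := huniq m hm hm2 hm1
    apply h16
    rw [← hT]
    have hle : (T : Subgroup G).map (MulAut.conj g⁻¹).toMonoidHom ≤ centralizer ({z} : Set G) := by
      rintro _ ⟨t, ht, rfl⟩
      rw [mem_centralizer_singleton_iff]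
      show g⁻¹ * t * g⁻¹⁻¹ * z = z * (g⁻¹ * t * g⁻¹⁻¹)
      have hc : t * (m : G) = (m : G) * t :=
        congrArg Subtype.val (mem_center_iff.mp (hmw ▸ hwZ) ⟨t, ht⟩)
      rw [hmg'] at hc
      calc g⁻¹ * t * g⁻¹⁻¹ * z = g⁻¹ * (t * (g * z * g⁻¹)) * g := by group
        _ = g⁻¹ * ((g * z * g⁻¹) * t) * g := by rw [hc]
        _ = _ := by group
    have := card_dvd_of_le hle
    rwa [card_map_of_injective (MulAut.conj g⁻¹).injective] at this
where
  isMulCommutative_of_card_prime {H : Type _} [Group H] [Finite H] (h : Nat.card H = 2) :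
      IsMulCommutative H := by
    have : IsCyclic H := isCyclic_of_prime_card (p := 2) h
    infer_instance

end Cfsg.Agent.SmallOrders
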