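-- Transfer of an element with one relevant fixed coset.
--
-- * `false_of_single_fixed`: a simple group cannot have a transfer with a single non-trivial factor
import Cfsg.Agent.Lib.SmallOrders.Basic

set_option autoImplicit false

namespace Cfsg.Agent.SmallOrders

open Subgroup MulAction
open scoped commutatorElement

/-- If `k ∈ H` has non-trivial image and every other conjugate of a power of `k` that occurs in the
transfer has trivial image, the group is not simple. -/
theorem false_of_single_fixed {G : Type*} [Group G] [Finite G] [IsSimpleGroup G]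
    (hG : ¬ IsMulCommutative G) (H : Subgroup G) {A : Type*} [CommGroup A] (ψ : H →* A) (k : G)
    (hk : k ∈ H) (hψ : ψ ⟨k, hk⟩ ≠ 1)
    (hother : ∀ (g : G) (r : ℕ), 0 < r → k ^ r • (g : G ⧸ H) = (g : G ⧸ H) →
      (∀ i, 0 < i → i < r → k ^ i • (g : G ⧸ H) ≠ (g : G ⧸ H)) →
      (g : G ⧸ H) ≠ ((1 : G) : G ⧸ H) → ∀ hmem : g⁻¹ * k ^ r * g ∈ H, ψ ⟨_, hmem⟩ = 1) : False := by
  classical
  have : Fintype (G ⧸ H) := Fintype.ofFinite _
  have : Fintype (Quotient (orbitRel (zpowers k) (G ⧸ H))) := Fintype.ofFinite _
  set o : G ⧸ H := ((1 : G) : G ⧸ H) with ho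
  have hko : k • o = o := by
    rw [ho]
    show ((k * 1 : G) : G ⧸ H) = _
    rw [mul_one, QuotientGroup.eq, mul_one]
    exact inv_mem hk
  have htriv : MonoidHom.transfer ψ k = 1 := by
    have hperf : commutator G = ⊤ :=
      (inferInstance : (commutator G).Normal).eq_bot_or_eq_top.resolve_left fun h => hG ⟨⟨fun a b => by
        have : ⁅a, b⁆ ∈ commutator G := commutator_mem_commutator (mem_top a) (mem_top b)
        rw [h, mem_bot, commutatorElement_eq_one_iff_commute] at this
        exact this⟩⟩
    exact Abelianization.commutator_subset_ker (MonoidHom.transfer ψ) (hperf ▸ mem_top k)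
  rw [MonoidHom.transfer_eq_prod_quotient_orbitRel_zpowers_quot,
    Fintype.prod_eq_single (Quotient.mk'' o)] at htriv
  · set q : Quotient (orbitRel (zpowers k) (G ⧸ H)) := Quotient.mk'' o with hq
    have hqo : q.out = o := by
      obtain ⟨⟨u, hu⟩, hux⟩ := orbitRel_apply.mp (Quotient.exact (Quotient.out_eq q))
      obtain ⟨n, rfl⟩ := mem_zpowers_iff.mp hu
      rw [← hux]
      show k ^ n • o = o
      clear hux hu
      induction n with
      | zero => rw [zpow_zero, one_smul]
      | succ n ih => rw [zpow_add_one, mul_smul, hko, ih]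
      | pred n ih =>
        rw [zpow_sub_one, mul_smul, show k⁻¹ • o = o from inv_smul_eq_iff.mpr hko.symm, ih]
    have hper : Function.minimalPeriod (k • ·) q.out = 1 := by
      rw [hqo, Function.minimalPeriod_eq_one_iff_isFixedPt]
      exact hko
    have hout : q.out.out ∈ H := by
      have h1 : ((q.out.out : G) : G ⧸ H) = o := (Quotient.out_eq' q.out).trans hqo
      rw [ho, QuotientGroup.eq, mul_one] at h1
      exact inv_mem_iff.mp h1
    have e : (⟨q.out.out⁻¹ * k ^ Function.minimalPeriod (k • ·) q.out * q.out.out,
        QuotientGroup.out_conj_pow_minimalPeriod_mem H k q.out⟩ : H) =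
        (⟨q.out.out, hout⟩ : H)⁻¹ * ⟨k, hk⟩ * ⟨q.out.out, hout⟩ :=
      Subtype.ext (by simp [hper])
    rw [e, map_mul, map_mul, map_inv, mul_right_comm, inv_mul_cancel, one_mul] at htriv
    exact hψ htriv
  · intro q hq
    refine hother q.out.out _ (minimalPeriod_pos_of_finite k q.out) ?_ ?_ ?_ _
    · rw [show ((q.out.out : G) : G ⧸ H) = q.out from Quotient.out_eq' q.out]
      have h1 := Function.iterate_minimalPeriod (f := (k • ·)) (x := q.out)
      rw [smul_iterate] at h1
      exact h1
    · intro i hi hlt hfix
      rw [show ((q.out.out : G) : G ⧸ H) = q.out from Quotient.out_eq' q.out] at hfix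
      have hp : Function.IsPeriodicPt (k • ·) i q.out := by
        show (k • ·)^[i] q.out = q.out
        rw [smul_iterate]; exact hfix
      have := hp.minimalPeriod_le hi
      omega
    · rw [show ((q.out.out : G) : G ⧸ H) = q.out from Quotient.out_eq' q.out]
      intro he
      apply hq
      rw [← Quotient.out_eq q, he]
where
  minimalPeriod_pos_of_finite {G : Type _} [Group G] [Finite G] {α : Type _} [MulAction G α] (k : G)
      (x : α) : 0 < Function.minimalPeriod (k • ·) x := by
    apply Function.IsPeriodicPt.minimalPeriod_pos (orderOf_pos k)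
    show (k • ·)^[orderOf k] x = x
    rw [smul_iterate]
    show k ^ orderOf k • x = x
    rw [pow_orderOf_eq_one, one_smul]

end Cfsg.Agent.SmallOrders
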