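-- Klein four-subgroups and maximal subgroups of simple groups of order 168.
--
-- * `card_normalizer_klein`, `centralizer_klein`, `exists_klein_pair`, `not_conj_klein`
-- * `le_normalizer_cases`: a proper subgroup normalises a Sylow 7-subgroup or a Klein four-group
-- * `isCoatom_normalizer_klein`, `isCoatom_normalizer_seven`, `eq_normalizer_of_isCoatom`
import Cfsg.Agent.Lib.SmallOrders.Order168
import Cfsg.Agent.Lib.SmallOrders.Intersect

set_option autoImplicit false

namespace Cfsg.Agent.SmallOrders.S168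

open Subgroup
open scoped Pointwise

variable {G : Type*} [Group G]

theorem mul_self_of_klein (U : Subgroup G) [IsKleinFour U] {u : G} (hu : u ∈ U) : u * u = 1 :=
  congrArg Subtype.val (IsKleinFour.mul_self (⟨u, hu⟩ : U))

theorem commute_of_klein (U : Subgroup G) [IsKleinFour U] {u v : G} (hu : u ∈ U) (hv : v ∈ U) :
    u * v = v * u :=
  congrArg Subtype.val (IsKleinFour.isMulCommutative.is_comm.comm (⟨u, hu⟩ : U) ⟨v, hv⟩)

theorem card_klein (U : Subgroup G) [IsKleinFour U] : Nat.card U = 4 := IsKleinFour.card_four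

/-- The subgroup `{1, z, a, z a}` of two commuting involutions. -/
def fourGroup (z a : G) (hz : z * z = 1) (ha : a * a = 1) (hc : z * a = a * z) : Subgroup G where
  carrier := {1, z, a, z * a}
  one_mem' := by simp
  mul_mem' := by
    have h1 : ∀ w, z * (z * w) = w := fun w => by rw [← mul_assoc, hz, one_mul]
    have h2 : ∀ w, a * (a * w) = w := fun w => by rw [← mul_assoc, ha, one_mul]
    have h3 : ∀ w, a * (z * w) = z * (a * w) := fun w => by rw [← mul_assoc, ← hc, mul_assoc]
    intro u v hu hv
    simp only [Set.mem_insert_iff, Set.mem_singleton_iff] at hu hv ⊢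
    rcases hu with rfl | rfl | rfl | rfl <;> rcases hv with rfl | rfl | rfl | rfl <;>
      simp [mul_assoc, h1, h2, h3, hz, ha, ← hc]
  inv_mem' := by
    intro u hu
    simp only [Set.mem_insert_iff, Set.mem_singleton_iff] at hu ⊢
    have h1 : z⁻¹ = z := inv_eq_of_mul_eq_one_right hz
    have h2 : a⁻¹ = a := inv_eq_of_mul_eq_one_right ha
    rcases hu with rfl | rfl | rfl | rfl <;> simp [h1, h2, ← hc]

theorem isKleinFour_fourGroup (z a : G) (hz : z * z = 1) (ha : a * a = 1) (hc : z * a = a * z)
    (hz1 : z ≠ 1) (ha1 : a ≠ 1) (haz : a ≠ z) : IsKleinFour (fourGroup z a hz ha hc) := by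
  have hcard : Nat.card (fourGroup z a hz ha hc) = 4 := by
    show Nat.card ({1, z, a, z * a} : Set G) = 4
    have hza : z * a ≠ 1 := fun h => haz (by
      rw [← inv_eq_of_mul_eq_one_right h]; exact inv_eq_of_mul_eq_one_right hz)
    rw [Nat.card_coe_set_eq, Set.ncard_insert_of_notMem, Set.ncard_insert_of_notMem, Set.ncard_pair]
    · simpa using hz1
    · simp only [Set.mem_insert_iff, Set.mem_singleton_iff, not_or]
      exact ⟨haz.symm, fun h => ha1 (left_eq_mul.mp h)⟩
    · simp only [Set.mem_insert_iff, Set.mem_singleton_iff, not_or]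
      exact ⟨hz1.symm, ha1.symm, hza.symm⟩
  have : Finite (fourGroup z a hz ha hc) := Nat.finite_of_card_ne_zero (by omega)
  have : Nontrivial (fourGroup z a hz ha hc) := Finite.one_lt_card_iff_nontrivial.mp (by omega)
  refine ⟨hcard, (Monoid.exponent_eq_prime_iff Nat.prime_two).mpr fun x hx => ?_⟩
  refine orderOf_eq_prime_iff (hp := ⟨Nat.prime_two⟩) |>.mpr ⟨Subtype.ext ?_, hx⟩
  have h : (x : G) ∈ ({1, z, a, z * a} : Set G) := x.2
  simp only [Set.mem_insert_iff, Set.mem_singleton_iff] at h
  simp only [SubmonoidClass.coe_pow, OneMemClass.coe_one]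
  rw [pow_two]
  rcases h with h | h | h | h <;> rw [h]
  · simp
  · exact hz
  · exact ha
  · rw [mul_assoc, ← mul_assoc a z a, ← hc, mul_assoc z a a, ha, mul_one, hz]

variable [Finite G] [IsSimpleGroup G] [Fact (Nat.Prime 7)] [Fact (Nat.Prime 3)] [Fact (Nat.Prime 2)]

theorem exists_sylow_ge_klein (U : Subgroup G) [IsKleinFour U] :
    ∃ T : Sylow 2 G, U ≤ (T : Subgroup G) :=
  (IsPGroup.of_card (n := 2) (card_klein U)).exists_le_sylow

theorem le_normalizer_four (h : Nat.card G = 168) {U : Subgroup G} (hU : Nat.card U = 4)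
    {T : Sylow 2 G} (hUT : U ≤ (T : Subgroup G)) : (T : Subgroup G) ≤ normalizer (U : Set G) := by
  rw [← normal_subgroupOf_iff_le_normalizer hUT]
  apply normal_of_index_eq_two
  have := (U.subgroupOf (T : Subgroup G)).card_mul_index
  rw [Nat.card_congr (subgroupOfEquivOfLe hUT).toEquiv, hU, card_T h] at this
  omega

/-- A Sylow 2-subgroup has a single central non-identity element. -/
theorem central_unique (h : Nat.card G = 168) (T : Sylow 2 G) {a b : G}
    (ha : a ∈ (T : Subgroup G)) (hb : b ∈ (T : Subgroup G)) (ha1 : a ≠ 1) (hb1 : b ≠ 1)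
    (hac : ∀ t ∈ (T : Subgroup G), t * a = a * t) (hbc : ∀ t ∈ (T : Subgroup G), t * b = b * t) :
    a = b := by
  by_contra hab
  apply not_isMulCommutative_two h T (normalizer_two h T)
  set Z := center (T : Subgroup G)
  have ha' : (⟨a, ha⟩ : (T : Subgroup G)) ∈ Z := mem_center_iff.mpr fun t => Subtype.ext (hac t t.2)
  have hb' : (⟨b, hb⟩ : (T : Subgroup G)) ∈ Z := mem_center_iff.mpr fun t => Subtype.ext (hbc t t.2)
  have h3 : 3 ≤ Nat.card Z := by
    have hn : ({(1 : (T : Subgroup G)), ⟨a, ha⟩, ⟨b, hb⟩} : Set (T : Subgroup G)).ncard = 3 := by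
      rw [Set.ncard_insert_of_notMem, Set.ncard_pair]
      · simpa [Subtype.ext_iff] using hab
      · simp [Subtype.ext_iff, ha1.symm, hb1.symm]
    rw [← hn]
    refine Set.ncard_le_ncard ?_
    simp [Set.insert_subset_iff, ha', hb', Z.one_mem]
  have hd : Nat.card Z ∣ 8 := card_T h T ▸ card_subgroup_dvd_card Z
  have h4 : Z.index ∣ 2 := by
    have h5 := Z.card_mul_index
    rw [card_T h T] at h5
    have h6 := Nat.le_of_dvd (by norm_num) hd
    have h7 : Z.index ≤ 2 := by nlinarith
    have h8 : 0 < Z.index := Nat.pos_of_ne_zero index_ne_zero_of_finite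
    interval_cases Z.index <;> norm_num
  have hcyc : IsCyclic ((T : Subgroup G) ⧸ Z) := by
    rcases (Nat.dvd_prime Nat.prime_two).mp h4 with e | e <;> rw [Subgroup.index] at e
    · have : Subsingleton ((T : Subgroup G) ⧸ Z) := Finite.card_le_one_iff_subsingleton.mp e.le
      infer_instance
    · exact isCyclic_of_prime_card e
  exact ⟨⟨commutative_of_cyclic_center_quotient (QuotientGroup.mk' Z) (QuotientGroup.ker_mk' Z).le⟩⟩

theorem exists_central_mem (h : Nat.card G = 168) {U : Subgroup G} (hU : Nat.card U = 4)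
    {T : Sylow 2 G} (hUT : U ≤ (T : Subgroup G)) :
    ∃ w ∈ U, w ≠ 1 ∧ ∀ t ∈ (T : Subgroup G), t * w = w * t := by
  set U' := U.subgroupOf (T : Subgroup G)
  have hn : U'.Normal := normal_subgroupOf_of_le_normalizer (le_normalizer_four h hU hUT)
  let _ : MulAction (T : Subgroup G) U' := MulAction.compHom U' (MulAut.conjNormal (H := U'))
  have hcard : 2 ∣ Nat.card U' := by
    rw [Nat.card_congr (subgroupOfEquivOfLe hUT).toEquiv, hU]; norm_num
  obtain ⟨w, hw, hw1⟩ := T.isPGroup'.exists_fixed_point_of_prime_dvd_card_of_fixed_point U'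
    hcard (a := 1) (fun t => map_one (MulAut.conjNormal (H := U') t))
  refine ⟨((w : (T : Subgroup G)) : G), w.2, fun h1 => hw1 (Subtype.ext (Subtype.ext h1.symm)), ?_⟩
  intro t ht
  have h2 : (MulAut.conjNormal (H := U') ⟨t, ht⟩) w = w := hw ⟨t, ht⟩
  have h3 : t * ((w : (T : Subgroup G)) : G) * t⁻¹ = ((w : (T : Subgroup G)) : G) := by
    have := congrArg Subtype.val (congrArg Subtype.val h2)
    simpa [MulAut.conjNormal_apply] using this
  exact mul_inv_eq_iff_eq_mul.mp h3

theorem centralizer_klein (h : Nat.card G = 168) (U : Subgroup G) [IsKleinFour U] {g : G}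
    (hg : ∀ u ∈ U, g * u = u * g) : g ∈ U := by
  obtain ⟨T, hUT⟩ := exists_sylow_ge_klein U
  obtain ⟨w, hwU, hw1, hwc⟩ := exists_central_mem h (card_klein U) hUT
  have hgT : g ∈ (T : Subgroup G) := by
    rw [← centralizer_center_two h T (hUT hwU) hw1 hwc]
    exact mem_centralizer_singleton_iff.mpr (hg w hwU)
  by_contra hgU
  set C := (centralizer (U : Set G) ⊓ (T : Subgroup G))
  have hUC : U < C := by
    refine lt_of_le_of_ne (le_inf (fun u hu v hv => commute_of_klein U hv hu) hUT) fun he => hgU ?_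
    rw [he]
    exact ⟨fun u hu => (hg u hu).symm, hgT⟩
  have hCT : C = (T : Subgroup G) := by
    refine eq_of_le_of_card_ge inf_le_right ?_
    rw [card_T h]
    have h1 : Nat.card C ∣ 8 := card_T h T ▸ card_dvd_of_le inf_le_right
    have h2 : 4 < Nat.card C := card_klein U ▸ lt_of_le_of_ne (card_le_of_le hUC.le)
      (fun he => hUC.ne (eq_of_le_of_card_ge hUC.le he.ge))
    have h3 := Nat.le_of_dvd (by norm_num) h1
    interval_cases hc : Nat.card C <;> omega
  have hall : ∀ u ∈ U, ∀ t ∈ (T : Subgroup G), t * u = u * t := fun u hu t ht =>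
    ((hCT.ge ht).1 u hu).symm
  have : Nontrivial U := Finite.one_lt_card_iff_nontrivial.mp (by rw [card_klein U]; norm_num)
  have hsub : ∀ u ∈ U, u ≠ 1 → u = w := fun u hu hu1 =>
    central_unique h T (hUT hu) (hUT hwU) hu1 hw1 (hall u hu) hwc
  have h2 : (U : Set G).ncard ≤ ({1, w} : Set G).ncard := by
    refine Set.ncard_le_ncard fun u hu => ?_
    by_cases hu1 : u = 1
    · simp [hu1]
    · simp [hsub u hu hu1]
  rw [← Nat.card_coe_set_eq, Set.ncard_pair hw1.symm] at h2
  have := card_klein U
  change Nat.card U ≤ 2 at h2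
  omega

theorem exists_two_sylows (h : Nat.card G = 168) (U : Subgroup G) [IsKleinFour U] :
    ∃ S T : Sylow 2 G, S ≠ T ∧ U ≤ (S : Subgroup G) ∧ U ≤ (T : Subgroup G) := by
  obtain ⟨T, hUT⟩ := exists_sylow_ge_klein U
  obtain ⟨w, hwU, hw1, hwc⟩ := exists_central_mem h (card_klein U) hUT
  obtain ⟨u, huU, hu⟩ : ∃ u ∈ U, u ≠ 1 ∧ u ≠ w := by
    by_contra! hall
    have h2 : (U : Set G).ncard ≤ ({1, w} : Set G).ncard := by
      refine Set.ncard_le_ncard fun u hu => ?_
      by_cases hu1 : u = 1
      · simp [hu1]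
      · simp [hall u hu hu1]
    rw [← Nat.card_coe_set_eq, Set.ncard_pair hw1.symm] at h2
    have := card_klein U
    change Nat.card U ≤ 2 at h2
    omega
  have hu2 : orderOf u = 2 :=
    orderOf_eq_prime ((pow_two u).trans (mul_self_of_klein U huU)) hu.1
  obtain ⟨S, huS, huc⟩ := (counting h).2.2.2 u hu2
  refine ⟨S, T, fun he => hu.2 ?_, fun v hv => ?_, hUT⟩
  · subst he
    exact central_unique h _ huS (hUT hwU) hu.1 hw1 huc hwc
  · rw [← centralizer_center_two h S huS hu.1 huc, mem_centralizer_singleton_iff]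
    exact commute_of_klein U hv huU

theorem normalizer_klein_ne_top (U : Subgroup G) [IsKleinFour U] (h : Nat.card G = 168) :
    normalizer (U : Set G) ≠ ⊤ := fun ht => by
  rcases (normalizer_eq_top_iff.mp ht).eq_bot_or_eq_top with e | e
  · have := card_klein U; rw [e, card_bot] at this; omega
  · have := card_klein U; rw [e, card_top, h] at this; omega

theorem card_normalizer_klein (h : Nat.card G = 168) (U : Subgroup G) [IsKleinFour U] :
    Nat.card (normalizer (U : Set G)) = 24 := by
  set N := normalizer (U : Set G)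
  obtain ⟨S, T, hne, hS, hT⟩ := exists_two_sylows h U
  have hSN := le_normalizer_four h (card_klein U) hS
  have hTN := le_normalizer_four h (card_klein U) hT
  have h1 : 8 ∣ Nat.card N := card_T h S ▸ card_dvd_of_le hSN
  have h2 := card_le h (normalizer_klein_ne_top U h)
  have h3 : Nat.card N ∣ 168 := h ▸ card_subgroup_dvd_card N
  have h4 : Nat.card N ≠ 8 := fun h8 => hne <| Sylow.ext <|
    (eq_of_le_of_card_ge hSN (by rw [card_T h, h8])).trans
      (eq_of_le_of_card_ge hTN (by rw [card_T h, h8])).symm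
  have h5 : 0 < Nat.card N := Nat.card_pos
  interval_cases hc : Nat.card N <;> omega

theorem no_six (h : Nat.card G = 168) (H : Subgroup G) : ∀ g : H, orderOf g ≠ 6 := fun g hg => by
  have := orderOf_cases h (g : G)
  rw [Subgroup.orderOf_coe, hg] at this
  omega

theorem le_of_le_normalizer {V : Subgroup G} (hV : IsPGroup 2 V) {T : Sylow 2 G}
    (hT : (T : Subgroup G) ≤ normalizer (V : Set G)) : V ≤ (T : Subgroup G) :=
  sup_eq_right.mp (T.is_maximal' (hV.to_sup_of_normal_left' T.isPGroup' hT) le_sup_right)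

theorem klein_eq_of_normalizer_eq (h : Nat.card G = 168) (U V : Subgroup G) [IsKleinFour U]
    [IsKleinFour V] (he : normalizer (U : Set G) = normalizer (V : Set G)) : U = V := by
  obtain ⟨S, T, hne, hS, hT⟩ := exists_two_sylows h U
  have hV : V ≤ (S : Subgroup G) ⊓ T := le_inf
    (le_of_le_normalizer (IsPGroup.of_card (n := 2) (card_klein V))
      (he ▸ le_normalizer_four h (card_klein U) hS))
    (le_of_le_normalizer (IsPGroup.of_card (n := 2) (card_klein V))
      (he ▸ le_normalizer_four h (card_klein U) hT))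
  have hle : Nat.card ((S : Subgroup G) ⊓ T : Subgroup G) ≤ 4 := by
    have hd : Nat.card ((S : Subgroup G) ⊓ T : Subgroup G) ∣ 8 :=
      card_T h S ▸ card_dvd_of_le inf_le_left
    have hlt : Nat.card ((S : Subgroup G) ⊓ T : Subgroup G) ≠ 8 := fun h8 =>
      (inf_lt_left hne).ne (eq_of_le_of_card_ge inf_le_left (by rw [card_T h, h8]))
    have := Nat.le_of_dvd (by norm_num) hd
    interval_cases hc : Nat.card ((S : Subgroup G) ⊓ T : Subgroup G) <;> omega
  exact (eq_of_le_of_card_ge (le_inf hS hT) (by rw [card_klein U]; exact hle)).trans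
    (eq_of_le_of_card_ge hV (by rw [card_klein V]; exact hle)).symm

theorem exists_klein_pair (h : Nat.card G = 168) (T : Sylow 2 G) :
    ∃ U W : Subgroup G, IsKleinFour U ∧ IsKleinFour W ∧ U ≤ (T : Subgroup G) ∧
      W ≤ (T : Subgroup G) ∧ U ≠ W ∧
      ∀ V : Subgroup G, V ≤ (T : Subgroup G) → IsKleinFour V → V = U ∨ V = W := by
  obtain ⟨y, hy, hy4⟩ := exists_four h T
  obtain ⟨-, -, huniq, -⟩ := counting h
  set z := y ^ 2
  have hyc : z * y = y * z := ((Commute.refl y).pow_left 2).eq
  have hzT : z ∈ (T : Subgroup G) := pow_mem hy 2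
  have hzc := sq_mem_center h T hy hy4
  have hz2 : z * z = 1 := by
    rw [← pow_add]
    exact (congrArg (y ^ ·) hy4).symm.trans (pow_orderOf_eq_one y)
  have hz1 : z ≠ 1 := fun e => by
    have := orderOf_dvd_of_pow_eq_one e
    rw [hy4] at this
    norm_num at this
  set Y := zpowers (⟨y, hy⟩ : (T : Subgroup G))
  have hY : ∀ x : (T : Subgroup G), x ∈ Y → (x : G) = 1 ∨ (x : G) = y ∨ (x : G) = z ∨ (x : G) = z * y := by
    intro x hx
    obtain ⟨n, rfl⟩ := mem_powers_iff_mem_zpowers.mpr hx
    have e : (y : G) ^ n = y ^ (n % 4) := hy4 ▸ (pow_mod_orderOf y n).symm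
    have e' : (((⟨y, hy⟩ : (T : Subgroup G)) ^ n : (T : Subgroup G)) : G) = y ^ (n % 4) := by
      rw [← e]; rfl
    have h4 : n % 4 < 4 := Nat.mod_lt _ (by norm_num)
    simp only [e']
    interval_cases n % 4
    · simp
    · simp
    · exact Or.inr (Or.inr (Or.inl rfl))
    · exact Or.inr (Or.inr (Or.inr (pow_succ y 2)))
  have hidx : Y.index = 2 := by
    have := Y.card_mul_index
    rw [Nat.card_zpowers, show orderOf (⟨y, hy⟩ : (T : Subgroup G)) = 4 from
      (Subgroup.orderOf_coe _).symm.trans hy4, card_T h T] at this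
    omega
  have hout : ∀ t : (T : Subgroup G), t ∉ Y → (t : G) * t = 1 := by
    intro t ht
    rcases orderOf_cases h (t : G) with e | e | e | e | e
    · rw [orderOf_eq_one_iff] at e
      exact absurd (show t = 1 from Subtype.ext e) (fun e' => ht (e' ▸ one_mem Y))
    · rw [← pow_two]
      exact (congrArg ((t : G) ^ ·) e).symm.trans (pow_orderOf_eq_one _)
    · have := (Subgroup.orderOf_dvd_natCard _ t.2).trans (dvd_of_eq (card_T h T))
      rw [e] at this; norm_num at this
    · rcases huniq T y hy hy4 t t.2 e with e' | e'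
      · obtain rfl : t = ⟨y, hy⟩ := Subtype.ext e'
        exact absurd (mem_zpowers _) ht
      · obtain rfl : t = ⟨y, hy⟩⁻¹ := Subtype.ext e'
        exact absurd (inv_mem (mem_zpowers _)) ht
    · have := (Subgroup.orderOf_dvd_natCard _ t.2).trans (dvd_of_eq (card_T h T))
      rw [e] at this; norm_num at this
  obtain ⟨t, -, ht⟩ := SetLike.exists_of_lt (lt_top_iff_ne_top.mpr fun e : Y = ⊤ => by
    rw [e, index_top] at hidx; norm_num at hidx)
  have hty : t * ⟨y, hy⟩ ∉ Y := fun e =>
    ht (by simpa using mul_mem e (inv_mem (mem_zpowers (⟨y, hy⟩ : (T : Subgroup G)))))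
  have htz : ∀ x : (T : Subgroup G), z * x = x * z := fun x => (hzc x x.2).symm
  have hne : ∀ x : (T : Subgroup G), x ∉ Y → (x : G) ≠ 1 ∧ (x : G) ≠ z := fun x hx =>
    ⟨fun e => hx (by rw [show x = 1 from Subtype.ext e]; exact one_mem _),
     fun e => hx (by
      rw [show x = (⟨y, hy⟩ : (T : Subgroup G)) ^ 2 from Subtype.ext e]
      exact pow_mem (mem_zpowers _) 2)⟩
  let mk : ∀ x : (T : Subgroup G), x ∉ Y → Subgroup G := fun x hx =>
    fourGroup z x hz2 (hout x hx) (htz x)
  have hmk : ∀ x hx, IsKleinFour (mk x hx) ∧ mk x hx ≤ (T : Subgroup G) := fun x hx =>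
    ⟨isKleinFour_fourGroup z x _ _ _ hz1 (hne x hx).1 (hne x hx).2, fun u hu => by
      change u ∈ ({1, z, (x : G), z * x} : Set G) at hu
      simp only [Set.mem_insert_iff, Set.mem_singleton_iff] at hu
      rcases hu with rfl | rfl | rfl | rfl
      exacts [one_mem _, hzT, x.2, mul_mem hzT x.2]⟩
  refine ⟨mk t ht, mk _ hty, (hmk t ht).1, (hmk _ hty).1, (hmk t ht).2, (hmk _ hty).2, fun e => ?_,
    fun V hVT hV => ?_⟩
  · -- `t y` is none of `1, z, t, z t`
    have hmem : (t : G) * y ∈ ({1, z, (t : G), z * t} : Set G) := by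
      change (t : G) * y ∈ (mk t ht : Set G)
      rw [e]
      show (t : G) * y ∈ ({1, z, ((t : G) * y), z * ((t : G) * y)} : Set G)
      simp
    simp only [Set.mem_insert_iff, Set.mem_singleton_iff] at hmem
    rcases hmem with e' | e' | e' | e'
    · exact (hne _ hty).1 e'
    · exact (hne _ hty).2 e'
    · rw [mul_eq_left] at e'
      rw [e', orderOf_one] at hy4; norm_num at hy4
    · have hyz : y = z := mul_left_cancel (e'.trans (htz t))
      have h1 : y = 1 := mul_eq_left.mp ((pow_two y).symm.trans hyz.symm)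
      rw [h1, orderOf_one] at hy4; norm_num at hy4
  · have := hV
    obtain ⟨w, hwV, hw1, hwc⟩ := exists_central_mem h (card_klein V) hVT
    obtain rfl := central_unique h T (hVT hwV) hzT hw1 hz1 hwc hzc
    -- some element of `V` lies outside `Y`
    obtain ⟨u, huV, huY⟩ : ∃ u, ∃ hu : u ∈ V, (⟨u, hVT hu⟩ : (T : Subgroup G)) ∉ Y := by
      by_contra! hall
      have h2 : (V : Set G).ncard ≤ ({1, z} : Set G).ncard := by
        refine Set.ncard_le_ncard fun u hu => ?_
        have hsq := mul_self_of_klein V hu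
        rcases hY _ (hall u hu) with e | e | e | e <;> dsimp only at e <;> subst e
        · simp
        · exfalso
          have := orderOf_dvd_of_pow_eq_one ((pow_two _).trans hsq)
          rw [hy4] at this
          norm_num at this
        · simp
        · exfalso
          apply hz1
          calc z = y * y := pow_two y
            _ = z * z * (y * y) := by rw [hz2, one_mul]
            _ = z * (z * y) * y := by group
            _ = z * (y * z) * y := by rw [hyc]
            _ = (z * y) * (z * y) := by group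
            _ = 1 := hsq
      rw [← Nat.card_coe_set_eq, Set.ncard_pair hz1.symm] at h2
      have := card_klein V
      change Nat.card V ≤ 2 at h2
      omega
    have key : ∀ (x : (T : Subgroup G)) (hx : x ∉ Y), (x : G) ∈ V → V = mk x hx := fun x hx hxV =>
      (eq_of_le_of_card_ge (fun u hu => by
        change u ∈ ({1, z, (x : G), z * x} : Set G) at hu
        simp only [Set.mem_insert_iff, Set.mem_singleton_iff] at hu
        rcases hu with rfl | rfl | rfl | rfl
        exacts [one_mem _, hwV, hxV, mul_mem hwV hxV])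
        (by have := (hmk x hx).1; rw [card_klein (mk x hx), card_klein V])).symm
    -- `u` differs from `t` or `t y` by `1` or `z`
    have hmemY : t⁻¹ * (⟨u, hVT huV⟩ : (T : Subgroup G)) ∈ Y := by
      rw [mul_mem_iff_of_index_two hidx, inv_mem_iff]
      exact iff_of_false ht huY
    rcases hY _ hmemY with e | e | e | e <;> simp only [Subgroup.coe_mul, Subgroup.coe_inv] at e
    · left; exact key t ht (by rwa [inv_mul_eq_one.mp e])
    · right; refine key _ hty ?_
      show (t : G) * y ∈ V
      rwa [← e, mul_inv_cancel_left]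
    · left; refine key t ht ?_
      have hu' : u = z * (t : G) := by rw [htz t, ← e, mul_inv_cancel_left]
      have := mul_mem hwV huV
      rwa [hu', ← mul_assoc, hz2, one_mul] at this
    · right; refine key _ hty ?_
      have hu' : u = z * ((t : G) * y) := by
        rw [← mul_assoc, htz t, mul_assoc, ← e, mul_inv_cancel_left]
      have := mul_mem hwV huV
      rw [hu', ← mul_assoc, hz2, one_mul] at this
      exact this

theorem map_conj_eq_smul (g : G) (H : Subgroup G) :
    H.map (MulAut.conj g).toMonoidHom = MulAut.conj g • H := rfl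

theorem normalizer_map_conj (g : G) (H : Subgroup G) :
    normalizer ((H.map (MulAut.conj g).toMonoidHom : Subgroup G) : Set G) =
      (normalizer (H : Set G)).map (MulAut.conj g).toMonoidHom :=
  (map_equiv_normalizer_eq H (MulAut.conj g)).symm

theorem isKleinFour_map (g : G) (U : Subgroup G) [IsKleinFour U] :
    IsKleinFour (U.map (MulAut.conj g).toMonoidHom) := by
  let e : U ≃* U.map (MulAut.conj g).toMonoidHom :=
    U.equivMapOfInjective _ (MulAut.conj g).injective
  exact ⟨(Nat.card_congr e.toEquiv).symm.trans (card_klein U),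
    (Monoid.exponent_eq_of_mulEquiv e).symm.trans IsKleinFour.exponent_two⟩

theorem not_conj_klein (h : Nat.card G = 168) (T : Sylow 2 G) {U W : Subgroup G}
    (hU : U ≤ (T : Subgroup G)) (hW : W ≤ (T : Subgroup G)) [IsKleinFour U] [IsKleinFour W]
    (hne : U ≠ W) (g : G) : U.map (MulAut.conj g).toMonoidHom ≠ W := by
  intro hg
  set N := normalizer (W : Set G)
  have hTN : (T : Subgroup G) ≤ N := le_normalizer_four h (card_klein W) hW
  have hgT : ((g • T : Sylow 2 G) : Subgroup G) ≤ N := by
    refine le_normalizer_four h (card_klein W) ?_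
    rw [← hg, Sylow.coe_subgroup_smul, map_conj_eq_smul]
    exact pointwise_smul_le_pointwise_smul_iff.mpr hU
  obtain ⟨n, hn⟩ := MulAction.exists_smul_eq N ((g • T).subtype hgT) (T.subtype hTN)
  rw [Sylow.smul_subtype] at hn
  have hn' : ((n : G) * g) • T = T := by rw [mul_smul]; exact Sylow.subtype_injective hn
  have hmem : (n : G) * g ∈ (T : Subgroup G) :=
    (normalizer_two h T).le (Sylow.smul_eq_iff_mem_normalizer.mp hn')
  have hfix : ∀ (H : Subgroup G) (a : G), a ∈ normalizer (H : Set G) →
      H.map (MulAut.conj a).toMonoidHom = H := fun H a ha => by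
    ext x
    constructor
    · rintro ⟨b, hb, rfl⟩
      exact (mem_normalizer_iff.mp ha b).mp hb
    · intro hx
      exact ⟨a⁻¹ * x * a, (mem_normalizer_iff.mp ha _).mpr (by
        rwa [show a * (a⁻¹ * x * a) * a⁻¹ = x by group]), by simp [mul_assoc]⟩
  apply hne
  calc U = U.map (MulAut.conj ((n : G) * g)).toMonoidHom :=
        (hfix U _ (le_normalizer_four h (card_klein U) hU hmem)).symm
    _ = (U.map (MulAut.conj g).toMonoidHom).map (MulAut.conj (n : G)).toMonoidHom := by
        rw [map_map]; congr 1; ext x; simp [mul_assoc]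
    _ = W := by rw [hg]; exact hfix W _ n.2

theorem conj_klein_cases (h : Nat.card G = 168) (T : Sylow 2 G) {U W : Subgroup G}
    (hall : ∀ V : Subgroup G, V ≤ (T : Subgroup G) → IsKleinFour V → V = U ∨ V = W)
    (V : Subgroup G) [IsKleinFour V] : ∃ g : G, V = U.map (MulAut.conj g).toMonoidHom ∨
      V = W.map (MulAut.conj g).toMonoidHom := by
  obtain ⟨S, hS⟩ := exists_sylow_ge_klein V
  obtain ⟨g, hg⟩ := MulAction.exists_smul_eq G T S
  refine ⟨g, ?_⟩
  have hcomp : ((V.map (MulAut.conj g⁻¹).toMonoidHom).map (MulAut.conj g).toMonoidHom) = V := by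
    rw [map_map]
    convert map_id V
    ext x
    simp [mul_assoc]
  have hle : V.map (MulAut.conj g⁻¹).toMonoidHom ≤ (T : Subgroup G) := by
    rintro _ ⟨x, hx, rfl⟩
    have hx' := hS hx
    rw [← hg, Sylow.coe_subgroup_smul, mem_pointwise_smul_iff_inv_smul_mem] at hx'
    simpa [MulAut.smul_def] using hx'
  rcases hall _ hle (isKleinFour_map g⁻¹ V) with e | e
  · exact Or.inl (hcomp.symm.trans (by rw [e]))
  · exact Or.inr (hcomp.symm.trans (by rw [e]))

theorem sylow_three_of_card (h : Nat.card G = 168) (H : Subgroup G) (h3 : 3 ∣ Nat.card H) :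
    ∀ S : Sylow 3 H, ∃ Q : Sylow 3 G, (Q : Subgroup G) = (S : Subgroup H).map H.subtype := by
  intro S
  obtain ⟨R, hR⟩ := (S.isPGroup'.map H.subtype).exists_le_sylow
  refine ⟨R, (eq_of_le_of_card_ge hR ?_).symm⟩
  rw [card_Q h, card_map_of_injective H.subtype_injective]
  exact Nat.le_of_dvd Nat.card_pos (S.dvd_card_of_dvd_card h3)

theorem three_normal_le (h : Nat.card G = 168) (H : Subgroup G) (h3 : 3 ∣ Nat.card H)
    (h1 : Nat.card (Sylow 3 H) = 1) :
    ∃ Q : Sylow 3 G, H ≤ normalizer ((Q : Subgroup G) : Set G) := by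
  obtain ⟨S⟩ := (inferInstance : Nonempty (Sylow 3 H))
  obtain ⟨Q, hQ⟩ := sylow_three_of_card h H h3 S
  refine ⟨Q, ?_⟩
  have : Subsingleton (Sylow 3 H) := (Nat.card_eq_one_iff_unique.mp h1).1
  have hn : (S : Subgroup H).Normal := S.normal_of_subsingleton
  rw [hQ]
  intro x hx
  rw [mem_normalizer_iff]
  intro a
  constructor
  · rintro ⟨b, hb, rfl⟩
    exact ⟨_, hn.conj_mem b hb ⟨x, hx⟩, rfl⟩
  · rintro ⟨b, hb, hab⟩
    refine ⟨_, hn.conj_mem b hb ⟨x, hx⟩⁻¹, ?_⟩
    simp only [map_mul, map_inv, inv_inv, Subgroup.coe_subtype] at hab ⊢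
    rw [hab]; group

theorem card_sylow_three_normalizer_klein (h : Nat.card G = 168) (U : Subgroup G) [IsKleinFour U] :
    Nat.card (Sylow 3 (normalizer (U : Set G))) = 4 := by
  set N := normalizer (U : Set G)
  have hN := card_normalizer_klein h U
  have hfac : Nat.card N = 3 ^ 1 * 8 := hN
  obtain ⟨S⟩ := (inferInstance : Nonempty (Sylow 3 N))
  have hd : Nat.card (Sylow 3 N) ∣ 8 := index_sylow hfac (by norm_num) S ▸ S.card_dvd_index
  have hmod : Nat.card (Sylow 3 N) ≡ 1 [MOD 3] := card_sylow_modEq_one 3 N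
  have hne : Nat.card (Sylow 3 N) ≠ 1 := fun h1 => by
    obtain ⟨Q, hQ⟩ := three_normal_le h N (by rw [hN]; norm_num) h1
    have h7 := card_le_of_le hQ
    rw [card_normalizer_three h Q, hN] at h7
    omega
  unfold Nat.ModEq at hmod
  have := Nat.le_of_dvd (by norm_num) hd
  interval_cases hc : Nat.card (Sylow 3 N) <;> omega

theorem normalizer_three_le (h : Nat.card G = 168) (Q : Sylow 3 G) :
    ∃ U : Subgroup G, IsKleinFour U ∧
      normalizer ((Q : Subgroup G) : Set G) ≤ normalizer (U : Set G) := by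
  obtain ⟨T⟩ := (inferInstance : Nonempty (Sylow 2 G))
  obtain ⟨U, -, hU, -, -, -, -, -⟩ := exists_klein_pair h T
  set N := normalizer (U : Set G) with hN
  obtain ⟨S⟩ := (inferInstance : Nonempty (Sylow 3 N))
  obtain ⟨R, hR⟩ := sylow_three_of_card h N (by rw [card_normalizer_klein h U]; norm_num) S
  have hle : normalizer ((R : Subgroup G) : Set G) ≤ N := by
    have h6 := card_normalizer_mul_card_sylow S
    rw [card_sylow_three_normalizer_klein h U, card_normalizer_klein h U] at h6
    have hmap : (normalizer ((S : Subgroup N) : Set N)).map N.subtype ≤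
        normalizer ((R : Subgroup G) : Set G) := hR ▸ le_normalizer_map _
    have heq := eq_of_le_of_card_ge hmap (by
      rw [card_normalizer_three h R, card_map_of_injective N.subtype_injective]; omega)
    rw [← heq]
    exact map_subtype_le _
  obtain ⟨g, rfl⟩ := MulAction.exists_smul_eq G R Q
  refine ⟨U.map (MulAut.conj g).toMonoidHom, isKleinFour_map g U, ?_⟩
  rw [Sylow.coe_subgroup_smul, ← map_conj_eq_smul, normalizer_map_conj, normalizer_map_conj]
  exact map_mono hle

theorem le_normalizer_four_klein (h : Nat.card G = 168) {H V : Subgroup G}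
    (hV : Nat.card V = 4) (hH : H ≤ normalizer (V : Set G)) (h3 : 3 ∣ Nat.card H) :
    IsKleinFour V := by
  have : Finite V := inferInstance
  obtain ⟨q, hq⟩ := exists_prime_orderOf_dvd_card' (G := H) 3 h3
  have : Nontrivial V := Finite.one_lt_card_iff_nontrivial.mp (by omega)
  refine ⟨hV, (Monoid.exponent_eq_prime_iff Nat.prime_two).mpr fun v hv => ?_⟩
  have hd : orderOf v ∣ 2 ^ 2 := (orderOf_dvd_natCard v).trans (dvd_of_eq hV)
  obtain ⟨k, hk, hk'⟩ := (Nat.dvd_prime_pow Nat.prime_two).mp hd
  rcases (show k = 0 ∨ k = 1 ∨ k = 2 by omega) with rfl | rfl | rfl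
  · exact absurd (orderOf_eq_one_iff.mp hk') hv
  · exact hk'
  exfalso
  -- `V = ⟨v⟩` and `q` permutes its two generators, so `q` centralises `v`
  have hv4 : orderOf (v : G) = 4 := (Subgroup.orderOf_coe v).trans hk'
  have hVz : zpowers (v : G) = V :=
    eq_of_le_of_card_ge (zpowers_le.mpr v.2) (by rw [hV, Nat.card_zpowers, hv4])
  have hgen : ∀ a ∈ V, orderOf a = 4 → a = (v : G) ∨ a = (v : G)⁻¹ := by
    intro a ha ha4
    rw [← hVz] at ha
    obtain ⟨n, rfl⟩ := mem_powers_iff_mem_zpowers.mpr ha
    have hv' : (v : G) ^ 4 = 1 := hv4 ▸ pow_orderOf_eq_one _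
    simp only at ha4 ⊢
    rw [← pow_mod_orderOf, hv4] at ha4 ⊢
    have h4 : n % 4 < 4 := Nat.mod_lt _ (by norm_num)
    interval_cases n % 4
    · simp at ha4
    · simp
    · rw [orderOf_pow' _ two_ne_zero, hv4] at ha4; norm_num at ha4
    · right; exact eq_inv_of_mul_eq_one_left ((pow_succ (v : G) 3).symm.trans hv')
  have hconj : ∀ a ∈ V, orderOf a = 4 →
      (q : G) * a * (q : G)⁻¹ = (v : G) ∨ (q : G) * a * (q : G)⁻¹ = (v : G)⁻¹ := fun a ha ha4 =>
    hgen _ ((mem_normalizer_iff.mp (hH q.2) a).mp ha)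
      ((orderOf_injective (MulAut.conj (q : G)).toMonoidHom (MulAut.conj (q : G)).injective a).trans ha4)
  have h3q : (q : G) ^ 3 = 1 := by
    rw [← SubmonoidClass.coe_pow, ← hq, pow_orderOf_eq_one]; rfl
  have hcomm : (q : G) * v * (q : G)⁻¹ = v := by
    rcases hconj v v.2 hv4 with e | e
    · exact e
    · exfalso
      have e2 : (q : G) * (v : G)⁻¹ * (q : G)⁻¹ = (v : G) := by rw [← conj_inv, e, inv_inv]
      have e3 : (v : G) = (v : G)⁻¹ := by
        calc (v : G) = (q : G) ^ 3 * v * ((q : G) ^ 3)⁻¹ := by rw [h3q]; group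
          _ = (q : G) * ((q : G) * ((q : G) * v * (q : G)⁻¹) * (q : G)⁻¹) * (q : G)⁻¹ := by
            simp [pow_succ, mul_assoc]
          _ = (q : G) * v * (q : G)⁻¹ := by rw [e, e2, e]
          _ = (v : G)⁻¹ := e
      have := orderOf_dvd_of_pow_eq_one (x := (v : G)) (n := 2)
        (by rw [pow_two]; nth_rewrite 2 [e3]; exact mul_inv_cancel _)
      rw [hv4] at this
      norm_num at this
  have := orderOf_dvd_of_centralizer (centralizer_three h (x := (q : G))
    (by rw [Subgroup.orderOf_coe, hq])) (mul_inv_eq_iff_eq_mul.mp hcomm).symm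
  rw [hv4] at this
  norm_num at this

theorem le_normalizer_cases (h : Nat.card G = 168) {H : Subgroup G} (hH : H ≠ ⊤) :
    (∃ P : Sylow 7 G, H ≤ normalizer ((P : Subgroup G) : Set G)) ∨
      ∃ U : Subgroup G, IsKleinFour U ∧ H ≤ normalizer (U : Set G) := by
  have hle := card_le h hH
  have hd : Nat.card H ∣ 168 := h ▸ card_subgroup_dvd_card H
  by_cases h7 : 7 ∣ Nat.card H
  · left
    obtain ⟨S⟩ := (inferInstance : Nonempty (Sylow 7 H))
    obtain ⟨P, hP⟩ := (S.isPGroup'.map H.subtype).exists_le_sylow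
    have hPeq : (S : Subgroup H).map H.subtype = (P : Subgroup G) :=
      eq_of_le_of_card_ge hP (by
        rw [card_P h, card_map_of_injective H.subtype_injective]
        exact Nat.le_of_dvd Nat.card_pos (S.dvd_card_of_dvd_card h7))
    refine ⟨P, ?_⟩
    have h1 : Nat.card (Sylow 7 H) = 1 := by
      have hmod : Nat.card (Sylow 7 H) ≡ 1 [MOD 7] := card_sylow_modEq_one 7 H
      have hS7 := (S : Subgroup H).card_mul_index
      have h77 : 7 ≤ Nat.card (S : Subgroup H) :=
        Nat.le_of_dvd Nat.card_pos (S.dvd_card_of_dvd_card h7)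
      have hidx : (S : Subgroup H).index ≤ 3 := by nlinarith
      have := Nat.le_of_dvd (Nat.pos_of_ne_zero index_ne_zero_of_finite) S.card_dvd_index
      unfold Nat.ModEq at hmod
      omega
    have : Subsingleton (Sylow 7 H) := (Nat.card_eq_one_iff_unique.mp h1).1
    have hn : (S : Subgroup H).Normal := S.normal_of_subsingleton
    rw [← hPeq]
    intro x hx
    rw [mem_normalizer_iff]
    intro a
    constructor
    · rintro ⟨b, hb, rfl⟩
      exact ⟨_, hn.conj_mem b hb ⟨x, hx⟩, rfl⟩
    · rintro ⟨b, hb, hab⟩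
      refine ⟨_, hn.conj_mem b hb ⟨x, hx⟩⁻¹, ?_⟩
      simp only [map_mul, map_inv, inv_inv, Subgroup.coe_subtype] at hab ⊢
      rw [hab]; group
  right
  have hd24 : Nat.card H ∣ 24 := by
    refine (Nat.Coprime.dvd_of_dvd_mul_left ?_ (show Nat.card H ∣ 7 * 24 from hd))
    exact ((by norm_num : Nat.Prime 7).coprime_iff_not_dvd.mpr h7).symm
  by_cases h3 : 3 ∣ Nat.card H
  · obtain ⟨c, hc⟩ := h3
    have hc8 : c ∣ 8 := Nat.dvd_of_mul_dvd_mul_left (by norm_num : 0 < 3) (hc ▸ hd24)
    have hfac : Nat.card H = 3 ^ 1 * c := hc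
    have hn3 : ¬ 3 ∣ c := fun e => absurd (e.trans hc8) (by norm_num)
    obtain ⟨S⟩ := (inferInstance : Nonempty (Sylow 3 H))
    have hSd : Nat.card (Sylow 3 H) ∣ c := index_sylow hfac hn3 S ▸ S.card_dvd_index
    have hmod : Nat.card (Sylow 3 H) ≡ 1 [MOD 3] := card_sylow_modEq_one 3 H
    by_cases h1 : Nat.card (Sylow 3 H) = 1
    · obtain ⟨Q, hQ⟩ := three_normal_le h H ⟨c, hc⟩ h1
      obtain ⟨U, hU, hUQ⟩ := normalizer_three_le h Q
      exact ⟨U, hU, hQ.trans hUQ⟩
    have hn4 : Nat.card (Sylow 3 H) = 4 := by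
      unfold Nat.ModEq at hmod
      have := Nat.le_of_dvd (by norm_num) (hSd.trans hc8)
      interval_cases hn : Nat.card (Sylow 3 H) <;> omega
    have hc48 : c = 4 ∨ c = 8 := by
      have h48 : 4 ∣ c := hn4 ▸ hSd
      have := Nat.le_of_dvd (by norm_num) hc8
      interval_cases c <;> omega
    -- a normal subgroup of order four
    obtain ⟨V, hV4, hVn⟩ : ∃ V : Subgroup H, Nat.card V = 4 ∧ V.Normal := by
      rcases hc48 with rfl | rfl
      · have hcount := card_sylow_eq_one_of_count (G := H) (p := 2) {g | orderOf g = 3}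
          (fun g hg k hk => by
            have := orderOf_dvd_of_pow_eq_one hk
            rw [show orderOf g = 3 from hg] at this
            have := (Nat.prime_dvd_prime_iff_eq Nat.prime_three Nat.prime_two).mp
              (Nat.prime_three.dvd_of_dvd_pow this)
            omega)
          (by
            have h8 : ({g : H | orderOf g = 3}).ncard = 8 := by
              rw [← Nat.card_coe_set_eq]
              exact (card_orderOf_eq_prime fun Q => by
                rw [card_sylow_subgroup hfac hn3 Q, pow_one]).trans (by rw [hn4])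
            rw [h8, hc, show (3 * 4 : ℕ).factorization 2 = 2 by decide +kernel]; norm_num)
        obtain ⟨R⟩ := (inferInstance : Nonempty (Sylow 2 H))
        have : Subsingleton (Sylow 2 H) := (Nat.card_eq_one_iff_unique.mp hcount).1
        exact ⟨R, card_sylow_subgroup (e := 2) (m := 3) hc (by norm_num) R, R.normal_of_subsingleton⟩
      · have hfac2 : Nat.card H = 2 ^ 3 * 3 := hc
        have hcard8 : ∀ R : Sylow 2 H, Nat.card (R : Subgroup H) = 8 := fun R =>
          card_sylow_subgroup hfac2 (by norm_num) R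
        obtain ⟨R₀⟩ := (inferInstance : Nonempty (Sylow 2 H))
        have hn23 : Nat.card (Sylow 2 H) = 3 := by
          rcases (Nat.dvd_prime Nat.prime_three).mp
            (index_sylow hfac2 (by norm_num) R₀ ▸ R₀.card_dvd_index) with e | e
          · exfalso
            obtain ⟨T, hT⟩ := (R₀.isPGroup'.map H.subtype).exists_le_sylow
            have : Subsingleton (Sylow 2 H) := (Nat.card_eq_one_iff_unique.mp e).1
            have hn : (R₀ : Subgroup H).Normal := R₀.normal_of_subsingleton
            have hTeq : (R₀ : Subgroup H).map H.subtype = (T : Subgroup G) :=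
              eq_of_le_of_card_ge hT (by
                rw [card_T h, card_map_of_injective H.subtype_injective, hcard8])
            have hHT : H ≤ normalizer ((T : Subgroup G) : Set G) := by
              rw [← hTeq]
              have := le_normalizer_map (H := (R₀ : Subgroup H)) H.subtype
              rw [normalizer_eq_top_iff.mpr hn, ← MonoidHom.range_eq_map, range_subtype] at this
              exact this
            rw [normalizer_two h T] at hHT
            have h9 := card_le_of_le hHT
            rw [card_T h, hc] at h9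
            omega
          · exact e
        obtain ⟨A, B, hAB, hidx⟩ := exists_pair_index_le (G := H) 2 2 (by
          rw [hn23]; decide)
        set V := (A : Subgroup H) ⊓ B
        have hV4 : Nat.card V = 4 := by
          have hd8 : Nat.card V ∣ 8 := hcard8 A ▸ card_dvd_of_le inf_le_left
          have hlt : Nat.card V ≠ 8 := fun h8 =>
            (inf_lt_left hAB).ne (eq_of_le_of_card_ge inf_le_left (by rw [hcard8, h8]))
          have h8 := (V.subgroupOf (A : Subgroup H)).card_mul_index
          rw [Nat.card_congr (subgroupOfEquivOfLe inf_le_left).toEquiv, hcard8,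
            inf_subgroupOf_left] at h8
          have := Nat.le_of_dvd (by norm_num) hd8
          have : 4 ≤ Nat.card V := by
            have : ((B : Subgroup H).subgroupOf (A : Subgroup H)).index ≤ 2 := hidx
            nlinarith
          interval_cases hv : Nat.card V <;> omega
        refine ⟨V, hV4, ?_⟩
        have hAN : ∀ R : Sylow 2 H, V ≤ (R : Subgroup H) →
            (R : Subgroup H) ≤ normalizer (V : Set H) := fun R hR => by
          rw [← normal_subgroupOf_iff_le_normalizer hR]
          apply normal_of_index_eq_two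
          have := (V.subgroupOf (R : Subgroup H)).card_mul_index
          rw [Nat.card_congr (subgroupOfEquivOfLe hR).toEquiv, hV4, hcard8] at this
          omega
        rw [← normalizer_eq_top_iff]
        have hA := hAN A inf_le_left
        have hB := hAN B inf_le_right
        have h1 : 8 ∣ Nat.card (normalizer (V : Set H)) := hcard8 A ▸ card_dvd_of_le hA
        have h2 : Nat.card (normalizer (V : Set H)) ∣ 3 * 8 :=
          (card_subgroup_dvd_card _).trans (dvd_of_eq hc)
        have h3' : Nat.card (normalizer (V : Set H)) ≠ 8 := fun h8 => hAB <| Sylow.ext <|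
          (eq_of_le_of_card_ge hA (by rw [hcard8, h8])).trans
            (eq_of_le_of_card_ge hB (by rw [hcard8, h8])).symm
        apply eq_top_of_card_eq
        have h4 := Nat.le_of_dvd (by norm_num) h2
        have h5 : 0 < Nat.card (normalizer (V : Set H)) := Nat.card_pos
        rw [hc]
        interval_cases hv : Nat.card (normalizer (V : Set H)) <;> omega
    have hHV : H ≤ normalizer ((V.map H.subtype : Subgroup G) : Set G) := by
      have := le_normalizer_map (H := V) H.subtype
      rwa [normalizer_eq_top_iff.mpr hVn, ← MonoidHom.range_eq_map, range_subtype] at this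
    refine ⟨V.map H.subtype, le_normalizer_four_klein h ?_ hHV ⟨c, hc⟩, hHV⟩
    rw [card_map_of_injective H.subtype_injective, hV4]
  · have hd8 : Nat.card H ∣ 2 ^ 3 := Nat.Coprime.dvd_of_dvd_mul_left
      ((Nat.prime_three.coprime_iff_not_dvd.mpr h3).symm) (show Nat.card H ∣ 3 * 2 ^ 3 from hd24)
    obtain ⟨k, -, hk⟩ := (Nat.dvd_prime_pow Nat.prime_two).mp hd8
    obtain ⟨T, hT⟩ := (IsPGroup.of_card hk).exists_le_sylow
    obtain ⟨U, -, hU, -, hUT, -, -, -⟩ := exists_klein_pair h T
    exact ⟨U, hU, hT.trans (le_normalizer_four h (card_klein U) hUT)⟩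

theorem isCoatom_normalizer_klein (h : Nat.card G = 168) (U : Subgroup G) [IsKleinFour U] :
    IsCoatom (normalizer (U : Set G)) := by
  refine ⟨normalizer_klein_ne_top U h, fun H hlt => ?_⟩
  by_contra hH
  exact hlt.ne (eq_of_le_of_card_ge hlt.le
    (by rw [card_normalizer_klein h U]; exact card_le h hH))

theorem isCoatom_normalizer_seven (h : Nat.card G = 168) (P : Sylow 7 G) :
    IsCoatom (normalizer ((P : Subgroup G) : Set G)) := by
  refine ⟨normalizer_sylow_ne_top (nc h) (by rw [h]; norm_num) P, fun H hlt => ?_⟩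
  by_contra hH
  refine hlt.ne (eq_of_le_of_card_ge hlt.le ?_)
  have hle := card_le h hH
  have hd := card_dvd_of_le hlt.le
  rw [card_normalizer_seven h P] at hd ⊢
  obtain ⟨k, hk⟩ := hd
  rw [hk] at hle ⊢
  omega

theorem eq_normalizer_of_isCoatom (h : Nat.card G = 168) {M : Subgroup G} (hM : IsCoatom M) :
    (∃ P : Sylow 7 G, M = normalizer ((P : Subgroup G) : Set G)) ∨
      ∃ U : Subgroup G, IsKleinFour U ∧ M = normalizer (U : Set G) := by
  rcases le_normalizer_cases h hM.1 with ⟨P, hP⟩ | ⟨U, hU, hUle⟩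
  · exact Or.inl ⟨P, (hP.eq_of_not_lt fun hlt =>
      (isCoatom_normalizer_seven h P).1 (hM.2 _ hlt))⟩
  · exact Or.inr ⟨U, hU, (hUle.eq_of_not_lt fun hlt => normalizer_klein_ne_top U h (hM.2 _ hlt))⟩

end Cfsg.Agent.SmallOrders.S168
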